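import Mathlib
import Cfsg.Agent.FastGrp
import Cfsg.Agent.Prune
set_option linter.all false
prune_inst 0x7f00000000000000000000000000000000000000000000000000000000000000000000000000000000000000000000000000000000000000000000000000000000000000000000000000000000000000003fffffffffffffffffffffffffffbeffbdffffffff
open scoped Cfsg.Agent.FastGrp

/-!
# Counting classes of maximal subgroups (helper940, for S5906, S5907)

* `Cls n G` : `G` has exactly `n` classes of maximal subgroups (literally the hypothesis of S5906, S5907).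
* `Apart A B` : no proper subgroup contains `A` and a conjugate of `B`.
* `Sep n G` : `G` has `n` proper subgroups, pairwise `Apart`; then `Cls m G → n ≤ m`.
* transfer along isomorphisms and central quotients of perfect groups, criteria by orders, Sylow indices,
  maximality.
-/

set_option autoImplicit false

namespace Cfsg.Agent.H940.MaxCls

variable {G : Type*} [Group G] {H : Type*} [Group H]

/-- exactly `n` classes of maximal subgroups, as in S5906 and S5907 -/
def Cls (n : ℕ) (G : Type*) [Group G] : Prop :=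
  ∃ M : Fin n → Subgroup G, (∀ i, IsCoatom (M i)) ∧
    (∀ i j, (∃ g : G, Subgroup.map (MulAut.conj g).toMonoidHom (M i) = M j) → i = j) ∧
    (∀ K : Subgroup G, IsCoatom K → ∃ i, ∃ g : G, Subgroup.map (MulAut.conj g).toMonoidHom (M i) = K)

/-- no proper subgroup contains `A` and a conjugate of `B` -/
def Apart (A B : Subgroup G) : Prop :=
  ∀ (g : G) (K : Subgroup G), A ≤ K → (∀ x ∈ B, g * x * g⁻¹ ∈ K) → K = ⊤

/-- `n` proper pairwise apart subgroups -/
def Sep (n : ℕ) (G : Type*) [Group G] : Prop :=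
  ∃ A : Fin n → Subgroup G, (∀ i, A i ≠ ⊤) ∧ ∀ i j, i < j → Apart (A i) (A j)

theorem mem_map_conj {g : G} {A : Subgroup G} {x : G} :
    x ∈ Subgroup.map (MulAut.conj g).toMonoidHom A ↔ g⁻¹ * x * g ∈ A := by
  rw [Subgroup.mem_map]
  constructor
  · rintro ⟨y, hy, rfl⟩
    have h1 : g⁻¹ * ((MulAut.conj g).toMonoidHom y) * g = y := by
      show g⁻¹ * (g * y * g⁻¹) * g = y
      group
    rw [h1]
    exact hy
  · intro h
    refine ⟨g⁻¹ * x * g, h, ?_⟩
    show g * (g⁻¹ * x * g) * g⁻¹ = x
    group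

theorem Apart.symm {A B : Subgroup G} (h : Apart A B) : Apart B A := by
  intro g K hB hA
  have h1 := h g⁻¹ (Subgroup.map (MulAut.conj g⁻¹).toMonoidHom K)
    (fun x hx => mem_map_conj.2 (by simpa only [_root_.inv_inv] using hA x hx))
    (fun x hx => mem_map_conj.2 (by
      have : g⁻¹⁻¹ * (g⁻¹ * x * g⁻¹⁻¹) * g⁻¹ = x := by group
      rw [this]
      exact hB hx))
  refine top_le_iff.1 fun x _ => ?_
  have h2 : g⁻¹ * x * g ∈ Subgroup.map (MulAut.conj g⁻¹).toMonoidHom K := by
    rw [h1]
    exact Subgroup.mem_top _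
  rw [mem_map_conj] at h2
  have h3 : g⁻¹⁻¹ * (g⁻¹ * x * g) * g⁻¹ = x := by group
  rwa [h3] at h2

theorem Apart.mono {A B A' B' : Subgroup G} (h : Apart A B) (hA : A ≤ A') (hB : B ≤ B') : Apart A' B' :=
  fun g K h1 h2 => h g K (hA.trans h1) fun x hx => h2 x (hB hx)

/-- `B` may be replaced by a conjugate -/
theorem Apart.conj_right {A B B' : Subgroup G} (h : Apart A B) (c : G) (hc : ∀ x ∈ B, c * x * c⁻¹ ∈ B') :
    Apart A B' := by
  intro g K h1 h2
  refine h (g * c) K h1 fun x hx => ?_
  have := h2 _ (hc x hx)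
  have h3 : g * (c * x * c⁻¹) * g⁻¹ = g * c * x * (g * c)⁻¹ := by group
  rwa [h3] at this

/-- a maximal subgroup is apart from everything that is not conjugate into it -/
theorem apart_of_coatom {A B : Subgroup G} (hA : IsCoatom A) (hB : ∀ g : G, ∃ x ∈ B, g * x * g⁻¹ ∉ A) :
    Apart A B := by
  intro g K h1 h2
  rcases eq_or_lt_of_le h1 with h | h
  · obtain ⟨x, hx, hx'⟩ := hB g
    exact absurd (by rw [h]; exact h2 x hx) hx'
  · exact hA.2 K h

/-- two maximal subgroups of different order are apart -/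
theorem apart_of_coatoms [Finite G] {A B : Subgroup G} (hA : IsCoatom A) (hB : IsCoatom B)
    (h : Nat.card A ≠ Nat.card B) : Apart A B := by
  intro g K h1 h2
  by_contra hK
  have e1 : K = A := by
    rcases eq_or_lt_of_le h1 with h | h
    · exact h.symm
    · exact absurd (hA.2 K h) hK
  have hB' : Subgroup.map (MulAut.conj g).toMonoidHom B ≤ K := by
    intro x hx
    rw [mem_map_conj] at hx
    have := h2 _ hx
    have h3 : g * (g⁻¹ * x * g) * g⁻¹ = x := by group
    rwa [h3] at this
  have hBc : IsCoatom (Subgroup.map (MulAut.conj g).toMonoidHom B) := by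
    have := (OrderIso.isCoatom_iff ((MulAut.conj g).mapSubgroup) B).2 hB
    exact this
  have e2 : K = Subgroup.map (MulAut.conj g).toMonoidHom B := by
    rcases eq_or_lt_of_le hB' with h | h
    · exact h.symm
    · exact absurd (hBc.2 K h) hK
  apply h
  rw [← e1, e2]
  exact Nat.card_congr (Subgroup.equivMapOfInjective B _ (MulAut.conj g).injective).toEquiv.symm

theorem card_map_conj (g : G) (B : Subgroup G) :
    Nat.card (Subgroup.map (MulAut.conj g).toMonoidHom B) = Nat.card B :=
  Nat.card_congr (Subgroup.equivMapOfInjective B _ (MulAut.conj g).injective).toEquiv.symm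

theorem map_conj_le {g : G} {B K : Subgroup G} (h : ∀ x ∈ B, g * x * g⁻¹ ∈ K) :
    Subgroup.map (MulAut.conj g).toMonoidHom B ≤ K := by
  intro x hx
  rw [mem_map_conj] at hx
  have := h _ hx
  have h3 : g * (g⁻¹ * x * g) * g⁻¹ = x := by group
  rwa [h3] at this

/-- criterion by orders -/
theorem apart_of_card {A B : Subgroup G}
    (h : ∀ K : Subgroup G, Nat.card A ∣ Nat.card K → Nat.card B ∣ Nat.card K → K = ⊤) : Apart A B := by
  intro g K h1 h2
  refine h K (Subgroup.card_dvd_of_le h1) ?_
  rw [← card_map_conj g B]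
  exact Subgroup.card_dvd_of_le (map_conj_le h2)

/-- criterion by orders, with the inclusion of `A` kept -/
theorem apart_of_card' {A B : Subgroup G}
    (h : ∀ K : Subgroup G, A ≤ K → Nat.card B ∣ Nat.card K → K = ⊤) : Apart A B := by
  intro g K h1 h2
  refine h K h1 ?_
  rw [← card_map_conj g B]
  exact Subgroup.card_dvd_of_le (map_conj_le h2)

/-! ### Sylow indices -/

/-- the index of a subgroup containing the normalizer of a Sylow `p`-subgroup is `1` modulo `p` -/
theorem index_modEq_one [Finite G] {p : ℕ} [hp : Fact p.Prime] (P : Sylow p G) {K : Subgroup G}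
    (h : Subgroup.normalizer ((P : Subgroup G) : Set G) ≤ K) : K.index ≡ 1 [MOD p] := by
  have hPK : (P : Subgroup G) ≤ K := Subgroup.le_normalizer.trans h
  have hrel : (Subgroup.normalizer ((P : Subgroup G) : Set G)).relIndex K ≡ 1 [MOD p] := by
    have h1 : Nat.card (Sylow p K) ≡ 1 [MOD p] := card_sylow_modEq_one p K
    have h2 : Nat.card (Sylow p K) = (Subgroup.normalizer ((P : Subgroup G) : Set G)).relIndex K := by
      rw [Sylow.card_eq_index_normalizer (P.subtype hPK)]
      unfold Subgroup.relIndex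
      congr 1
      ext x
      change x ∈ Subgroup.normalizer (((P.subtype hPK : Sylow p K) : Subgroup K) : Set K) ↔ _
      rw [Subgroup.mem_subgroupOf, Subgroup.mem_normalizer_iff, Subgroup.mem_normalizer_iff]
      constructor
      · intro hx y
        constructor
        · intro hy
          have := (hx ⟨y, hPK hy⟩).1 (by simpa [Sylow.coe_subtype, Subgroup.mem_subgroupOf] using hy)
          simpa only [Sylow.coe_subtype, Subgroup.mem_subgroupOf, _root_.Subgroup.coe_mul, _root_.InvMemClass.coe_inv] using this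
        · intro hy
          have hyK : y ∈ K := by
            have := K.mul_mem (K.mul_mem (K.inv_mem x.2) (hPK hy)) x.2
            have h3 : (x : G)⁻¹ * ((x : G) * y * (x : G)⁻¹) * (x : G) = y := by group
            rwa [h3] at this
          have := (hx ⟨y, hyK⟩).2 (by simpa only [Sylow.coe_subtype, Subgroup.mem_subgroupOf, _root_.Subgroup.coe_mul, _root_.InvMemClass.coe_inv] using hy)
          simpa [Sylow.coe_subtype, Subgroup.mem_subgroupOf] using this
      · intro hx y
        have := hx (y : G)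
        simpa only [Sylow.coe_subtype, Subgroup.mem_subgroupOf, _root_.Subgroup.coe_mul, _root_.InvMemClass.coe_inv] using this
    rw [← h2]
    exact h1
  have hG : (Subgroup.normalizer ((P : Subgroup G) : Set G)).index ≡ 1 [MOD p] := by
    have h1 := card_sylow_modEq_one p G
    rw [Sylow.card_eq_index_normalizer P] at h1
    exact h1
  have hmul : (Subgroup.normalizer ((P : Subgroup G) : Set G)).relIndex K * K.index =
      (Subgroup.normalizer ((P : Subgroup G) : Set G)).index := Subgroup.relIndex_mul_index h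
  have h4 : (Subgroup.normalizer ((P : Subgroup G) : Set G)).relIndex K * K.index ≡ 1 * K.index [MOD p] :=
    Nat.ModEq.mul_right _ hrel
  rw [hmul, one_mul] at h4
  exact h4.symm.trans hG

/-- the order of a simple group divides `n!` if there is a subgroup of index `n > 1` -/
theorem card_dvd_factorial [Finite G] [IsSimpleGroup G] {K : Subgroup G} (hK : K ≠ ⊤) :
    Nat.card G ∣ K.index.factorial := by
  have h0 : K.index ≠ 0 := Subgroup.index_ne_zero_of_finite
  haveI : Fintype (G ⧸ K) := Fintype.ofFinite _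
  have hcore : K.normalCore = ⊥ := by
    rcases (Subgroup.normalCore_normal K).eq_bot_or_eq_top with h | h
    · exact h
    · exact absurd (top_le_iff.1 (h ▸ Subgroup.normalCore_le K)) hK
  have hinj : Function.Injective (MulAction.toPermHom G (G ⧸ K)) := by
    rw [← MonoidHom.ker_eq_bot_iff, ← Subgroup.normalCore_eq_ker]
    exact hcore
  have h1 := Subgroup.card_dvd_of_injective (MulAction.toPermHom G (G ⧸ K)) hinj
  rwa [Nat.card_perm, ← Subgroup.index_eq_card] at h1

/-! ### `Sep` and `Cls` -/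

theorem Sep.mono {n m : ℕ} (h : Sep n G) (hm : m ≤ n) : Sep m G := by
  obtain ⟨A, h1, h2⟩ := h
  exact ⟨fun i => A (Fin.castLE hm i), fun i => h1 _, fun i j hij => h2 _ _ (by simpa using hij)⟩

/-- from a list of proper, pairwise apart subgroups -/
theorem sep_of_list (L : List (Subgroup G)) (h1 : ∀ A ∈ L, A ≠ ⊤) (h2 : L.Pairwise Apart) : Sep L.length G :=
  ⟨fun i => L.get i, fun i => h1 _ (List.get_mem _ _), fun i j hij => List.pairwise_iff_get.1 h2 i j hij⟩

/-- adding one more subgroup -/
theorem Sep.snoc {n : ℕ} {A : Fin n → Subgroup G} (h1 : ∀ i, A i ≠ ⊤) (h2 : ∀ i j, i < j → Apart (A i) (A j))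
    {B : Subgroup G} (hB : B ≠ ⊤) (h3 : ∀ i, Apart (A i) B) : Sep (n + 1) G := by
  refine ⟨Fin.snoc (α := fun _ => Subgroup G) A B, fun i => ?_, fun i j hij => ?_⟩
  · refine Fin.lastCases ?_ (fun i => ?_) i
    · rw [Fin.snoc_last]
      exact hB
    · rw [Fin.snoc_castSucc]
      exact h1 i
  · refine Fin.lastCases (fun hi => ?_) (fun i hi => ?_) i hij
    · exact absurd (Fin.le_last j) (not_le.2 hi)
    · rw [Fin.snoc_castSucc]
      refine Fin.lastCases (fun _ => ?_) (fun j hj => ?_) j hi
      · rw [Fin.snoc_last]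
        exact h3 i
      · rw [Fin.snoc_castSucc]
        exact h2 i j (by simpa using hj)

/-- five explicit subgroups -/
theorem sep_five {A B C D E : Subgroup G} (hA : A ≠ ⊤) (hB : B ≠ ⊤) (hC : C ≠ ⊤) (hD : D ≠ ⊤) (hE : E ≠ ⊤)
    (hAB : Apart A B) (hAC : Apart A C) (hAD : Apart A D) (hAE : Apart A E) (hBC : Apart B C)
    (hBD : Apart B D) (hBE : Apart B E) (hCD : Apart C D) (hCE : Apart C E) (hDE : Apart D E) : Sep 5 G := by
  have := sep_of_list [A, B, C, D, E] (by simp only [hA, hB, hC, hD, hE, _root_.List.mem_cons, _root_.List.not_mem_nil, _root_.or_false, _root_.ne_eq, _root_.forall_eq_or_imp, _root_.not_false_eq_true, _root_.forall_eq, _root_.and_self])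
    (by simp only [hAB, hAC, hAD, hAE, hBC, hBD, hBE, hCD, hCE, hDE, _root_.List.pairwise_cons, _root_.List.mem_cons, _root_.List.not_mem_nil, _root_.or_false, _root_.forall_eq_or_imp, _root_.forall_eq, _root_.and_self, _root_.IsEmpty.forall_iff, _root_.implies_true, _root_.List.Pairwise.nil])
  simpa using this

/-- `n` maximal subgroups, pairwise not conjugate -/
theorem sep_of_coatoms {n : ℕ} (A : Fin n → Subgroup G) (h1 : ∀ i, IsCoatom (A i))
    (h2 : ∀ i j, i < j → ∀ g : G, Subgroup.map (MulAut.conj g).toMonoidHom (A i) ≠ A j) : Sep n G := by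
  refine ⟨A, fun i => (h1 i).1, fun i j hij g K hi hj => ?_⟩
  by_contra hK
  have e1 : K = A i := by
    rcases eq_or_lt_of_le hi with h | h
    · exact h.symm
    · exact absurd ((h1 i).2 K h) hK
  have hBc : IsCoatom (Subgroup.map (MulAut.conj g).toMonoidHom (A j)) :=
    (OrderIso.isCoatom_iff ((MulAut.conj g).mapSubgroup) (A j)).2 (h1 j)
  have e2 : K = Subgroup.map (MulAut.conj g).toMonoidHom (A j) := by
    rcases eq_or_lt_of_le (map_conj_le hj) with h | h
    · exact h.symm
    · exact absurd (hBc.2 K h) hK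
  refine h2 i j hij g⁻¹ ?_
  rw [← e1, e2]
  ext x
  rw [mem_map_conj, mem_map_conj]
  have h3 : g⁻¹ * (g⁻¹⁻¹ * x * g⁻¹) * g = x := by group
  rw [h3]

/-- every proper subgroup of a finite group is in a maximal one -/
theorem exists_coatom_ge [Finite G] {A : Subgroup G} (hA : A ≠ ⊤) : ∃ M : Subgroup G, IsCoatom M ∧ A ≤ M := by
  rcases eq_top_or_exists_le_coatom A with h | h
  · exact absurd h hA
  · exact h

/-- a group with `Sep n` has at least `n` classes of maximal subgroups -/
theorem Sep.le_of_cls [Finite G] {n m : ℕ} (h : Sep n G) (hc : Cls m G) : n ≤ m := by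
  obtain ⟨A, h1, h2⟩ := h
  obtain ⟨M, hM, -, hall⟩ := hc
  have h3 : ∀ i, ∃ j, ∃ g : G, A i ≤ Subgroup.map (MulAut.conj g).toMonoidHom (M j) := by
    intro i
    obtain ⟨K, hK, hAK⟩ := exists_coatom_ge (h1 i)
    obtain ⟨j, g, hg⟩ := hall K hK
    exact ⟨j, g, by rw [hg]; exact hAK⟩
  choose f g hf using h3
  have hinj : Function.Injective f := by
    intro i j hij
    by_contra hne
    have key : ∀ i j, i < j → f i = f j → False := by
      intro i j hlt hij
      refine (hM (f i)).1 ?_
      have h5 : Subgroup.map (MulAut.conj (g i)).toMonoidHom (M (f i)) = ⊤ := by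
        refine h2 i j hlt (g i * (g j)⁻¹) _ (hf i) fun x hx => ?_
        have h6 := hf j hx
        rw [mem_map_conj, ← hij] at h6
        rw [mem_map_conj]
        have h7 : (g i)⁻¹ * (g i * (g j)⁻¹ * x * (g i * (g j)⁻¹)⁻¹) * g i = (g j)⁻¹ * x * g j := by group
        rw [h7]
        exact h6
      refine top_le_iff.1 fun x _ => ?_
      have h8 : g i * x * (g i)⁻¹ ∈ Subgroup.map (MulAut.conj (g i)).toMonoidHom (M (f i)) := by
        rw [h5]
        exact Subgroup.mem_top _
      rw [mem_map_conj] at h8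
      have h9 : (g i)⁻¹ * (g i * x * (g i)⁻¹) * g i = x := by group
      rwa [h9] at h8
    rcases lt_or_gt_of_ne hne with h | h
    · exact key i j h hij
    · exact key j i h hij.symm
  simpa only [_root_.ge_iff_le, _root_.Fintype.card_fin] using Fintype.card_le_of_injective f hinj

theorem Cls.sep {n : ℕ} (h : Cls n G) : Sep n G := by
  obtain ⟨M, hM, hne, -⟩ := h
  exact sep_of_coatoms M hM fun i j hij g he => absurd (hne i j ⟨g, he⟩) (ne_of_lt hij)

theorem Cls.eq [Finite G] {n m : ℕ} (h : Cls n G) (h' : Cls m G) : n = m :=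
  le_antisymm (h.sep.le_of_cls h') (h'.sep.le_of_cls h)

/-- to prove `Cls n`: `n` maximal pairwise not conjugate subgroups to one of which each maximal one is conjugate -/
theorem Cls.of_mem {n : ℕ} (M : Fin n → Subgroup G) (hM : ∀ i, IsCoatom (M i))
    (hne : ∀ i j, i < j → ∀ g : G, Subgroup.map (MulAut.conj g).toMonoidHom (M i) ≠ M j)
    (hall : ∀ K : Subgroup G, IsCoatom K → ∃ i, ∃ g : G, Subgroup.map (MulAut.conj g).toMonoidHom (M i) = K) :
    Cls n G := by
  refine ⟨M, hM, fun i j hij => ?_, hall⟩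
  obtain ⟨g, hg⟩ := hij
  rcases lt_trichotomy i j with h | h | h
  · exact absurd hg (hne i j h g)
  · exact h
  · refine absurd ?_ (hne j i h g⁻¹)
    rw [← hg]
    ext x
    rw [mem_map_conj, mem_map_conj]
    have h3 : g⁻¹ * (g⁻¹⁻¹ * x * g⁻¹) * g = x := by group
    rw [h3]

/-! ### transfer -/

theorem map_conj_map (f : G →* H) (g : G) (A : Subgroup G) :
    Subgroup.map (MulAut.conj (f g)).toMonoidHom (A.map f) =
      (Subgroup.map (MulAut.conj g).toMonoidHom A).map f := by
  rw [Subgroup.map_map, Subgroup.map_map]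
  congr 1
  ext x
  simp only [_root_.MulEquiv.toMonoidHom_eq_coe, _root_.MonoidHom.coe_comp, _root_.MonoidHom.coe_coe, _root_.Function.comp_apply, _root_.MulAut.conj_apply, _root_.map_mul, _root_.map_inv]

theorem Apart.map_equiv {A B : Subgroup G} (h : Apart A B) (e : G ≃* H) :
    Apart (A.map e.toMonoidHom) (B.map e.toMonoidHom) := by
  intro g K h1 h2
  have h3 := h (e.symm g) (K.comap e.toMonoidHom) (fun x hx => h1 (Subgroup.mem_map_of_mem _ hx))
    (fun x hx => by
      rw [Subgroup.mem_comap]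
      have := h2 _ (Subgroup.mem_map_of_mem _ hx)
      have h4 : g * e.toMonoidHom x * g⁻¹ = e.toMonoidHom (e.symm g * x * (e.symm g)⁻¹) := by
        simp only [_root_.MulEquiv.toMonoidHom_eq_coe, _root_.MonoidHom.coe_coe, _root_.map_mul, _root_.MulEquiv.apply_symm_apply, _root_.map_inv]
      rwa [h4] at this)
  refine top_le_iff.1 fun y _ => ?_
  have h5 : e.symm y ∈ K.comap e.toMonoidHom := by
    rw [h3]
    exact Subgroup.mem_top _
  rw [Subgroup.mem_comap] at h5
  simpa using h5

theorem map_equiv_ne_top {A : Subgroup G} (h : A ≠ ⊤) (e : G ≃* H) : A.map e.toMonoidHom ≠ ⊤ := by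
  intro h1
  apply h
  refine top_le_iff.1 fun x _ => ?_
  have h2 : e.toMonoidHom x ∈ A.map e.toMonoidHom := by
    rw [h1]
    exact Subgroup.mem_top _
  obtain ⟨y, hy, hxy⟩ := Subgroup.mem_map.1 h2
  rwa [← e.injective hxy]

theorem Sep.of_mulEquiv {n : ℕ} (h : Sep n G) (e : G ≃* H) : Sep n H := by
  obtain ⟨A, h1, h2⟩ := h
  exact ⟨fun i => (A i).map e.toMonoidHom, fun i => map_equiv_ne_top (h1 i) e, fun i j hij => (h2 i j hij).map_equiv e⟩

theorem Cls.of_mulEquiv {n : ℕ} (h : Cls n G) (e : G ≃* H) : Cls n H := by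
  obtain ⟨M, hM, hne, hall⟩ := h
  refine ⟨fun i => (M i).map e.toMonoidHom, fun i => (OrderIso.isCoatom_iff e.mapSubgroup (M i)).2 (hM i),
    fun i j => ?_, fun K hK => ?_⟩
  · rintro ⟨g, hg⟩
    refine hne i j ⟨e.symm g, ?_⟩
    have h1 := map_conj_map e.toMonoidHom (e.symm g) (M i)
    have h2 : e.toMonoidHom (e.symm g) = g := e.apply_symm_apply g
    rw [h2] at h1
    have h3 : (Subgroup.map (MulAut.conj (e.symm g)).toMonoidHom (M i)).map e.toMonoidHom =
        (M j).map e.toMonoidHom := by rw [← h1]; exact hg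
    exact Subgroup.map_injective e.injective h3
  · have hK' : IsCoatom (K.map e.symm.toMonoidHom) := (OrderIso.isCoatom_iff e.symm.mapSubgroup K).2 hK
    obtain ⟨i, g, hg⟩ := hall _ hK'
    refine ⟨i, e g, ?_⟩
    have h1 := map_conj_map e.toMonoidHom g (M i)
    have h2 : e.toMonoidHom g = e g := rfl
    rw [h2] at h1
    rw [h1, hg]
    ext x
    rw [Subgroup.mem_map]
    constructor
    · rintro ⟨y, hy, rfl⟩
      obtain ⟨z, hz, rfl⟩ := Subgroup.mem_map.1 hy
      have : e.toMonoidHom (e.symm.toMonoidHom z) = z := e.apply_symm_apply z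
      rw [this]
      exact hz
    · intro hx
      exact ⟨e.symm x, Subgroup.mem_map_of_mem e.symm.toMonoidHom hx, e.apply_symm_apply x⟩

/-- in a perfect group, a subgroup covering a central quotient is everything -/
theorem eq_top_of_sup_center {K Z : Subgroup G} (hG : commutator G = ⊤) (hZ : Z ≤ Subgroup.center G)
    (h : K ⊔ Z = ⊤) : K = ⊤ := by
  refine top_le_iff.1 ?_
  rw [← hG, commutator_def, Subgroup.commutator_le]
  have key : ∀ x : G, ∃ k ∈ K, ∃ z ∈ Z, x = k * z := by
    intro x
    have hx : x ∈ K ⊔ Z := by rw [h]; exact Subgroup.mem_top _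
    haveI : Z.Normal := ⟨fun n hn g => by
      have : g * n * g⁻¹ = n := by
        rw [Subgroup.mem_center_iff.1 (hZ hn) g]
        group
      rw [this]
      exact hn⟩
    obtain ⟨k, hk, z, hz, h1⟩ := Subgroup.mem_sup_of_normal_right.1 hx
    exact ⟨k, hk, z, hz, h1.symm⟩
  intro x _ y _
  obtain ⟨k, hk, z, hz, rfl⟩ := key x
  obtain ⟨l, hl, w, hw, rfl⟩ := key y
  have hz' := Subgroup.mem_center_iff.1 (hZ hz)
  have hw' := Subgroup.mem_center_iff.1 (hZ hw)
  rw [commutatorElement_def]
  have h1 : k * z * (l * w) * (k * z)⁻¹ * (l * w)⁻¹ = k * l * k⁻¹ * l⁻¹ := by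
    calc k * z * (l * w) * (k * z)⁻¹ * (l * w)⁻¹
        = k * (z * l) * w * z⁻¹ * k⁻¹ * w⁻¹ * l⁻¹ := by group
      _ = k * (l * z) * w * z⁻¹ * k⁻¹ * w⁻¹ * l⁻¹ := by rw [← hz' l]
      _ = k * l * (z * w * z⁻¹) * k⁻¹ * w⁻¹ * l⁻¹ := by group
      _ = k * l * (w * z * z⁻¹) * k⁻¹ * w⁻¹ * l⁻¹ := by rw [hw' z]
      _ = k * l * (w * k⁻¹) * w⁻¹ * l⁻¹ := by group
      _ = k * l * (k⁻¹ * w) * w⁻¹ * l⁻¹ := by rw [← hw' k⁻¹]
      _ = k * l * k⁻¹ * l⁻¹ := by group
  rw [h1]
  exact K.mul_mem (K.mul_mem (K.mul_mem hk hl) (K.inv_mem hk)) (K.inv_mem hl)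

section Surj

variable {f : G →* H} (hf : Function.Surjective f) (hker : f.ker ≤ Subgroup.center G) (hG : commutator G = ⊤)

include hf hker hG

theorem eq_top_of_map_eq_top {K : Subgroup G} (h : K.map f = ⊤) : K = ⊤ := by
  refine eq_top_of_sup_center hG hker ?_
  rw [← Subgroup.comap_map_eq, h, Subgroup.comap_top]

theorem Apart.map_surj {A B : Subgroup G} (h : Apart A B) : Apart (A.map f) (B.map f) := by
  intro g K h1 h2
  obtain ⟨g, rfl⟩ := hf g
  have h3 := h g (K.comap f) (fun x hx => h1 (Subgroup.mem_map_of_mem _ hx))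
    (fun x hx => by
      rw [Subgroup.mem_comap]
      simpa only [_root_.map_mul, _root_.map_inv] using h2 _ (Subgroup.mem_map_of_mem _ hx))
  refine top_le_iff.1 fun y _ => ?_
  obtain ⟨y, rfl⟩ := hf y
  have h5 : y ∈ K.comap f := by
    rw [h3]
    exact Subgroup.mem_top _
  exact h5

/-- from a perfect group to a central quotient -/
theorem Sep.map_surj {n : ℕ} (h : Sep n G) : Sep n H := by
  obtain ⟨A, h1, h2⟩ := h
  exact ⟨fun i => (A i).map f, fun i hi => h1 i (eq_top_of_map_eq_top hf hker hG hi),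
    fun i j hij => (h2 i j hij).map_surj hf hker hG⟩

omit hker hG in
theorem comap_ne_top {A : Subgroup H} (h : A ≠ ⊤) : A.comap f ≠ ⊤ := by
  intro h1
  apply h
  rw [← Subgroup.map_comap_eq_self_of_surjective hf A, h1, ← MonoidHom.range_eq_map]
  exact MonoidHom.range_eq_top.2 hf

theorem Apart.comap_surj {A B : Subgroup H} (h : Apart A B) : Apart (A.comap f) (B.comap f) := by
  intro g K h1 h2
  refine eq_top_of_map_eq_top hf hker hG ?_
  refine h (f g) (K.map f) ?_ ?_
  · intro x hx
    obtain ⟨y, rfl⟩ := hf x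
    exact Subgroup.mem_map_of_mem f (h1 hx)
  · intro x hx
    obtain ⟨y, rfl⟩ := hf x
    have := Subgroup.mem_map_of_mem f (h2 y hx)
    simpa only [_root_.Subgroup.mem_map, _root_.map_mul, _root_.map_inv] using this

/-- from a central quotient to a perfect group -/
theorem Sep.comap_surj {n : ℕ} (h : Sep n H) : Sep n G := by
  obtain ⟨A, h1, h2⟩ := h
  exact ⟨fun i => (A i).comap f, fun i => comap_ne_top hf (h1 i), fun i j hij => (h2 i j hij).comap_surj hf hker hG⟩

/-- maximal subgroups of a perfect group and of a central quotient -/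
theorem isCoatom_map {K : Subgroup G} (hK : IsCoatom K) : IsCoatom (K.map f) := by
  refine ⟨fun h => hK.1 (eq_top_of_map_eq_top hf hker hG h), fun L hL => ?_⟩
  have h1 : K < L.comap f := by
    refine lt_of_le_of_ne (fun x hx => hL.le (Subgroup.mem_map_of_mem f hx)) fun h => ?_
    apply hL.ne
    rw [h, Subgroup.map_comap_eq_self_of_surjective hf]
  rw [← Subgroup.map_comap_eq_self_of_surjective hf L, hK.2 _ h1, ← MonoidHom.range_eq_map]
  exact MonoidHom.range_eq_top.2 hf

theorem ker_le_of_isCoatom {K : Subgroup G} (hK : IsCoatom K) : f.ker ≤ K := by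
  by_contra h
  exact hK.1 (eq_top_of_sup_center hG hker (hK.2 _ (left_lt_sup.2 h)))

omit hker hG in
theorem isCoatom_comap {K : Subgroup H} (hK : IsCoatom K) : IsCoatom (K.comap f) := by
  refine ⟨comap_ne_top hf hK.1, fun L hL => ?_⟩
  have hkL : f.ker ≤ L := fun x hx => hL.le (by
    rw [Subgroup.mem_comap, (MonoidHom.mem_ker).1 hx]
    exact K.one_mem)
  have h1 : K < L.map f := by
    refine lt_of_le_of_ne (fun x hx => ?_) fun h => ?_
    · obtain ⟨y, rfl⟩ := hf x
      exact Subgroup.mem_map_of_mem f (hL.le hx)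
    · apply hL.ne
      rw [h, Subgroup.comap_map_eq, sup_eq_left.2 hkL]
  have h2 := hK.2 _ h1
  have h3 : (L.map f).comap f = L := by rw [Subgroup.comap_map_eq, sup_eq_left.2 hkL]
  rw [← h3, h2, Subgroup.comap_top]

/-- the number of classes of maximal subgroups passes to central quotients -/
theorem Cls.map_surj {n : ℕ} (h : Cls n G) : Cls n H := by
  obtain ⟨M, hM, hne, hall⟩ := h
  refine ⟨fun i => (M i).map f, fun i => isCoatom_map hf hker hG (hM i), fun i j => ?_, fun K hK => ?_⟩
  · rintro ⟨g, hg⟩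
    obtain ⟨g, rfl⟩ := hf g
    refine hne i j ⟨g, ?_⟩
    rw [map_conj_map] at hg
    have hc : IsCoatom (Subgroup.map (MulAut.conj g).toMonoidHom (M i)) :=
      (OrderIso.isCoatom_iff ((MulAut.conj g).mapSubgroup) (M i)).2 (hM i)
    have h1 := congrArg (Subgroup.comap f) hg
    rw [Subgroup.comap_map_eq, Subgroup.comap_map_eq,
      sup_eq_left.2 (ker_le_of_isCoatom hf hker hG hc), sup_eq_left.2 (ker_le_of_isCoatom hf hker hG (hM j))] at h1
    exact h1
  · obtain ⟨i, g, hg⟩ := hall _ (isCoatom_comap hf hK)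
    refine ⟨i, f g, ?_⟩
    rw [map_conj_map, hg, Subgroup.map_comap_eq_self_of_surjective hf]

/-- and to perfect central extensions -/
theorem Cls.comap_surj {n : ℕ} (h : Cls n H) : Cls n G := by
  obtain ⟨M, hM, hne, hall⟩ := h
  refine ⟨fun i => (M i).comap f, fun i => isCoatom_comap hf (hM i), fun i j => ?_, fun K hK => ?_⟩
  · rintro ⟨g, hg⟩
    refine hne i j ⟨f g, ?_⟩
    have h1 := congrArg (Subgroup.map f) hg
    rw [← map_conj_map, Subgroup.map_comap_eq_self_of_surjective hf,
      Subgroup.map_comap_eq_self_of_surjective hf] at h1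
    exact h1
  · obtain ⟨i, g, hg⟩ := hall _ (isCoatom_map hf hker hG hK)
    obtain ⟨g, rfl⟩ := hf g
    refine ⟨i, g, ?_⟩
    have hK' : f.ker ≤ K := ker_le_of_isCoatom hf hker hG hK
    have hc : IsCoatom (Subgroup.map (MulAut.conj g).toMonoidHom ((M i).comap f)) :=
      (OrderIso.isCoatom_iff ((MulAut.conj g).mapSubgroup) _).2 (isCoatom_comap hf (hM i))
    have h1 : (Subgroup.map (MulAut.conj g).toMonoidHom ((M i).comap f)).map f = K.map f := by
      rw [← map_conj_map, Subgroup.map_comap_eq_self_of_surjective hf]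
      exact hg
    have h2 := congrArg (Subgroup.comap f) h1
    rwa [Subgroup.comap_map_eq, Subgroup.comap_map_eq,
      sup_eq_left.2 (ker_le_of_isCoatom hf hker hG hc), sup_eq_left.2 hK'] at h2

end Surj

end Cfsg.Agent.H940.MaxCls
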