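import Cfsg.Agent.H715.Fpr.Row4_m3
import Cfsg.Agent.H341.ThreeList_m3
import Cfsg.Agent.Lib.ListFast
import Cfsg.Agent.Prune
set_option linter.all false
prune_inst 0x7f00000000000000000000000000000000000000000000000000000000000000000000000000000000000000000000000000000000000000000000000000000000000000000000000000000000000000003fffffffffffffffffffffffffffbeffbdffffffff
open scoped Cfsg.Agent.FastGrp

/-!
# Orders of the simple groups with order dividing the order of a sporadic group (helper940)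

The lists are those of `H154/PGData*` (helper154).
-/

set_option autoImplicit false

namespace Cfsg.Agent.H940.Eng

open Cfsg Cfsg.Agent.OrdDiv

/-- the two inputs: the table of the orders and the classification -/
structure Base : Prop where
  table : OrderTable.{0}
  known : ∀ (S : Type) [Group S] [Finite S], IsSimpleGroup S → IsKnownSimple' S

theorem ords_of (B : Base) {n : ℕ} {l : List (ℕ × ℕ)} (hv : valid l n = true) {L : List ℕ}
    (hL : ((cands l n).all fun g => Nat.ble 1 (L.countP fun x => Nat.beq x (ordN g))) = true) : Ords.{0} n L := by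
  intro S _ _ hSs hna hd
  obtain ⟨g, hg, -, ho⟩ := exists_good B.table (B.known S hSs) hna hv hd
  rw [List.all_eq_true] at hL
  have h1 := hL g hg
  rw [Nat.ble_eq] at h1
  obtain ⟨x, hx, hx2⟩ := List.countP_pos_iff.1 (Nat.lt_of_succ_le h1)
  rw [ho, ← Nat.eq_of_beq_eq_true hx2]
  exact hx

namespace D

/-- the order of `m11` -/
def n_m11 : ℕ := 7920

def l_m11 : List (ℕ × ℕ) := [(2, 4), (3, 2), (5, 1), (11, 1)]

def o_m11 : List ℕ := [60, 360, 660, 7920]

theorem v_m11 : valid l_m11 n_m11 = true := by decide +kernel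

theorem nd_m11 : (l_m11.map fun x => x.1).Nodup := by decide +kernel

set_option maxRecDepth 100000 in
theorem ords_m11 (B : Base) : Ords.{0} n_m11 o_m11 := ords_of B v_m11 (by decide +kernel)

/-- the order of `m12` -/
def n_m12 : ℕ := 95040

def l_m12 : List (ℕ × ℕ) := [(2, 6), (3, 3), (5, 1), (11, 1)]

def o_m12 : List ℕ := [60, 360, 660, 7920, 95040]

theorem v_m12 : valid l_m12 n_m12 = true := by decide +kernel

theorem nd_m12 : (l_m12.map fun x => x.1).Nodup := by decide +kernel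

set_option maxRecDepth 100000 in
theorem ords_m12 (B : Base) : Ords.{0} n_m12 o_m12 := ords_of B v_m12 (by decide +kernel)

/-- the order of `m22` -/
def n_m22 : ℕ := 443520

def l_m22 : List (ℕ × ℕ) := [(2, 7), (3, 2), (5, 1), (7, 1), (11, 1)]

def o_m22 : List ℕ := [60, 168, 360, 504, 660, 2520, 7920, 20160, 443520]

theorem v_m22 : valid l_m22 n_m22 = true := by decide +kernel

theorem nd_m22 : (l_m22.map fun x => x.1).Nodup := by decide +kernel

set_option maxRecDepth 100000 in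
theorem ords_m22 (B : Base) : Ords.{0} n_m22 o_m22 := ords_of B v_m22 (by decide +kernel)

/-- the order of `m23` -/
def n_m23 : ℕ := 10200960

def l_m23 : List (ℕ × ℕ) := [(2, 7), (3, 2), (5, 1), (7, 1), (11, 1), (23, 1)]

def o_m23 : List ℕ := [60, 168, 360, 504, 660, 2520, 6072, 7920, 20160, 443520, 10200960]

theorem v_m23 : valid l_m23 n_m23 = true := by decide +kernel

theorem nd_m23 : (l_m23.map fun x => x.1).Nodup := by decide +kernel

set_option maxRecDepth 100000 in
theorem ords_m23 (B : Base) : Ords.{0} n_m23 o_m23 := ords_of B v_m23 (by decide +kernel)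

/-- the order of `m24` -/
def n_m24 : ℕ := 244823040

def l_m24 : List (ℕ × ℕ) := [(2, 10), (3, 3), (5, 1), (7, 1), (11, 1), (23, 1)]

def o_m24 : List ℕ := [60, 168, 360, 504, 660, 2520, 6048, 6072, 7920, 20160, 95040, 443520, 10200960, 244823040]

theorem v_m24 : valid l_m24 n_m24 = true := by decide +kernel

theorem nd_m24 : (l_m24.map fun x => x.1).Nodup := by decide +kernel

set_option maxRecDepth 100000 in
theorem ords_m24 (B : Base) : Ords.{0} n_m24 o_m24 := ords_of B v_m24 (by decide +kernel)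

/-- the order of `j1` -/
def n_j1 : ℕ := 175560

def l_j1 : List (ℕ × ℕ) := [(2, 3), (3, 1), (5, 1), (7, 1), (11, 1), (19, 1)]

def o_j1 : List ℕ := [60, 168, 660, 175560]

theorem v_j1 : valid l_j1 n_j1 = true := by decide +kernel

theorem nd_j1 : (l_j1.map fun x => x.1).Nodup := by decide +kernel

set_option maxRecDepth 100000 in
theorem ords_j1 (B : Base) : Ords.{0} n_j1 o_j1 := ords_of B v_j1 (by decide +kernel)

/-- the order of `j2` -/
def n_j2 : ℕ := 604800

def l_j2 : List (ℕ × ℕ) := [(2, 7), (3, 3), (5, 2), (7, 1)]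

def o_j2 : List ℕ := [60, 168, 360, 504, 2520, 6048, 20160, 604800]

theorem v_j2 : valid l_j2 n_j2 = true := by decide +kernel

theorem nd_j2 : (l_j2.map fun x => x.1).Nodup := by decide +kernel

set_option maxRecDepth 100000 in
theorem ords_j2 (B : Base) : Ords.{0} n_j2 o_j2 := ords_of B v_j2 (by decide +kernel)

/-- the order of `j3` -/
def n_j3 : ℕ := 50232960

def l_j3 : List (ℕ × ℕ) := [(2, 7), (3, 5), (5, 1), (17, 1), (19, 1)]

def o_j3 : List ℕ := [60, 360, 2448, 3420, 4080, 25920, 50232960]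

theorem v_j3 : valid l_j3 n_j3 = true := by decide +kernel

theorem nd_j3 : (l_j3.map fun x => x.1).Nodup := by decide +kernel

set_option maxRecDepth 100000 in
theorem ords_j3 (B : Base) : Ords.{0} n_j3 o_j3 := ords_of B v_j3 (by decide +kernel)

/-- the order of `j4` -/
def n_j4 : ℕ := 86775571046077562880

def l_j4 : List (ℕ × ℕ) := [(2, 21), (3, 3), (5, 1), (7, 1), (11, 3), (23, 1), (29, 1), (31, 1), (37, 1), (43, 1)]

def o_j4 : List ℕ := [60, 168, 360, 504, 660, 2520, 6048, 6072, 7920, 12180, 14880, 20160, 32736, 39732, 95040, 443520, 9999360, 10200960, 70915680, 244823040, 86775571046077562880]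

theorem v_j4 : valid l_j4 n_j4 = true := by decide +kernel

theorem nd_j4 : (l_j4.map fun x => x.1).Nodup := by decide +kernel

set_option maxRecDepth 100000 in
theorem ords_j4 (B : Base) : Ords.{0} n_j4 o_j4 := ords_of B v_j4 (by decide +kernel)

/-- the order of `co1` -/
def n_co1 : ℕ := 4157776806543360000

def l_co1 : List (ℕ × ℕ) := [(2, 21), (3, 9), (5, 4), (7, 2), (11, 1), (13, 1), (23, 1)]

def o_co1 : List ℕ := [60, 168, 360, 504, 660, 1092, 2520, 5616, 6048, 6072, 7800, 7920, 9828, 20160, 25920, 29120, 58800, 62400, 95040, 126000, 181440, 262080, 443520, 604800, 1451520, 1814400, 3265920, 4245696, 4680000, 6065280, 10200960, 13685760, 17971200, 19958400, 42456960, 44352000, 174182400, 211341312, 239500800, 244823040, 251596800, 898128000, 1056706560, 3113510400, 4585351680, 9196830720, 43589145600, 448345497600, 495766656000, 653837184000, 10461394944000, 42305421312000, 64561751654400, 4157776806543360000]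

theorem v_co1 : valid l_co1 n_co1 = true := by decide +kernel

theorem nd_co1 : (l_co1.map fun x => x.1).Nodup := by decide +kernel

private noncomputable def _root_.Cfsg.Agent.LsF.fe4d28a_0 : {f // @Nat.factorial = f} := ⟨_, by first | (delta Nat.factorial Nat.brecOn.go Nat.brecOn Nat.factorial._f; rewrite [Cfsg.Agent.LsF.nmul_pat]; (try delta Nat.factorial.match_1); (try delta Nat.casesOn); first | dsimp -zeta only | exact rfl) | exact rfl⟩
private noncomputable def _root_.Cfsg.Agent.LsF.fe4d28a_1 : {f // @Cfsg.Agent.OrdDiv.candAlt = f} := ⟨_, by first | (delta Cfsg.Agent.OrdDiv.candAlt; rewrite [Cfsg.Agent.LsF.fe4d28a_0.2, Cfsg.Agent.LsF.nadd_pat, Cfsg.Agent.LsF.nmul_pat, Cfsg.Agent.LsF.nmod_pat, Cfsg.Agent.LsF.nbeq_pat, Cfsg.Agent.LsF.and_eq, Cfsg.Agent.LsF.flatMap_eq, Cfsg.Agent.LsF.filter_eq, Cfsg.Agent.LsF.range_eq, Cfsg.Agent.LsF.dBoolEq_eq, Cfsg.Agent.LsF.ite_eq]; exact rfl) | exact rfl⟩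
private noncomputable def _root_.Cfsg.Agent.LsF.fe4d28a_3 : {f // @Cfsg.Agent.OrdDiv.cand = f} := ⟨_, by first | (delta Cfsg.Agent.OrdDiv.cand; rewrite [Cfsg.Agent.LsF.nmul_pat, Cfsg.Agent.LsF.nmod_pat, Cfsg.Agent.LsF.nbeq_pat, Cfsg.Agent.LsF.and_eq, Cfsg.Agent.LsF.filter_eq]; exact rfl) | exact rfl⟩
private noncomputable def _root_.Cfsg.Agent.LsF.fe4d28a_4 : {f // @Cfsg.Agent.OrdDiv.glN = f} := ⟨_, by first | (delta Cfsg.Agent.OrdDiv.glN; rewrite [Cfsg.Agent.LsF.nsub_pat, Cfsg.Agent.LsF.npow_pat, Cfsg.Agent.LsF.map_eq, Cfsg.Agent.LsF.range_eq, Cfsg.Agent.LsF.prod_eq]; exact rfl) | exact rfl⟩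
private noncomputable def _root_.Cfsg.Agent.LsF.fe4d28a_5 : {f // @Cfsg.Agent.OrdDiv.fPSL = f} := ⟨_, by first | (delta Cfsg.Agent.OrdDiv.fPSL; rewrite [Cfsg.Agent.LsF.fe4d28a_4.2, Cfsg.Agent.LsF.nmul_pat, Cfsg.Agent.LsF.nsub_pat, Cfsg.Agent.LsF.ndiv_pat, Cfsg.Agent.LsF.and_eq, Cfsg.Agent.LsF.not_eq]; exact rfl) | exact rfl⟩
private noncomputable def _root_.Cfsg.Agent.LsF.fe4d28a_6 : {f // @Cfsg.Agent.OrdDiv.prB = f} := ⟨_, by first | (delta Cfsg.Agent.OrdDiv.prB; rewrite [Cfsg.Agent.LsF.nadd_pat, Cfsg.Agent.LsF.nmul_pat, Cfsg.Agent.LsF.nsub_pat, Cfsg.Agent.LsF.npow_pat, Cfsg.Agent.LsF.map_eq, Cfsg.Agent.LsF.range_eq, Cfsg.Agent.LsF.prod_eq]; exact rfl) | exact rfl⟩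
private noncomputable def _root_.Cfsg.Agent.LsF.fe4d28a_7 : {f // @Cfsg.Agent.OrdDiv.fPSp = f} := ⟨_, by first | (delta Cfsg.Agent.OrdDiv.fPSp; rewrite [Cfsg.Agent.LsF.fe4d28a_6.2, Cfsg.Agent.LsF.nmul_pat, Cfsg.Agent.LsF.nsub_pat, Cfsg.Agent.LsF.npow_pat, Cfsg.Agent.LsF.and_eq, Cfsg.Agent.LsF.not_eq]; exact rfl) | exact rfl⟩
private noncomputable def _root_.Cfsg.Agent.LsF.fe4d28a_8 : {f // @Cfsg.Agent.OrdDiv.prU = f} := ⟨_, by first | (delta Cfsg.Agent.OrdDiv.prU; rewrite [Cfsg.Agent.LsF.nadd_pat, Cfsg.Agent.LsF.nsub_pat, Cfsg.Agent.LsF.nmod_pat, Cfsg.Agent.LsF.npow_pat, Cfsg.Agent.LsF.map_eq, Cfsg.Agent.LsF.range_eq, Cfsg.Agent.LsF.prod_eq, Cfsg.Agent.LsF.dBoolEq_eq, Cfsg.Agent.LsF.ite_eq]; exact rfl) | exact rfl⟩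
private noncomputable def _root_.Cfsg.Agent.LsF.fe4d28a_9 : {f // @Cfsg.Agent.OrdDiv.fPSU = f} := ⟨_, by first | (delta Cfsg.Agent.OrdDiv.fPSU; rewrite [Cfsg.Agent.LsF.fe4d28a_8.2, Cfsg.Agent.LsF.nadd_pat, Cfsg.Agent.LsF.nmul_pat, Cfsg.Agent.LsF.nsub_pat, Cfsg.Agent.LsF.ndiv_pat, Cfsg.Agent.LsF.npow_pat, Cfsg.Agent.LsF.and_eq, Cfsg.Agent.LsF.not_eq]; exact rfl) | exact rfl⟩
private noncomputable def _root_.Cfsg.Agent.LsF.fe4d28a_10 : {f // @Cfsg.Agent.OrdDiv.fOOdd = f} := ⟨_, by first | (delta Cfsg.Agent.OrdDiv.fOOdd; rewrite [Cfsg.Agent.LsF.fe4d28a_6.2, Cfsg.Agent.LsF.nmul_pat, Cfsg.Agent.LsF.nmod_pat, Cfsg.Agent.LsF.npow_pat]; exact rfl) | exact rfl⟩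
private noncomputable def _root_.Cfsg.Agent.LsF.fe4d28a_11 : {f // @Cfsg.Agent.OrdDiv.fOPlus = f} := ⟨_, by first | (delta Cfsg.Agent.OrdDiv.fOPlus; rewrite [Cfsg.Agent.LsF.fe4d28a_6.2, Cfsg.Agent.LsF.nmul_pat, Cfsg.Agent.LsF.nsub_pat, Cfsg.Agent.LsF.npow_pat]; exact rfl) | exact rfl⟩
private noncomputable def _root_.Cfsg.Agent.LsF.fe4d28a_12 : {f // @Cfsg.Agent.OrdDiv.fOMinus = f} := ⟨_, by first | (delta Cfsg.Agent.OrdDiv.fOMinus; rewrite [Cfsg.Agent.LsF.fe4d28a_6.2, Cfsg.Agent.LsF.nadd_pat, Cfsg.Agent.LsF.nmul_pat, Cfsg.Agent.LsF.nsub_pat, Cfsg.Agent.LsF.npow_pat]; exact rfl) | exact rfl⟩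
private noncomputable def _root_.Cfsg.Agent.LsF.fe4d28a_13 : {f // @Cfsg.Agent.OrdDiv.one = f} := ⟨_, by first | (delta Cfsg.Agent.OrdDiv.one; rewrite [Cfsg.Agent.LsF.nadd_pat, Cfsg.Agent.LsF.nmul_pat, Cfsg.Agent.LsF.npow_pat]; exact rfl) | exact rfl⟩
private noncomputable def _root_.Cfsg.Agent.LsF.fe4d28a_14 : {f // @Cfsg.Agent.OrdDiv.fG2 = f} := ⟨_, by first | (delta Cfsg.Agent.OrdDiv.fG2; rewrite [Cfsg.Agent.LsF.fe4d28a_13.2, Cfsg.Agent.LsF.nmul_pat, Cfsg.Agent.LsF.nsub_pat, Cfsg.Agent.LsF.npow_pat]; exact rfl) | exact rfl⟩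
private noncomputable def _root_.Cfsg.Agent.LsF.fe4d28a_15 : {f // @Cfsg.Agent.OrdDiv.fF4 = f} := ⟨_, by first | (delta Cfsg.Agent.OrdDiv.fF4; rewrite [Cfsg.Agent.LsF.fe4d28a_13.2, Cfsg.Agent.LsF.nmul_pat, Cfsg.Agent.LsF.nsub_pat, Cfsg.Agent.LsF.npow_pat]; exact rfl) | exact rfl⟩
private noncomputable def _root_.Cfsg.Agent.LsF.fe4d28a_16 : {f // @Cfsg.Agent.OrdDiv.fE6 = f} := ⟨_, by first | (delta Cfsg.Agent.OrdDiv.fE6; rewrite [Cfsg.Agent.LsF.fe4d28a_13.2, Cfsg.Agent.LsF.nmul_pat, Cfsg.Agent.LsF.nsub_pat, Cfsg.Agent.LsF.npow_pat]; exact rfl) | exact rfl⟩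
private noncomputable def _root_.Cfsg.Agent.LsF.fe4d28a_17 : {f // @Cfsg.Agent.OrdDiv.fE7 = f} := ⟨_, by first | (delta Cfsg.Agent.OrdDiv.fE7; rewrite [Cfsg.Agent.LsF.fe4d28a_13.2, Cfsg.Agent.LsF.nmul_pat, Cfsg.Agent.LsF.nsub_pat, Cfsg.Agent.LsF.npow_pat]; exact rfl) | exact rfl⟩
private noncomputable def _root_.Cfsg.Agent.LsF.fe4d28a_18 : {f // @Cfsg.Agent.OrdDiv.fE8 = f} := ⟨_, by first | (delta Cfsg.Agent.OrdDiv.fE8; rewrite [Cfsg.Agent.LsF.fe4d28a_13.2, Cfsg.Agent.LsF.nmul_pat, Cfsg.Agent.LsF.nsub_pat, Cfsg.Agent.LsF.npow_pat]; exact rfl) | exact rfl⟩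
private noncomputable def _root_.Cfsg.Agent.LsF.fe4d28a_19 : {f // @Cfsg.Agent.OrdDiv.fTE6 = f} := ⟨_, by first | (delta Cfsg.Agent.OrdDiv.fTE6; rewrite [Cfsg.Agent.LsF.fe4d28a_13.2, Cfsg.Agent.LsF.nadd_pat, Cfsg.Agent.LsF.nmul_pat, Cfsg.Agent.LsF.nsub_pat, Cfsg.Agent.LsF.npow_pat]; exact rfl) | exact rfl⟩
private noncomputable def _root_.Cfsg.Agent.LsF.fe4d28a_20 : {f // @Cfsg.Agent.OrdDiv.fTD4 = f} := ⟨_, by first | (delta Cfsg.Agent.OrdDiv.fTD4; rewrite [Cfsg.Agent.LsF.fe4d28a_13.2, Cfsg.Agent.LsF.nadd_pat, Cfsg.Agent.LsF.nmul_pat, Cfsg.Agent.LsF.nsub_pat, Cfsg.Agent.LsF.npow_pat]; exact rfl) | exact rfl⟩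
private noncomputable def _root_.Cfsg.Agent.LsF.fe4d28a_21 : {f // @Cfsg.Agent.OrdDiv.fSz = f} := ⟨_, by first | (delta Cfsg.Agent.OrdDiv.fSz; rewrite [Cfsg.Agent.LsF.fe4d28a_13.2, Cfsg.Agent.LsF.nadd_pat, Cfsg.Agent.LsF.nmul_pat, Cfsg.Agent.LsF.nsub_pat, Cfsg.Agent.LsF.nmod_pat, Cfsg.Agent.LsF.npow_pat, Cfsg.Agent.LsF.and_eq]; exact rfl) | exact rfl⟩
private noncomputable def _root_.Cfsg.Agent.LsF.fe4d28a_22 : {f // @Cfsg.Agent.OrdDiv.fRee = f} := ⟨_, by first | (delta Cfsg.Agent.OrdDiv.fRee; rewrite [Cfsg.Agent.LsF.fe4d28a_13.2, Cfsg.Agent.LsF.nadd_pat, Cfsg.Agent.LsF.nmul_pat, Cfsg.Agent.LsF.nsub_pat, Cfsg.Agent.LsF.nmod_pat, Cfsg.Agent.LsF.npow_pat, Cfsg.Agent.LsF.and_eq]; exact rfl) | exact rfl⟩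
private noncomputable def _root_.Cfsg.Agent.LsF.fe4d28a_23 : {f // @Cfsg.Agent.OrdDiv.fTF4 = f} := ⟨_, by first | (delta Cfsg.Agent.OrdDiv.fTF4; rewrite [Cfsg.Agent.LsF.fe4d28a_13.2, Cfsg.Agent.LsF.nadd_pat, Cfsg.Agent.LsF.nmul_pat, Cfsg.Agent.LsF.nsub_pat, Cfsg.Agent.LsF.nmod_pat, Cfsg.Agent.LsF.npow_pat, Cfsg.Agent.LsF.and_eq]; exact rfl) | exact rfl⟩
private noncomputable def _root_.Cfsg.Agent.LsF.fe4d28a_24 : {f // @Cfsg.Agent.OrdDiv.cands = f} := ⟨_, by first | (delta Cfsg.Agent.OrdDiv.cands; rewrite [Cfsg.Agent.LsF.fe4d28a_1.2, Cfsg.Agent.LsF.fe4d28a_3.2, Cfsg.Agent.LsF.fe4d28a_5.2, Cfsg.Agent.LsF.fe4d28a_7.2, Cfsg.Agent.LsF.fe4d28a_9.2, Cfsg.Agent.LsF.fe4d28a_10.2, Cfsg.Agent.LsF.fe4d28a_11.2, Cfsg.Agent.LsF.fe4d28a_12.2, Cfsg.Agent.LsF.fe4d28a_14.2, Cfsg.Agent.LsF.fe4d28a_15.2, Cfsg.Agent.LsF.fe4d28a_16.2, Cfsg.Agent.LsF.fe4d28a_17.2, Cfsg.Agent.LsF.fe4d28a_18.2, Cfsg.Agent.LsF.fe4d28a_19.2, Cfsg.Agent.LsF.fe4d28a_20.2, Cfsg.Agent.LsF.fe4d28a_21.2,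 Cfsg.Agent.LsF.fe4d28a_22.2, Cfsg.Agent.LsF.fe4d28a_23.2, Cfsg.Agent.LsF.nmod_pat, Cfsg.Agent.LsF.nbeq_pat, Cfsg.Agent.LsF.map_eq, Cfsg.Agent.LsF.flatten_eq, Cfsg.Agent.LsF.filter_eq]; exact rfl) | exact rfl⟩
private noncomputable def _root_.Cfsg.Agent.LsF.fe4d28a_25 : {f // @Cfsg.Agent.OrdDiv.instDecidableEqGrp.decEq = f} := ⟨_, by first | (delta Cfsg.Agent.OrdDiv.instDecidableEqGrp.decEq; rewrite [Cfsg.Agent.LsF.instDecEq_eq, Cfsg.Agent.LsF.dite_eq]; (try delta Cfsg.Agent.OrdDiv.instDecidableEqGrp.decEq.match_1); (try delta Decidable.casesOn); exact rfl) | exact rfl⟩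
private noncomputable def _root_.Cfsg.Agent.LsF.fe4d28a_26 : {f // @Cfsg.Agent.OrdDiv.instDecidableEqGrp = f} := ⟨_, by first | (delta Cfsg.Agent.OrdDiv.instDecidableEqGrp; rewrite [Cfsg.Agent.LsF.fe4d28a_25.2]; exact rfl) | exact rfl⟩
private noncomputable def _root_.Cfsg.Agent.LsF.fe4d28a_27 : {f // @Cfsg.Agent.OrdDiv.ordN = f} := ⟨_, by first | (delta Cfsg.Agent.OrdDiv.ordN Option.map; rewrite [Cfsg.Agent.LsF.fe4d28a_0.2, Cfsg.Agent.LsF.fe4d28a_5.2, Cfsg.Agent.LsF.fe4d28a_7.2, Cfsg.Agent.LsF.fe4d28a_9.2, Cfsg.Agent.LsF.fe4d28a_10.2, Cfsg.Agent.LsF.fe4d28a_11.2, Cfsg.Agent.LsF.fe4d28a_12.2, Cfsg.Agent.LsF.fe4d28a_14.2, Cfsg.Agent.LsF.fe4d28a_15.2, Cfsg.Agent.LsF.fe4d28a_16.2, Cfsg.Agent.LsF.fe4d28a_17.2, Cfsg.Agent.LsF.fe4d28a_18.2, Cfsg.Agent.LsF.fe4d28a_19.2, Cfsg.Agent.LsF.fe4d28a_20.2, Cfsg.Agent.LsF.fe4d28a_21.2, Cfsg.Agent.LsF.fe4d28a_22.2, Cfsg.Agent.LsF.fe4d28a_23.2, Cfsg.Agent.LsF.fe4d28a_26.2, Cfsg.Agent.LsF.ndiv_pat, Cfsg.Agent.LsF.find?_eq,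 Cfsg.Agent.LsF.ogetD_eq, Cfsg.Agent.LsF.decide_eq]; (try delta Cfsg.Agent.OrdDiv.ordN.match_1); (try delta Cfsg.Agent.OrdDiv.ordN._sparseCasesOn_1); (try delta Option.getD.match_1); (try delta Option.casesOn); exact rfl) | exact rfl⟩
set_option maxRecDepth 100000 in
theorem ords_co1 (B : Base) : Ords.{0} n_co1 o_co1 := ords_of B v_co1 (by ((try (rewrite [Cfsg.Agent.LsF.fe4d28a_24.2, Cfsg.Agent.LsF.fe4d28a_27.2, Cfsg.Agent.LsF.all_eq, Cfsg.Agent.LsF.countP_eq])); decide +kernel))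

/-- the order of `co2` -/
def n_co2 : ℕ := 42305421312000

def l_co2 : List (ℕ × ℕ) := [(2, 18), (3, 6), (5, 3), (7, 1), (11, 1), (23, 1)]

def o_co2 : List ℕ := [60, 168, 360, 504, 660, 2520, 6048, 6072, 7920, 20160, 25920, 95040, 126000, 181440, 443520, 604800, 1451520, 1814400, 3265920, 10200960, 13685760, 19958400, 44352000, 174182400, 239500800, 244823040, 898128000, 9196830720, 42305421312000]

theorem v_co2 : valid l_co2 n_co2 = true := by decide +kernel

theorem nd_co2 : (l_co2.map fun x => x.1).Nodup := by decide +kernel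

set_option maxRecDepth 100000 in
theorem ords_co2 (B : Base) : Ords.{0} n_co2 o_co2 := ords_of B v_co2 (by ((try (rewrite [Cfsg.Agent.LsF.fe4d28a_24.2, Cfsg.Agent.LsF.fe4d28a_27.2, Cfsg.Agent.LsF.all_eq, Cfsg.Agent.LsF.countP_eq])); decide +kernel))

/-- the order of `co3` -/
def n_co3 : ℕ := 495766656000

def l_co3 : List (ℕ × ℕ) := [(2, 10), (3, 7), (5, 3), (7, 1), (11, 1), (23, 1)]

def o_co3 : List ℕ := [60, 168, 360, 504, 660, 2520, 6048, 6072, 7920, 20160, 25920, 95040, 126000, 181440, 443520, 604800, 1451520, 1814400, 3265920, 10200960, 13685760, 19958400, 44352000, 239500800, 244823040, 898128000, 495766656000]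

theorem v_co3 : valid l_co3 n_co3 = true := by decide +kernel

theorem nd_co3 : (l_co3.map fun x => x.1).Nodup := by decide +kernel

set_option maxRecDepth 100000 in
theorem ords_co3 (B : Base) : Ords.{0} n_co3 o_co3 := ords_of B v_co3 (by ((try (rewrite [Cfsg.Agent.LsF.fe4d28a_24.2, Cfsg.Agent.LsF.fe4d28a_27.2, Cfsg.Agent.LsF.all_eq, Cfsg.Agent.LsF.countP_eq])); decide +kernel))

/-- the order of `fi22` -/
def n_fi22 : ℕ := 64561751654400

def l_fi22 : List (ℕ × ℕ) := [(2, 17), (3, 9), (5, 2), (7, 1), (11, 1), (13, 1)]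

def o_fi22 : List ℕ := [60, 168, 360, 504, 660, 1092, 2520, 5616, 6048, 7800, 7920, 9828, 20160, 25920, 29120, 62400, 95040, 181440, 262080, 443520, 604800, 1451520, 1814400, 3265920, 4245696, 6065280, 13685760, 17971200, 19958400, 42456960, 174182400, 239500800, 251596800, 3113510400, 4585351680, 9196830720, 448345497600, 64561751654400]

theorem v_fi22 : valid l_fi22 n_fi22 = true := by decide +kernel

theorem nd_fi22 : (l_fi22.map fun x => x.1).Nodup := by decide +kernel

set_option maxRecDepth 100000 in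
theorem ords_fi22 (B : Base) : Ords.{0} n_fi22 o_fi22 := ords_of B v_fi22 (by decide +kernel)

/-- the order of `fi23` -/
def n_fi23 : ℕ := 4089470473293004800

def l_fi23 : List (ℕ × ℕ) := [(2, 18), (3, 13), (5, 2), (7, 1), (11, 1), (13, 1), (17, 1), (23, 1)]

def o_fi23 : List ℕ := [60, 168, 360, 504, 660, 1092, 2448, 2520, 4080, 5616, 6048, 6072, 7800, 7920, 9828, 20160, 25920, 29120, 62400, 95040, 181440, 262080, 443520, 604800, 979200, 1451520, 1814400, 3265920, 4245696, 6065280, 10200960, 13685760, 17971200, 19958400, 42456960, 174182400, 197406720, 239500800, 244823040, 251596800, 987033600, 1425715200, 3113510400, 4585351680, 9196830720, 47377612800, 448345497600, 4952179814400, 64561751654400, 4089470473293004800]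

theorem v_fi23 : valid l_fi23 n_fi23 = true := by decide +kernel

theorem nd_fi23 : (l_fi23.map fun x => x.1).Nodup := by decide +kernel

set_option maxRecDepth 100000 in
theorem ords_fi23 (B : Base) : Ords.{0} n_fi23 o_fi23 := ords_of B v_fi23 (by decide +kernel)

/-- the order of `fi24p` -/
def n_fi24p : ℕ := 1255205709190661721292800

def l_fi24p : List (ℕ × ℕ) := [(2, 21), (3, 16), (5, 2), (7, 3), (11, 1), (13, 1), (17, 1), (23, 1), (29, 1)]

def o_fi24p : List ℕ := [60, 168, 360, 504, 660, 1092, 2448, 2520, 4080, 5616, 6048, 6072, 7800, 7920, 9828, 12180, 20160, 25920, 29120, 58800, 62400, 95040, 181440, 262080, 443520, 604800, 979200, 1451520, 1814400, 3265920, 4245696, 6065280, 10200960, 13685760, 17971200, 19958400, 42456960, 174182400, 197406720, 211341312, 239500800, 244823040, 251596800, 987033600, 1056706560, 1425715200, 3113510400, 4030387200, 4585351680, 9196830720, 43589145600, 47377612800, 448345497600, 4952179814400, 25015379558400, 64561751654400,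 4089470473293004800, 1255205709190661721292800]

theorem v_fi24p : valid l_fi24p n_fi24p = true := by decide +kernel

theorem nd_fi24p : (l_fi24p.map fun x => x.1).Nodup := by decide +kernel

set_option maxRecDepth 100000 in
theorem ords_fi24p (B : Base) : Ords.{0} n_fi24p o_fi24p := ords_of B v_fi24p (by ((try (rewrite [Cfsg.Agent.LsF.fe4d28a_24.2, Cfsg.Agent.LsF.fe4d28a_27.2, Cfsg.Agent.LsF.all_eq, Cfsg.Agent.LsF.countP_eq])); decide +kernel))

/-- the order of `hs` -/
def n_hs : ℕ := 44352000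

def l_hs : List (ℕ × ℕ) := [(2, 9), (3, 2), (5, 3), (7, 1), (11, 1)]

def o_hs : List ℕ := [60, 168, 360, 504, 660, 2520, 7920, 20160, 126000, 443520, 44352000]

theorem v_hs : valid l_hs n_hs = true := by decide +kernel

theorem nd_hs : (l_hs.map fun x => x.1).Nodup := by decide +kernel

set_option maxRecDepth 100000 in
theorem ords_hs (B : Base) : Ords.{0} n_hs o_hs := ords_of B v_hs (by decide +kernel)

/-- the order of `mcl` -/
def n_mcl : ℕ := 898128000

def l_mcl : List (ℕ × ℕ) := [(2, 7), (3, 6), (5, 3), (7, 1), (11, 1)]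

def o_mcl : List ℕ := [60, 168, 360, 504, 660, 2520, 6048, 7920, 20160, 25920, 95040, 126000, 181440, 443520, 604800, 1814400, 3265920, 19958400, 898128000]

theorem v_mcl : valid l_mcl n_mcl = true := by decide +kernel

theorem nd_mcl : (l_mcl.map fun x => x.1).Nodup := by decide +kernel

set_option maxRecDepth 100000 in
theorem ords_mcl (B : Base) : Ords.{0} n_mcl o_mcl := ords_of B v_mcl (by ((try (rewrite [Cfsg.Agent.LsF.fe4d28a_24.2, Cfsg.Agent.LsF.fe4d28a_27.2, Cfsg.Agent.LsF.all_eq, Cfsg.Agent.LsF.countP_eq])); decide +kernel))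

/-- the order of `he` -/
def n_he : ℕ := 4030387200

def l_he : List (ℕ × ℕ) := [(2, 10), (3, 3), (5, 2), (7, 3), (17, 1)]

def o_he : List ℕ := [60, 168, 360, 504, 2448, 2520, 4080, 6048, 20160, 58800, 604800, 979200, 4030387200]

theorem v_he : valid l_he n_he = true := by decide +kernel

theorem nd_he : (l_he.map fun x => x.1).Nodup := by decide +kernel

set_option maxRecDepth 100000 in
theorem ords_he (B : Base) : Ords.{0} n_he o_he := ords_of B v_he (by decide +kernel)

/-- the order of `ru` -/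
def n_ru : ℕ := 145926144000

def l_ru : List (ℕ × ℕ) := [(2, 14), (3, 3), (5, 3), (7, 1), (13, 1), (29, 1)]

def o_ru : List ℕ := [60, 168, 360, 504, 1092, 2520, 5616, 6048, 7800, 9828, 12180, 20160, 29120, 62400, 126000, 262080, 604800, 17971200, 251596800, 145926144000]

theorem v_ru : valid l_ru n_ru = true := by decide +kernel

theorem nd_ru : (l_ru.map fun x => x.1).Nodup := by decide +kernel

set_option maxRecDepth 100000 in
theorem ords_ru (B : Base) : Ords.{0} n_ru o_ru := ords_of B v_ru (by decide +kernel)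

/-- the order of `suz` -/
def n_suz : ℕ := 448345497600

def l_suz : List (ℕ × ℕ) := [(2, 13), (3, 7), (5, 2), (7, 1), (11, 1), (13, 1)]

def o_suz : List ℕ := [60, 168, 360, 504, 660, 1092, 2520, 5616, 6048, 7800, 7920, 9828, 20160, 25920, 29120, 62400, 95040, 181440, 262080, 443520, 604800, 1451520, 1814400, 3265920, 4245696, 6065280, 13685760, 17971200, 19958400, 42456960, 174182400, 239500800, 251596800, 3113510400, 448345497600]

theorem v_suz : valid l_suz n_suz = true := by decide +kernel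

theorem nd_suz : (l_suz.map fun x => x.1).Nodup := by decide +kernel

set_option maxRecDepth 100000 in
theorem ords_suz (B : Base) : Ords.{0} n_suz o_suz := ords_of B v_suz (by ((try (rewrite [Cfsg.Agent.LsF.fe4d28a_24.2, Cfsg.Agent.LsF.fe4d28a_27.2, Cfsg.Agent.LsF.all_eq, Cfsg.Agent.LsF.countP_eq])); decide +kernel))

/-- the order of `opn` -/
def n_opn : ℕ := 460815505920

def l_opn : List (ℕ × ℕ) := [(2, 9), (3, 4), (5, 1), (7, 3), (11, 1), (19, 1), (31, 1)]

def o_opn : List ℕ := [60, 168, 360, 504, 660, 2520, 3420, 6048, 7920, 14880, 20160, 25920, 32736, 95040, 175560, 181440, 443520, 1451520, 1876896, 5515776, 460815505920]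

theorem v_opn : valid l_opn n_opn = true := by decide +kernel

theorem nd_opn : (l_opn.map fun x => x.1).Nodup := by decide +kernel

set_option maxRecDepth 100000 in
theorem ords_opn (B : Base) : Ords.{0} n_opn o_opn := ords_of B v_opn (by ((try (rewrite [Cfsg.Agent.LsF.fe4d28a_24.2, Cfsg.Agent.LsF.fe4d28a_27.2, Cfsg.Agent.LsF.all_eq, Cfsg.Agent.LsF.countP_eq])); decide +kernel))

/-- the order of `hn` -/
def n_hn : ℕ := 273030912000000

def l_hn : List (ℕ × ℕ) := [(2, 14), (3, 6), (5, 6), (7, 1), (11, 1), (19, 1)]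

def o_hn : List ℕ := [60, 168, 360, 504, 660, 2520, 3420, 6048, 7920, 20160, 25920, 95040, 126000, 175560, 181440, 443520, 604800, 1451520, 1814400, 3265920, 5515776, 13685760, 19958400, 44352000, 174182400, 239500800, 898128000, 273030912000000]

theorem v_hn : valid l_hn n_hn = true := by decide +kernel

theorem nd_hn : (l_hn.map fun x => x.1).Nodup := by decide +kernel

set_option maxRecDepth 100000 in
theorem ords_hn (B : Base) : Ords.{0} n_hn o_hn := ords_of B v_hn (by ((try (rewrite [Cfsg.Agent.LsF.fe4d28a_24.2, Cfsg.Agent.LsF.fe4d28a_27.2, Cfsg.Agent.LsF.all_eq, Cfsg.Agent.LsF.countP_eq])); decide +kernel))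

/-- the order of `ly` -/
def n_ly : ℕ := 51765179004000000

def l_ly : List (ℕ × ℕ) := [(2, 8), (3, 7), (5, 6), (7, 1), (11, 1), (31, 1), (37, 1), (67, 1)]

def o_ly : List ℕ := [60, 168, 360, 504, 660, 2520, 6048, 7920, 14880, 20160, 25920, 32736, 95040, 126000, 181440, 372000, 443520, 604800, 976500, 1814400, 3265920, 19958400, 898128000, 5859000000, 51765179004000000]

theorem v_ly : valid l_ly n_ly = true := by decide +kernel

theorem nd_ly : (l_ly.map fun x => x.1).Nodup := by decide +kernel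

set_option maxRecDepth 100000 in
theorem ords_ly (B : Base) : Ords.{0} n_ly o_ly := ords_of B v_ly (by ((try (rewrite [Cfsg.Agent.LsF.fe4d28a_24.2, Cfsg.Agent.LsF.fe4d28a_27.2, Cfsg.Agent.LsF.all_eq, Cfsg.Agent.LsF.countP_eq])); decide +kernel))

/-- the order of `th` -/
def n_th : ℕ := 90745943887872000

def l_th : List (ℕ × ℕ) := [(2, 15), (3, 10), (5, 3), (7, 2), (13, 1), (19, 1), (31, 1)]

def o_th : List ℕ := [60, 168, 360, 504, 1092, 2520, 3420, 5616, 6048, 7800, 9828, 14880, 20160, 25920, 29120, 58800, 62400, 126000, 181440, 262080, 372000, 604800, 976500, 1451520, 1814400, 3265920, 4245696, 5515776, 6065280, 9999360, 17971200, 42456960, 174182400, 211341312, 251596800, 1056706560, 4585351680, 20158709760, 90745943887872000]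

theorem v_th : valid l_th n_th = true := by decide +kernel

theorem nd_th : (l_th.map fun x => x.1).Nodup := by decide +kernel

set_option maxRecDepth 100000 in
theorem ords_th (B : Base) : Ords.{0} n_th o_th := ords_of B v_th (by ((try (rewrite [Cfsg.Agent.LsF.fe4d28a_24.2, Cfsg.Agent.LsF.fe4d28a_27.2, Cfsg.Agent.LsF.all_eq, Cfsg.Agent.LsF.countP_eq])); decide +kernel))

/-- the order of `b` -/
def n_b : ℕ := 4154781481226426191177580544000000

def l_b : List (ℕ × ℕ) := [(2, 41), (3, 13), (5, 6), (7, 2), (11, 1), (13, 1), (17, 1), (19, 1), (23, 1), (31, 1), (47, 1)]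

def o_b : List ℕ := [60, 168, 360, 504, 660, 1092, 2448, 2520, 3420, 4080, 5616, 6048, 6072, 7800, 7920, 9828, 14880, 20160, 25920, 29120, 32736, 51888, 58800, 62400, 95040, 126000, 175560, 181440, 262080, 372000, 443520, 604800, 976500, 979200, 1451520, 1814400, 3265920, 4245696, 4680000, 5515776, 6065280, 9999360, 10200960, 13685760, 17971200, 19958400, 42456960, 44352000, 50232960, 174182400, 197406720, 211341312, 239500800, 244823040, 251596800, 898128000, 987033600, 1018368000, 1056706560, 1425715200, 3113510400, 4585351680, 5859000000, 7254000000, 9196830720, 14742000000, 20158709760, 43589145600, 47377612800, 50778000000, 448345497600, 495766656000, 653837184000, 4106059776000, 4952179814400, 10461394944000, 23499295948800, 25015379558400, 34693789777920, 42305421312000, 64561751654400, 177843714048000, 258492255436800, 273030912000000, 3201186852864000, 3311126603366400, 24815256521932800, 60822550204416000, 90745943887872000, 1216451004088320000,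 4089470473293004800, 4157776806543360000, 50027557148216524800, 51615733565620224000, 361310134959341568000, 76532479683774853939200, 208114637736580743168000, 4154781481226426191177580544000000]

theorem v_b : valid l_b n_b = true := by decide +kernel

theorem nd_b : (l_b.map fun x => x.1).Nodup := by decide +kernel

set_option maxRecDepth 100000 in
theorem ords_b (B : Base) : Ords.{0} n_b o_b := ords_of B v_b (by ((try (rewrite [Cfsg.Agent.LsF.fe4d28a_24.2, Cfsg.Agent.LsF.fe4d28a_27.2, Cfsg.Agent.LsF.all_eq, Cfsg.Agent.LsF.countP_eq])); decide +kernel))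

/-- the order of `m` -/
def n_m : ℕ := 808017424794512875886459904961710757005754368000000000

def l_m : List (ℕ × ℕ) := [(2, 46), (3, 20), (5, 9), (7, 6), (11, 2), (13, 3), (17, 1), (19, 1), (23, 1), (29, 1), (31, 1), (41, 1), (47, 1), (59, 1), (71, 1)]

def o_m : List ℕ := [60, 168, 360, 504, 660, 1092, 2448, 2520, 3420, 4080, 5616, 6048, 6072, 7800, 7920, 9828, 12180, 14880, 20160, 25920, 29120, 32736, 34440, 51888, 58800, 62400, 95040, 102660, 126000, 175560, 178920, 181440, 262080, 265680, 372000, 443520, 604800, 976500, 979200, 1451520, 1814400, 1876896, 2413320, 3265920, 4245696, 4680000, 5515776, 6065280, 9999360, 10200960, 13685760, 17971200, 19958400, 32537600, 42456960, 44352000, 50232960, 138297600, 174182400, 197406720, 211341312, 239500800, 244823040, 251596800, 898128000, 987033600, 1018368000, 1056706560, 1073740800, 1425715200, 1721606400, 3113510400, 4030387200, 4585351680, 5859000000, 7254000000, 9196830720, 14742000000, 20158709760,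 43589145600, 47377612800, 50778000000, 145926144000, 237783237120, 448345497600, 460815505920, 495766656000, 653837184000, 2317591180800, 4106059776000, 4952179814400, 10151968619520, 10461394944000, 23499295948800, 25015379558400, 34693789777920, 42305421312000, 50759843097600, 53443952640000, 64561751654400, 177843714048000, 228501000000000, 258492255436800, 273030912000000, 3201186852864000, 3311126603366400, 21032402889738240, 24815256521932800, 60822550204416000, 65784756654489600, 90745943887872000, 1216451004088320000, 4089470473293004800, 4157776806543360000, 25545471085854720000, 50027557148216524800, 51615733565620224000, 361310134959341568000, 562000363888803840000, 1120527288631296000000, 1289512799941305139200, 12926008369442488320000, 76532479683774853939200, 208114637736580743168000, 310224200866619719680000, 1255205709190661721292800, 7755605021665492992000000, 201645730563302817792000000, 5444434725209176080384000000, 152444172305856930250752000000,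 4420880996869850977271808000000, 132626429906095529318154240000000, 4111419327088961408862781440000000, 4154781481226426191177580544000000, 131565418466846765083609006080000000, 808017424794512875886459904961710757005754368000000000]

theorem v_m : valid l_m n_m = true := by decide +kernel

theorem nd_m : (l_m.map fun x => x.1).Nodup := by decide +kernel

set_option maxRecDepth 100000 in
theorem ords_m (B : Base) : Ords.{0} n_m o_m := ords_of B v_m (by ((try (rewrite [Cfsg.Agent.LsF.fe4d28a_24.2, Cfsg.Agent.LsF.fe4d28a_27.2, Cfsg.Agent.LsF.all_eq, Cfsg.Agent.LsF.countP_eq])); decide +kernel))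

end D

end Cfsg.Agent.H940.Eng
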