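import Cfsg.Agent.H940.MCRows
import Cfsg.Agent.S0000
import Cfsg.Agent.Prune
set_option linter.all false
prune_inst 0x7f00000000000000000000000000000000000000000000000000000000000000000000000000000000000000000000000000000000000000000000000000000000000000000000000000000000000000003fffffffffffffffffffffffffffbeffbdffffffff

/-!
# S5906 / S5907: the rows, from the row `B` only (helper940)
-/

set_option autoImplicit false

namespace Cfsg.Agent.H940.MaxCls

open Cfsg

theorem known (G : Type*) [Group G] [Finite G] [IsSimpleGroup G] : IsKnownSimple' G :=
  Cfsg.Agent.S0000.result

theorem base : Eng.Base where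
  table := OrdDiv.table
  known := fun S _ _ h => by
    haveI := h
    exact known S

/-- all rows, from the row of the Baby Monster -/
theorem rows_of_B (hB : Eng.Base → Sep 5 Spor.BabyMonster) : Rows := rows_of base (hB base)

/-- S5906 from the row of the Baby Monster -/
theorem s5906_of_B (hB : Eng.Base → Sep 5 Spor.BabyMonster) {G : Type*} [Group G] [Finite G] [IsSimpleGroup G] :
    Cls 4 G ↔ L4 G :=
  (rows_of_B hB).main known

end Cfsg.Agent.H940.MaxCls
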