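import Cfsg.Prelude.Def_Classification2
import Cfsg.Agent.H940.MaxCls
import Mathlib
import Cfsg.Agent.LieClassical.HermPerfect
import Cfsg.Agent.SporadicStructure.M24El
import Cfsg.Agent.SporadicStructure.M11InvPerms
import Cfsg.Prelude.Def_GeometricClasses
import Cfsg.Agent.H905.SLProper
import Cfsg.Agent.H907.Schur
import Cfsg.Agent.H954.FieldSub
import Cfsg.Agent.ClassicalGeometry.DiagNormal
import Cfsg.Agent.H910.Decomp
import Cfsg.Agent.LieClassical.SympPerfect
import Cfsg.Agent.H940.EngData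
import Cfsg.Agent.H715.Fpr.Row4_m3
import Cfsg.Agent.H807.MaxPSL.Types
import Cfsg.Agent.H937.Meet3
import Cfsg.Agent.S0811
import Cfsg.Agent.S0812
import Cfsg.Agent.S5938
import Cfsg.Agent.S5939
import Cfsg.Agent.S5941
import Cfsg.Agent.S5942
import Cfsg.Agent.H148.Oct.Quat_m3
import Cfsg.Agent.KFacts.RgdFilt
import Cfsg.Agent.H519.LieRank
import Cfsg.Agent.FastGrp
import Cfsg.Agent.Prune
set_option linter.all false

section
prune_inst 0x7ffca8fbabf839dfdfff7e77a6d8cffc39905fffe6dff94bbfe821cf0bdf030a09c5f3ad8de010fe1ec3421400a87843f9ffceffe26bdc7ffffd5ff45ffbee0ff5f7bd08519688340fbc0fff03f0778e7f3fffffffffffffffffffffffffffbeffbdffffffff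

-- part: H940/MCAssemble
section
set_option linter.all false

/-!
# S5906 from its rows (helper940)

The rows are the fields of `Rows`; every row is a task.
-/

set_option autoImplicit false

namespace Cfsg.Agent.H940.MaxCls

open Cfsg

/-- the fields `F` for which `PSL₂(F)` has exactly four classes of maximal subgroups -/
def Cond4 (F : Type) [Fintype F] : Prop :=
  Fintype.card F = 11 ∨
  (∃ p : ℕ, p.Prime ∧ 3 < p ∧ (p % 40 = 3 ∨ p % 40 = 37 ∨ p % 40 = 13 ∨ p % 40 = 27) ∧ Fintype.card F = p) ∨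
  (∃ p r m : ℕ, p.Prime ∧ r.Prime ∧ 1 ≤ m ∧ (p ≠ 2 → r ≠ 2) ∧ (p = 2 → 2 ≤ m) ∧ Fintype.card F = p ^ (r ^ m))

/-- the fields `F` for which `PSL₂(F)` has exactly three classes of maximal subgroups -/
def Cond3 (F : Type) [Fintype F] : Prop :=
  Fintype.card F = 5 ∨ Fintype.card F = 7 ∨ ∃ r : ℕ, r.Prime ∧ Fintype.card F = 2 ^ r

structure Rows : Prop where
  psl2_four : ∀ (F : Type) [Field F] [Fintype F], Cond4 F → Cls 4 (Matrix.ProjectiveSpecialLinearGroup (Fin 2) F)
  psl2_three : ∀ (F : Type) [Field F] [Fintype F], Cond3 F → Cls 3 (Matrix.ProjectiveSpecialLinearGroup (Fin 2) F)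
  psl2_five : ∀ (F : Type) [Field F] [Fintype F], 4 ≤ Fintype.card F → ¬ Cond4 F → ¬ Cond3 F →
    Sep 5 (Matrix.ProjectiveSpecialLinearGroup (Fin 2) F)
  psl3_two : ∀ (F : Type) [Field F] [Fintype F], Fintype.card F = 2 →
    Cls 3 (Matrix.ProjectiveSpecialLinearGroup (Fin 3) F)
  psl3_three : ∀ (F : Type) [Field F] [Fintype F], Fintype.card F = 3 →
    Cls 4 (Matrix.ProjectiveSpecialLinearGroup (Fin 3) F)
  psl3_five : ∀ (F : Type) [Field F] [Fintype F], 4 ≤ Fintype.card F →
    Sep 5 (Matrix.ProjectiveSpecialLinearGroup (Fin 3) F)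
  psl_five : ∀ (F : Type) [Field F] [Fintype F] (n : ℕ), 4 ≤ n →
    Sep 5 (Matrix.ProjectiveSpecialLinearGroup (Fin n) F)
  psu3_three : ∀ (F : Type) [Field F] [Fintype F], Fintype.card F = 9 → Cls 4 (PSU 3 F 3)
  psu3_two : ∀ (F : Type) [Field F] [Fintype F] (m : ℕ), 1 ≤ m → Fintype.card F = (2 ^ (2 ^ m)) ^ 2 →
    Cls 4 (PSU 3 F (2 ^ (2 ^ m)))
  psu3_five : ∀ (F : Type) [Field F] [Fintype F] (q : ℕ), Fintype.card F = q ^ 2 → 4 ≤ q →
    (¬ ∃ m : ℕ, 1 ≤ m ∧ q = 2 ^ (2 ^ m)) → Sep 5 (PSU 3 F q)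
  psu_five : ∀ (F : Type) [Field F] [Fintype F] (n q : ℕ), Fintype.card F = q ^ 2 → 4 ≤ n → Sep 5 (PSU n F q)
  psp_five : ∀ (F : Type) [Field F] [Fintype F] (m : ℕ), 2 ≤ m → (m = 2 → 3 ≤ Fintype.card F) → Sep 5 (PSp m F)
  sz_four : ∀ (F : Type) [Field F] [Fintype F] (m : ℕ), 1 ≤ m → Fintype.card F = 2 ^ (2 * m + 1) →
    (2 * m + 1).Prime → Cls 4 (Lie.Sz F (2 ^ (m + 1)))
  sz_five : ∀ (F : Type) [Field F] [Fintype F] (m : ℕ), 1 ≤ m → Fintype.card F = 2 ^ (2 * m + 1) →
    ¬ (2 * m + 1).Prime → Sep 5 (Lie.Sz F (2 ^ (m + 1)))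
  alt : ∀ n : ℕ, 6 ≤ n → Sep 5 (alternatingGroup (Fin n))
  alt5 : Cls 3 (alternatingGroup (Fin 5))
  oodd : ∀ (G : Type) [Group G], IsPOmegaOdd G → Sep 5 G
  oplus : ∀ (G : Type) [Group G], IsPOmegaPlus G → Sep 5 G
  ominus : ∀ (G : Type) [Group G], IsPOmegaMinus G → Sep 5 G
  exc : ∀ (G : Type) [Group G], (Lie.IsoChevG2 G ∨ Lie.IsoF4 G ∨ Lie.IsoChevE6 G ∨ Lie.IsoE7 G ∨ Lie.IsoE8 G
    ∨ Lie.Iso2E6 G ∨ Lie.Iso3D4 G ∨ Lie.IsoRee G ∨ Lie.Iso2F4 G ∨ Lie.IsoTits G) → Sep 5 G
  spor : ∀ (G : Type) [Group G], IsSporadicGroup G → Sep 5 G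

end Cfsg.Agent.H940.MaxCls
end

-- part: H950/SuTools_mg
section
prune_inst 0x156041404c4002000018859251001c46a2000000000b04004da3050204884c62a0812621b82014114a18a94500390040031000d0020000000000000001180080000012061140a10000000e000880000000000000000000000000000000000004200000000
set_option linter.all false
open scoped Cfsg.Agent.FastGrp

-- part: H950/SuTools
section
/-!
# Subgroups of `SU n F q` containing Siegel transformations (helper950)

* `HasQ hF H x`, `HasT hF H x` : `H` contains all Siegel transformations, all transvections with centre `x`.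
* `exists_hasQ` : a subgroup of index prime to `p` contains all Siegel transformations of some isotropic `x ≠ 0`.
* `top_of_sylow_irr` : an irreducible subgroup of index prime to `p` is everything.
* `top_of_hasT` : a subgroup containing all transvections is everything.
-/

set_option autoImplicit false

namespace Cfsg.Agent.H950.Su

open Cfsg Cfsg.Agent.LieClassical.HermBasic Cfsg.Agent.LieClassical.HermSiegel
  Cfsg.Agent.LieClassical.HermGen Cfsg.Agent.LieClassical.HermSimple Cfsg.Agent.LieClassical.HermPerfect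

variable {F : Type*} [Field F] [Fintype F] {q n : ℕ}

/-- `H` contains all Siegel transformations with isotropic vector `x` -/
def HasQ (hF : Fintype.card F = q ^ 2) (H : Subgroup (SU n F q)) (x : Fin n → F) : Prop :=
  ∀ (w : Fin n → F) (μ : F) (h : IsSiegel q x w μ), siegel hF x w μ h ∈ H

/-- `H` contains all transvections with isotropic vector `x` -/
def HasT (hF : Fintype.card F = q ^ 2) (H : Subgroup (SU n F q)) (x : Fin n → F) : Prop :=
  ∀ (μ : F) (h : IsSiegel q x 0 μ), siegel hF x 0 μ h ∈ H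

theorem HasQ.hasT {hF : Fintype.card F = q ^ 2} {H : Subgroup (SU n F q)} {x : Fin n → F} (h : HasQ hF H x) :
    HasT hF H x := fun μ h' => h 0 μ h'

theorem HasQ.mono {hF : Fintype.card F = q ^ 2} {H K : Subgroup (SU n F q)} {x : Fin n → F} (h : HasQ hF H x)
    (hHK : H ≤ K) : HasQ hF K x := fun w μ h' => hHK (h w μ h')

theorem HasT.mono {hF : Fintype.card F = q ^ 2} {H K : Subgroup (SU n F q)} {x : Fin n → F} (h : HasT hF H x)
    (hHK : H ≤ K) : HasT hF K x := fun μ h' => hHK (h μ h')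

theorem HasQ.conj {hF : Fintype.card F = q ^ 2} {H K : Subgroup (SU n F q)} {x : Fin n → F} (h : HasQ hF H x)
    {g : SU n F q} (hg : ∀ y ∈ H, g * y * g⁻¹ ∈ K) : HasQ hF K (act g x) := by
  intro w μ h1
  have h2 : IsSiegel q x (act g⁻¹ w) μ := by
    have := h1.map g⁻¹
    rwa [act_inv_act] at this
  have h3 := hg _ (h _ _ h2)
  rw [conj_siegel] at h3
  have h4 := siegel_congr hF (h2.map g) h1 rfl (act_act_inv g w) rfl
  rwa [h4] at h3

theorem HasT.conj {hF : Fintype.card F = q ^ 2} {H K : Subgroup (SU n F q)} {x : Fin n → F} (h : HasT hF H x)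
    {g : SU n F q} (hg : ∀ y ∈ H, g * y * g⁻¹ ∈ K) : HasT hF K (act g x) := by
  intro μ h1
  have h2 : IsSiegel q x 0 μ := by
    have := h1.map g⁻¹
    rwa [act_inv_act, act_zero] at this
  have h3 := hg _ (h _ h2)
  rw [conj_siegel] at h3
  have h4 := siegel_congr hF (h2.map g) h1 rfl (act_zero g) rfl
  rwa [h4] at h3

theorem HasQ.move {hF : Fintype.card F = q ^ 2} {H : Subgroup (SU n F q)} {x : Fin n → F} (h : HasQ hF H x)
    {g : SU n F q} (hg : g ∈ H) : HasQ hF H (act g x) :=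
  h.conj fun _ hy => H.mul_mem (H.mul_mem hg hy) (H.inv_mem hg)

theorem HasT.move {hF : Fintype.card F = q ^ 2} {H : Subgroup (SU n F q)} {x : Fin n → F} (h : HasT hF H x)
    {g : SU n F q} (hg : g ∈ H) : HasT hF H (act g x) :=
  h.conj fun _ hy => H.mul_mem (H.mul_mem hg hy) (H.inv_mem hg)

theorem siegel_zero_left (hF : Fintype.card F = q ^ 2) {w : Fin n → F} {μ : F} (h : IsSiegel q 0 w μ) :
    siegel hF 0 w μ h = 1 := by
  apply ext_act
  intro v
  rw [act_siegel, act_one, herm_zero_right hF]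
  simp

theorem hasQ_zero (hF : Fintype.card F = q ^ 2) (H : Subgroup (SU n F q)) : HasQ hF H 0 := by
  intro w μ h
  rw [siegel_zero_left]
  exact H.one_mem

theorem isSiegel_of_smul {x w : Fin n → F} {μ c : F} (hc : c ≠ 0) (h : IsSiegel q (c • x) w μ) :
    IsSiegel q x w μ := by
  refine ⟨?_, ?_, h.tr⟩
  · have := h.iso
    rw [herm_smul_left, herm_smul_right, mul_eq_zero, mul_eq_zero] at this
    rcases this with h1 | h1 | h1
    · exact absurd h1 hc
    · exact absurd h1 (pow_ne_zero _ hc)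
    · exact h1
  · have := h.orth
    rw [herm_smul_right, mul_eq_zero] at this
    rcases this with h1 | h1
    · exact absurd h1 (pow_ne_zero _ hc)
    · exact h1

theorem HasQ.smul {hF : Fintype.card F = q ^ 2} {H : Subgroup (SU n F q)} {x : Fin n → F} (h : HasQ hF H x)
    (c : F) : HasQ hF H (c • x) := by
  by_cases hc : c = 0
  · rw [hc, zero_smul]; exact hasQ_zero hF H
  intro w μ h1
  have h2 := isSiegel_of_smul hc h1
  have h3 := siegel_smul hF (c := c) h2
  have h4 : siegel hF (c • x) w μ h1 = siegel hF (c • x) w μ h2.smul := rfl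
  rw [h4, h3]
  exact h _ _ _

theorem HasT.smul {hF : Fintype.card F = q ^ 2} {H : Subgroup (SU n F q)} {x : Fin n → F} (h : HasT hF H x)
    (c : F) : HasT hF H (c • x) := by
  by_cases hc : c = 0
  · rw [hc, zero_smul]; exact (hasQ_zero hF H).hasT
  intro μ h1
  have h2 := isSiegel_of_smul hc h1
  have h3 := siegel_smul hF (c := c) h2
  have h4 : siegel hF (c • x) 0 μ h1 = siegel hF (c • x) 0 μ h2.smul := rfl
  have h5 : IsSiegel q x 0 (c * c ^ q * μ) := by
    have := h2.smul' hF (c := c)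
    rwa [smul_zero] at this
  rw [h4, h3, siegel_congr hF _ h5 rfl (smul_zero _) rfl]
  exact h _ _

/-! ### The group of the Siegel transformations of `x` -/

/-- the Siegel transformations of an isotropic vector -/
def QQ (hF : Fintype.card F = q ^ 2) (x : Fin n → F) (hx : hermForm n F q x x = 0) : Subgroup (SU n F q) where
  carrier := {g | ∃ (w : Fin n → F) (μ : F) (h : IsSiegel q x w μ), g = siegel hF x w μ h}
  one_mem' := ⟨0, 0, IsSiegel.zero hF hx, (siegel_zero hF _).symm⟩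
  mul_mem' := by
    rintro _ _ ⟨w, μ, h, rfl⟩ ⟨w', μ', h', rfl⟩
    exact ⟨_, _, _, siegel_mul hF h h'⟩
  inv_mem' := by
    rintro _ ⟨w, μ, h, rfl⟩
    exact ⟨_, _, _, siegel_inv hF h⟩

theorem siegel_pow (hF : Fintype.card F = q ^ 2) {x w : Fin n → F} {μ : F} (h : IsSiegel q x w μ) (k : ℕ) :
    ∃ (μ' : F) (h' : IsSiegel q x ((k : F) • w) μ'), siegel hF x w μ h ^ k = siegel hF x ((k : F) • w) μ' h' := by
  induction k with
  | zero =>
    have h0 : IsSiegel q x (((0 : ℕ) : F) • w) 0 := by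
      rw [Nat.cast_zero, zero_smul]
      exact IsSiegel.zero hF h.iso
    refine ⟨0, h0, ?_⟩
    rw [pow_zero, siegel_congr hF h0 (IsSiegel.zero hF h.iso) rfl (by rw [Nat.cast_zero, zero_smul]) rfl, siegel_zero]
  | succ k ih =>
    obtain ⟨μ', h', he⟩ := ih
    have e : ((k : F) • w) + w = ((k + 1 : ℕ) : F) • w := by
      rw [Nat.cast_succ, add_smul, one_smul]
    have h2 := h'.mul hF h
    rw [e] at h2
    refine ⟨_, h2, ?_⟩
    rw [pow_succ, he, siegel_mul hF h' h]
    exact siegel_congr hF _ _ rfl e rfl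

theorem siegel_zero_pow (hF : Fintype.card F = q ^ 2) {x : Fin n → F} {μ : F} (h : IsSiegel q x 0 μ) (k : ℕ) :
    ∃ h' : IsSiegel q x 0 ((k : F) * μ), siegel hF x 0 μ h ^ k = siegel hF x 0 ((k : F) * μ) h' := by
  induction k with
  | zero =>
    have h0 : IsSiegel q x 0 (((0 : ℕ) : F) * μ) := by
      rw [Nat.cast_zero, zero_mul]
      exact IsSiegel.zero hF h.iso
    refine ⟨h0, ?_⟩
    rw [pow_zero, siegel_congr hF h0 (IsSiegel.zero hF h.iso) rfl rfl (by rw [Nat.cast_zero, zero_mul]), siegel_zero]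
  | succ k ih =>
    obtain ⟨h', he⟩ := ih
    have e : (k : F) * μ + μ - hermForm n F q 0 0 = ((k + 1 : ℕ) : F) * μ := by
      rw [Nat.cast_succ, herm_zero_left]; ring
    have h2 := h'.mul hF h
    rw [e, add_zero] at h2
    refine ⟨h2, ?_⟩
    rw [pow_succ, he, siegel_mul hF h' h]
    exact siegel_congr hF _ _ rfl (add_zero _) e

theorem isPGroup_QQ (hF : Fintype.card F = q ^ 2) {p : ℕ} [CharP F p] (x : Fin n → F)
    (hx : hermForm n F q x x = 0) : IsPGroup p (QQ hF x hx) := by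
  rintro ⟨_, w, μ, h, rfl⟩
  refine ⟨2, ?_⟩
  apply Subtype.ext
  show siegel hF x w μ h ^ (p ^ 2) = 1
  obtain ⟨μ', h', he⟩ := siegel_pow hF h p
  have h0 : IsSiegel q x 0 μ' := by
    rw [CharP.cast_eq_zero, zero_smul] at h'
    exact h'
  rw [pow_two, pow_mul, he, siegel_congr hF h' h0 rfl (by rw [CharP.cast_eq_zero, zero_smul]) rfl]
  obtain ⟨h'', he'⟩ := siegel_zero_pow hF h0 p
  rw [he', siegel_congr hF h'' (IsSiegel.zero hF hx) rfl rfl (by rw [CharP.cast_eq_zero, zero_mul]), siegel_zero]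

theorem hasQ_iff {hF : Fintype.card F = q ^ 2} {H : Subgroup (SU n F q)} {x : Fin n → F}
    (hx : hermForm n F q x x = 0) : HasQ hF H x ↔ QQ hF x hx ≤ H := by
  constructor
  · rintro h _ ⟨w, μ, h', rfl⟩
    exact h w μ h'
  · intro h w μ h'
    exact h ⟨w, μ, h', rfl⟩

/-- `SU n F q` has a nonzero isotropic vector -/
theorem exists_iso_ne (hF : Fintype.card F = q ^ 2) (hn : 2 ≤ n) :
    ∃ x : Fin n → F, x ≠ 0 ∧ hermForm n F q x x = 0 := by
  obtain ⟨p, p', a, b, ha, hp, hp', h1, h2, h3⟩ := exists_hyp_pair (q := q) (n := n) hF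
    (i := ⟨0, by omega⟩) (j := ⟨1, by omega⟩) (by simp)
  refine ⟨p, ?_, h1⟩
  rintro rfl
  rw [herm_zero_left] at h3
  exact zero_ne_one h3

/-- a subgroup of index prime to `p` contains a conjugate of every `p`-subgroup -/
theorem exists_conj_le_of_not_dvd {G : Type*} [Group G] [Finite G] {p : ℕ} [Fact p.Prime] {K Q : Subgroup G}
    (hK : ¬ p ∣ K.index) (hQ : IsPGroup p Q) : ∃ g : G, ∀ y ∈ Q, g * y * g⁻¹ ∈ K := by
  obtain ⟨S⟩ : Nonempty (Sylow p K) := inferInstance
  have h1 : IsPGroup p ((S : Subgroup K).map K.subtype) := S.2.map _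
  have h2 : ((S : Subgroup K).map K.subtype).index = (S : Subgroup K).index * K.index := by
    rw [Subgroup.index_map, Subgroup.ker_subtype, sup_bot_eq, Subgroup.range_subtype]
  have h3 : ¬ p ∣ ((S : Subgroup K).map K.subtype).index := by
    rw [h2, (Fact.out : p.Prime).dvd_mul]
    rintro (h | h)
    · exact S.not_dvd_index h
    · exact hK h
  let P : Sylow p G := h1.toSylow h3
  obtain ⟨P', hP'⟩ := hQ.exists_le_sylow
  obtain ⟨g, hg⟩ := MulAction.exists_smul_eq G P' P
  refine ⟨g, fun y hy => ?_⟩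
  have h4 : g * y * g⁻¹ ∈ ((g • P' : Sylow p G) : Subgroup G) := by
    rw [Sylow.coe_subgroup_smul, Subgroup.mem_pointwise_smul_iff_inv_smul_mem]
    have : (MulAut.conj g)⁻¹ • (g * y * g⁻¹) = y := by
      rw [← map_inv]
      show g⁻¹ * (g * y * g⁻¹) * g⁻¹⁻¹ = y
      group
    rw [this]
    exact hP' hy
  rw [hg] at h4
  have h5 : g * y * g⁻¹ ∈ (S : Subgroup K).map K.subtype := h4
  exact Subgroup.map_subtype_le _ h5

/-- a subgroup of index prime to `p` contains all Siegel transformations of an isotropic vector -/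
theorem exists_hasQ (hF : Fintype.card F = q ^ 2) (hn : 2 ≤ n) {p : ℕ} [Fact p.Prime] [CharP F p]
    {K : Subgroup (SU n F q)} (hK : ¬ p ∣ K.index) :
    ∃ x : Fin n → F, x ≠ 0 ∧ hermForm n F q x x = 0 ∧ HasQ hF K x := by
  obtain ⟨x, hx0, hx⟩ := exists_iso_ne (q := q) (n := n) hF hn
  obtain ⟨g, hg⟩ := exists_conj_le_of_not_dvd hK (isPGroup_QQ hF (p := p) x hx)
  refine ⟨act g x, fun h => hx0 ((act_eq_zero g).1 h), by rw [herm_act, hx], ?_⟩
  exact ((hasQ_iff hx).2 le_rfl).conj hg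

/-! ### Propagation -/

theorem mem_coordSub_self (x : Fin n → F) : x ∈ coordSub F n n := mem_coordSub_top x

/-- the Siegel transformations of `x` move `y` to all isotropic points not orthogonal to `x` -/
theorem HasQ.step {hF : Fintype.card F = q ^ 2} {K : Subgroup (SU n F q)} {x y z : Fin n → F}
    (hx : hermForm n F q x x = 0) (hQ : HasQ hF K x) (hy : hermForm n F q y y = 0) (hyx : hermForm n F q y x ≠ 0)
    (hz : hermForm n F q z z = 0) (hzx : hermForm n F q z x ≠ 0) :
    ∃ g ∈ K, ∃ c : F, c ≠ 0 ∧ act g y = c • z := by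
  obtain ⟨c, μ, h, he⟩ := exists_siegel_map hF (u := x) (v := y)
    (v' := (hermForm n F q y x / hermForm n F q z x) • z) hx
    (by rw [hy, herm_smul_left, herm_smul_right, hz]; ring)
    (by rw [herm_smul_left, div_mul_cancel₀ _ hzx]) hyx
  exact ⟨_, hQ _ _ h, _, div_ne_zero hyx hzx, he⟩

theorem herm_ne_swap (hF : Fintype.card F = q ^ 2) {u v : Fin n → F} (h : hermForm n F q u v ≠ 0) :
    hermForm n F q v u ≠ 0 := fun h' => h (herm_eq_zero_swap hF h')

/-- two opposite root groups generate everything -/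
theorem top_of_hasQ_pair (hF : Fintype.card F = q ^ 2) (hn : 3 ≤ n) {K : Subgroup (SU n F q)} {x y : Fin n → F}
    (hx : hermForm n F q x x = 0) (hy : hermForm n F q y y = 0) (hxy : hermForm n F q x y ≠ 0)
    (hQx : HasQ hF K x) (hQy : HasQ hF K y) : K = ⊤ := by
  have key : ∀ x y z : Fin n → F, hermForm n F q x x = 0 → hermForm n F q y y = 0 → hermForm n F q x y ≠ 0 →
      HasQ hF K x → HasQ hF K y → hermForm n F q z z = 0 → hermForm n F q z x ≠ 0 → HasQ hF K z := by
    intro x y z hx hy hxy hQx hQy hz hzx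
    obtain ⟨g, hg, c, hc, he⟩ := hQx.step hx hy (herm_ne_swap hF hxy) hz hzx
    have h1 := (hQy.move hg).smul c⁻¹
    rwa [he, smul_smul, inv_mul_cancel₀ hc, one_smul] at h1
  have hx0 : x ≠ 0 := by
    rintro rfl
    exact hxy (herm_zero_left _)
  rw [eq_top_iff, ← siegelGroup_eq_top hF hn, siegelGroup, Subgroup.closure_le]
  rintro _ ⟨z, w, μ, h, rfl⟩
  by_cases hz0 : z = 0
  · subst hz0
    rw [siegel_zero_left]
    exact K.one_mem
  have hz := h.iso
  refine (?_ : HasQ hF K z) w μ h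
  by_cases hzx : hermForm n F q z x = 0
  · obtain ⟨t, -, ht, hxt, hzt⟩ := exists_iso_common hF (k := n) (mem_coordSub_self x) (mem_coordSub_self z) hx0 hz0
      hx (herm_eq_zero_swap hF hzx)
    have h1 := key x y t hx hy hxy hQx hQy ht (herm_ne_swap hF hxt)
    exact key t x z ht hx (herm_ne_swap hF hxt) h1 hQx hz hzt
  · exact key x y z hx hy hxy hQx hQy hz hzx

/-- the subgroup `K` is irreducible on the natural module -/
def Irr (K : Subgroup (SU n F q)) : Prop :=
  ∀ W : Submodule F (Fin n → F), (∀ g ∈ K, ∀ w ∈ W, act g w ∈ W) → W = ⊥ ∨ W = ⊤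

theorem Irr.mono {K H : Subgroup (SU n F q)} (h : Irr K) (hKH : K ≤ H) : Irr H :=
  fun W hW => h W fun g hg w hw => hW g (hKH hg) w hw

theorem Irr.conj {K H : Subgroup (SU n F q)} (h : Irr K) (g : SU n F q) (hg : ∀ y ∈ K, g * y * g⁻¹ ∈ H) :
    Irr H := by
  intro W hW
  let L : (Fin n → F) →ₗ[F] (Fin n → F) :=
    { toFun := act g, map_add' := act_add g, map_smul' := fun c v => act_smul g c v }
  have h1 := h (W.comap L) (by
    intro y hy w hw
    have h2 := hW _ (hg y hy) _ hw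
    have h3 : act (g * y * g⁻¹) (L w) = L (act y w) := by
      show act (g * y * g⁻¹) (act g w) = act g (act y w)
      rw [act_mul, act_mul, act_inv_act]
    rw [h3] at h2
    exact h2)
  have hL : Function.Surjective L := fun v => ⟨act g⁻¹ v, act_act_inv g v⟩
  rcases h1 with h1 | h1
  · left
    rw [eq_bot_iff]
    intro v hv
    obtain ⟨u, rfl⟩ := hL v
    have h2 : u ∈ W.comap L := hv
    rw [h1, Submodule.mem_bot] at h2
    rw [h2, map_zero]
    exact Submodule.zero_mem _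
  · right
    rw [eq_top_iff]
    intro v _
    obtain ⟨u, rfl⟩ := hL v
    have h2 : u ∈ W.comap L := by rw [h1]; trivial
    exact h2

/-- an irreducible subgroup containing `QQ x` for some `x ≠ 0` is everything -/
theorem top_of_hasQ_irr (hF : Fintype.card F = q ^ 2) (hn : 3 ≤ n) {K : Subgroup (SU n F q)} {x : Fin n → F}
    (hx0 : x ≠ 0) (hx : hermForm n F q x x = 0) (hQx : HasQ hF K x) (hirr : Irr K) : K = ⊤ := by
  by_cases h : ∃ g ∈ K, hermForm n F q x (act g x) ≠ 0
  · obtain ⟨g, hg, hgx⟩ := h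
    exact top_of_hasQ_pair hF hn hx (by rw [herm_act, hx]) hgx hQx (hQx.move hg)
  exfalso
  push Not at h
  let W : Submodule F (Fin n → F) := Submodule.span F {v | ∃ g ∈ K, v = act g x}
  have hW : ∀ g ∈ K, ∀ w ∈ W, act g w ∈ W := by
    intro g hg w hw
    induction hw using Submodule.span_induction with
    | mem v hv =>
      obtain ⟨k, hk, rfl⟩ := hv
      rw [← act_mul]
      exact Submodule.subset_span ⟨g * k, K.mul_mem hg hk, rfl⟩
    | zero => rw [act_zero]; exact W.zero_mem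
    | add u v _ _ hu hv => rw [act_add]; exact W.add_mem hu hv
    | smul c v _ hv => rw [act_smul]; exact W.smul_mem c hv
  have hxW : x ∈ W := Submodule.subset_span ⟨1, K.one_mem, (act_one x).symm⟩
  have hWx : ∀ w ∈ W, hermForm n F q w x = 0 := by
    intro w hw
    induction hw using Submodule.span_induction with
    | mem v hv =>
      obtain ⟨k, hk, rfl⟩ := hv
      exact herm_eq_zero_swap hF (h k hk)
    | zero => exact herm_zero_left _
    | add u v _ _ hu hv => rw [herm_add_left, hu, hv, add_zero]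
    | smul c v _ hv => rw [herm_smul_left, hv, mul_zero]
  rcases hirr W hW with h1 | h1
  · rw [h1, Submodule.mem_bot] at hxW
    exact hx0 hxW
  · apply hx0
    apply herm_nondeg hF
    intro v
    exact herm_eq_zero_swap hF (hWx v (by rw [h1]; trivial))

/-- **an irreducible subgroup of index prime to `p` is everything** -/
theorem top_of_sylow_irr (hF : Fintype.card F = q ^ 2) (hn : 3 ≤ n) {p : ℕ} [Fact p.Prime] [CharP F p]
    {K : Subgroup (SU n F q)} (hK : ¬ p ∣ K.index) (hirr : Irr K) : K = ⊤ := by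
  obtain ⟨x, hx0, hx, hQ⟩ := exists_hasQ hF (by omega) hK
  exact top_of_hasQ_irr hF hn hx0 hx hQ hirr

/-- **a subgroup containing all transvections is everything** -/
theorem top_of_hasT (hF : Fintype.card F = q ^ 2) (hn : 3 ≤ n) (h32 : ¬ (n = 3 ∧ q = 2)) {K : Subgroup (SU n F q)}
    (hT : ∀ x : Fin n → F, hermForm n F q x x = 0 → HasT hF K x) : K = ⊤ := by
  let N : Subgroup (SU n F q) := Subgroup.closure
    {g | ∃ (x : Fin n → F) (μ : F) (h : IsSiegel q x 0 μ), g = siegel hF x 0 μ h}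
  have hNK : N ≤ K := by
    rw [Subgroup.closure_le]
    rintro _ ⟨x, μ, h, rfl⟩
    exact hT x h.iso μ h
  have : N.Normal := by
    refine ⟨fun y hy g => ?_⟩
    induction hy using Subgroup.closure_induction with
    | mem y hy =>
      obtain ⟨x, μ, h, rfl⟩ := hy
      rw [conj_siegel]
      have h2 : IsSiegel q (act g x) 0 μ := by
        have := h.map g
        rwa [act_zero] at this
      rw [siegel_congr hF (h.map g) h2 rfl (act_zero g) rfl]
      exact Subgroup.subset_closure ⟨_, _, h2, rfl⟩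
    | one => rw [mul_one, mul_inv_cancel]; exact N.one_mem
    | mul a b _ _ ha hb =>
      have : g * (a * b) * g⁻¹ = (g * a * g⁻¹) * (g * b * g⁻¹) := by group
      rw [this]
      exact N.mul_mem ha hb
    | inv a _ ha =>
      have : g * a⁻¹ * g⁻¹ = (g * a * g⁻¹)⁻¹ := by group
      rw [this]
      exact N.inv_mem ha
  have hNc : ¬ N ≤ Subgroup.center (SU n F q) := by
    intro hc
    obtain ⟨p, p', a, b, ha, hp, hp', h1, h2, h3⟩ := exists_hyp_pair (q := q) (n := n) hF
      (i := ⟨0, by omega⟩) (j := ⟨1, by omega⟩) (by simp)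
    obtain ⟨μ, hμ0, hμ⟩ := exists_trace_zero_ne hF
    have hs : IsSiegel q p 0 μ := ⟨h1, herm_zero_left _, by rw [herm_zero_left, add_zero, hμ]⟩
    have hs' : IsSiegel q p' 0 μ := ⟨h2, herm_zero_left _, by rw [herm_zero_left, add_zero, hμ]⟩
    have h4 : siegel hF p 0 μ hs ∈ Subgroup.center (SU n F q) := hc (Subgroup.subset_closure ⟨_, _, _, rfl⟩)
    rw [Subgroup.mem_center_iff] at h4
    have h5 := congrArg (fun g => act g p) (h4 (siegel hF p' 0 μ hs'))
    simp only [act_mul] at h5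
    rw [act_siegel_self, act_siegel, act_siegel] at h5
    simp only [herm_zero_right hF, smul_zero, sub_zero, add_zero, herm_add_left, herm_smul_left, h1, h3,
      mul_zero, mul_one, zero_add] at h5
    have h3' : hermForm n F q p' p = 1 := by rw [herm_swap hF, h3, one_pow]
    rw [h3', mul_one] at h5
    have h6 : (μ * μ) • p = 0 := by
      have := h5.symm
      rwa [add_eq_left] at this
    have hp0 : p ≠ 0 := by
      rintro rfl
      rw [herm_zero_left] at h3
      exact zero_ne_one h3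
    rcases smul_eq_zero.1 h6 with h | h
    · exact hμ0 (mul_self_eq_zero.1 h)
    · exact hp0 h
  have h1 := normal_eq_top hF hn h32 hNc
  exact top_le_iff.1 (h1 ▸ hNK)

end Cfsg.Agent.H950.Su
end

-- part: H865/Sep/Base
section
/-!
# Tools for the rows `M11`, `M12` of S5906/S5907: transitivity from trees, orbit patterns, suborbits
-/

set_option autoImplicit false

namespace Cfsg.Agent.H865.Sep

open Subgroup Cfsg.Agent.H940.MaxCls

/-! ### Trees -/

/-- the tree check: element `j + 1` of `L` is the image of an earlier one -/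
def treeB (act : ℕ → ℕ → ℕ) (gens L : List ℕ) (tr : List (ℕ × ℕ)) : Bool :=
  Nat.beq (tr.length + 1) L.length && (List.range tr.length).all fun j =>
    Nat.ble (tr.getD j (0, 0)).2 j && Nat.blt (tr.getD j (0, 0)).1 gens.length &&
      Nat.beq (act (gens.getD (tr.getD j (0, 0)).1 0) (L.getD (tr.getD j (0, 0)).2 0)) (L.getD (j + 1) 0)

variable {G Ω : Type*} [Group G] [MulAction G Ω]

/-- `A` is transitive on the set `S` -/
def Tr (A : Subgroup G) (S : Set Ω) : Prop := ∀ x ∈ S, ∀ y ∈ S, ∃ a ∈ A, a • x = y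

theorem tr_of_tree {act : ℕ → ℕ → ℕ} {emb : ℕ → Ω} {A : Subgroup G} {gens L : List ℕ} {tr : List (ℕ × ℕ)}
    (hg : ∀ P ∈ gens, ∃ a ∈ A, ∀ m ∈ L, a • emb m = emb (act P m)) (h : treeB act gens L tr = true) :
    Tr A {x | ∃ m ∈ L, emb m = x} := by
  unfold treeB at h
  rw [Bool.and_eq_true, List.all_eq_true] at h
  obtain ⟨hl, h⟩ := h
  have hl' : tr.length + 1 = L.length := Nat.eq_of_beq_eq_true hl
  have key : ∀ j < L.length, ∃ a ∈ A, a • emb (L.getD 0 0) = emb (L.getD j 0) := by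
    intro j
    induction j using Nat.strong_induction_on with
    | _ j ih =>
      intro hj
      rcases j with _ | j
      · exact ⟨1, A.one_mem, one_smul _ _⟩
      · have h1 := h j (List.mem_range.2 (by omega))
        rw [Bool.and_eq_true, Bool.and_eq_true, Nat.ble_eq, Nat.blt_eq] at h1
        obtain ⟨⟨h1, h2⟩, h3⟩ := h1
        have h3' := Nat.eq_of_beq_eq_true h3
        obtain ⟨b, hb, hb2⟩ := ih _ (Nat.lt_succ_of_le h1) (by omega)
        obtain ⟨a, ha, ha2⟩ := hg (gens.getD (tr.getD j (0, 0)).1 0) (by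
          rw [List.getD_eq_getElem _ _ h2]
          exact List.getElem_mem h2)
        refine ⟨a * b, A.mul_mem ha hb, ?_⟩
        rw [mul_smul, hb2, ha2 _ (by
          rw [List.getD_eq_getElem _ _ (by omega)]
          exact List.getElem_mem _), h3']
  have hidx : ∀ m ∈ L, ∃ j < L.length, L.getD j 0 = m := by
    intro m hm
    obtain ⟨j, hj, hjm⟩ := List.mem_iff_getElem.1 hm
    exact ⟨j, hj, by rw [List.getD_eq_getElem _ _ hj]; exact hjm⟩
  rintro _ ⟨m, hm, rfl⟩ _ ⟨n, hn, rfl⟩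
  obtain ⟨i, hi, rfl⟩ := hidx m hm
  obtain ⟨j, hj, rfl⟩ := hidx n hn
  obtain ⟨a, ha, ha2⟩ := key i hi
  obtain ⟨b, hb, hb2⟩ := key j hj
  refine ⟨b * a⁻¹, A.mul_mem hb (A.inv_mem ha), ?_⟩
  rw [mul_smul, ← ha2, inv_smul_smul, hb2]

theorem Tr.mono {A B : Subgroup G} {S : Set Ω} (h : Tr A S) (hAB : A ≤ B) : Tr B S := fun x hx y hy => by
  obtain ⟨a, ha, h1⟩ := h x hx y hy
  exact ⟨a, hAB ha, h1⟩

/-- the number of points divides the order of a transitive group -/
theorem Tr.card_dvd [Finite G] {A : Subgroup G} {S : Set Ω} (h : Tr A S) (hS : S.Nonempty)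
    (hinv : ∀ a ∈ A, ∀ x ∈ S, a • x ∈ S) : S.ncard ∣ Nat.card A := by
  obtain ⟨x, hx⟩ := hS
  have h1 : MulAction.orbit A x = S := by
    ext y
    constructor
    · rintro ⟨a, rfl⟩
      exact hinv a a.2 x hx
    · intro hy
      obtain ⟨a, ha, h2⟩ := h x hx y hy
      exact ⟨⟨a, ha⟩, h2⟩
  rw [← h1, ← MulAction.index_stabilizer]
  exact Subgroup.index_dvd_card _

/-! ### Orbit patterns -/

/-- `A` has the two orbits `S` and `O \ S` -/
structure Pat (O : Set Ω) (A : Subgroup G) (S : Set Ω) : Prop where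
  sub : S ⊆ O
  ne : S.Nonempty
  ne' : (O \ S).Nonempty
  tr : Tr A S
  tr' : Tr A (O \ S)

/-- a group containing two groups with different patterns is transitive -/
theorem trans_of_pat {O S T : Set Ω} (hO : O.Finite) (hinv : ∀ (g : G), ∀ x ∈ O, g • x ∈ O) {A B K : Subgroup G} {g : G}
    (hA : Pat O A S) (hB : Pat O B T) (hAK : A ≤ K) (hBK : ∀ x ∈ B, g * x * g⁻¹ ∈ K) (h1 : S.ncard ≠ T.ncard)
    (h2 : S.ncard + T.ncard ≠ O.ncard) : Tr K O := by
  by_contra hK
  -- `K` preserves `S`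
  have hno : ∀ k ∈ K, ∀ x ∈ O, (x ∈ S ↔ k • x ∈ S) := by
    have key : ∀ k ∈ K, ∀ x ∈ S, k • x ∈ S := by
      intro k hk x hx
      by_contra hkx
      apply hK
      have hkO : k • x ∈ O \ S := ⟨hinv k x (hA.sub hx), hkx⟩
      have h3 : ∀ y ∈ O, ∃ a ∈ K, a • x = y := by
        intro y hy
        by_cases hyS : y ∈ S
        · obtain ⟨a, ha, h4⟩ := hA.tr x hx y hyS
          exact ⟨a, hAK ha, h4⟩
        · obtain ⟨a, ha, h4⟩ := hA.tr' _ hkO y ⟨hy, hyS⟩
          exact ⟨a * k, K.mul_mem (hAK ha) hk, by rw [mul_smul, h4]⟩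
      intro y hy z hz
      obtain ⟨a, ha, h4⟩ := h3 y hy
      obtain ⟨b, hb, h5⟩ := h3 z hz
      exact ⟨b * a⁻¹, K.mul_mem hb (K.inv_mem ha), by rw [mul_smul, ← h4, inv_smul_smul, h5]⟩
    intro k hk x _
    refine ⟨key k hk x, fun h3 => ?_⟩
    have h4 := key k⁻¹ (K.inv_mem hk) _ h3
    rwa [inv_smul_smul] at h4
  -- the conjugate pattern
  have hT : ∀ x ∈ O, ∀ y ∈ O, (g⁻¹ • x ∈ T ↔ g⁻¹ • y ∈ T) → (x ∈ S ↔ y ∈ S) := by
    intro x hx y hy hxy
    have h3 : ∃ b ∈ B, b • (g⁻¹ • x) = g⁻¹ • y := by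
      by_cases hxT : g⁻¹ • x ∈ T
      · exact hB.tr _ hxT _ (hxy.1 hxT)
      · exact hB.tr' _ ⟨hinv _ _ hx, hxT⟩ _ ⟨hinv _ _ hy, fun h => hxT (hxy.2 h)⟩
    obtain ⟨b, hb, h4⟩ := h3
    have h5 : (g * b * g⁻¹) • x = y := by
      rw [mul_smul, mul_smul, h4, smul_inv_smul]
    rw [← h5]
    exact hno _ (hBK b hb) x hx
  set T' : Set Ω := {x | g⁻¹ • x ∈ T} with hT'
  have hT'c : T'.ncard = T.ncard := by
    have h3 : T' = (fun x => g • x) '' T := by
      ext x
      constructor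
      · intro hx
        exact ⟨g⁻¹ • x, hx, smul_inv_smul g x⟩
      · rintro ⟨y, hy, rfl⟩
        show g⁻¹ • g • y ∈ T
        rwa [inv_smul_smul]
    rw [h3, Set.ncard_image_of_injective _ (MulAction.injective g)]
  have hT'O : T' ⊆ O := by
    intro x hx
    have h3 := hinv g _ (hB.sub hx)
    rwa [smul_inv_smul] at h3
  obtain ⟨t, ht⟩ := hB.ne
  have ht' : g • t ∈ T' := by
    show g⁻¹ • g • t ∈ T
    rwa [inv_smul_smul]
  obtain ⟨s, hs⟩ := hA.ne
  obtain ⟨s', hs', hs'S⟩ := hA.ne'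
  by_cases htS : g • t ∈ S
  · -- then `T' = S`
    have h3 : T' = S := by
      ext x
      constructor
      · intro hx
        exact (hT x (hT'O hx) _ (hT'O ht') ⟨fun _ => ht', fun _ => hx⟩).2 htS
      · intro hx
        by_contra hxT
        have h4 : s' ∉ T' := fun h5 => hs'S ((hT s' hs' _ (hT'O ht') ⟨fun _ => ht', fun _ => h5⟩).2 htS)
        exact hs'S ((hT s' hs' x (hA.sub hx) ⟨fun h5 => absurd h5 h4, fun h5 => absurd h5 hxT⟩).2 hx)
    exact h1 (by rw [← h3, hT'c])
  · -- then `T' = O \ S`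
    have h3 : T' = O \ S := by
      ext x
      constructor
      · intro hx
        exact ⟨hT'O hx, fun hxS => htS ((hT _ (hT'O ht') x (hT'O hx) ⟨fun _ => hx, fun _ => ht'⟩).2 hxS)⟩
      · rintro ⟨hx, hxS⟩
        by_contra hxT
        have h4 : s ∉ T' := fun h5 => htS ((hT _ (hT'O ht') s (hA.sub hs) ⟨fun _ => h5, fun _ => ht'⟩).2 hs)
        exact hxS ((hT x hx s (hA.sub hs) ⟨fun h5 => absurd h5 hxT, fun h5 => absurd h5 h4⟩).2 hs)
    apply h2
    have h4 := Set.ncard_sdiff_add_ncard_of_subset hA.sub hO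
    rw [← h3, hT'c] at h4
    omega

/-! ### Orders -/

/-- a subgroup of index smaller than a prime dividing the order of a simple group -/
theorem eq_top_of_lt [Finite G] [IsSimpleGroup G] {p : ℕ} (hp : p.Prime) (hpG : p ∣ Nat.card G) {K : Subgroup G}
    (h : Nat.card G < p * Nat.card K) : K = ⊤ := by
  by_contra hK
  have h1 := card_dvd_factorial hK
  have h2 := (hp.dvd_factorial).1 (hpG.trans h1)
  have h3 := Subgroup.card_mul_index K
  have h4 : p * Nat.card K ≤ Nat.card K * K.index := by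
    rw [mul_comm p]
    exact Nat.mul_le_mul_left _ h2
  omega

theorem dvd_of_conj [Finite G] {B K : Subgroup G} {g : G} (h : ∀ x ∈ B, g * x * g⁻¹ ∈ K) :
    Nat.card B ∣ Nat.card K := by
  rw [← card_map_conj g B]
  exact Subgroup.card_dvd_of_le (map_conj_le h)

/-- apart by orders -/
theorem apart_of_lcm [Finite G] [IsSimpleGroup G] {p n a b : ℕ} (hp : p.Prime) (hn : Nat.card G = n) (hpn : p ∣ n)
    {A B : Subgroup G} (ha : a ∣ Nat.card A) (hb : b ∣ Nat.card B) (h : n < p * Nat.lcm a b) : Apart A B := by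
  intro g K h1 h2
  apply eq_top_of_lt hp (hn ▸ hpn)
  rw [hn]
  refine lt_of_lt_of_le h (Nat.mul_le_mul_left _ (Nat.le_of_dvd Nat.card_pos ?_))
  exact Nat.lcm_dvd (ha.trans (Subgroup.card_dvd_of_le h1)) (hb.trans (dvd_of_conj h2))

/-- apart by patterns and orders -/
theorem apart_of_pat [Finite G] [IsSimpleGroup G] {p n a b o s t : ℕ} (hp : p.Prime) (hn : Nat.card G = n)
    (hpn : p ∣ n) {O S T : Set Ω} (hO : O.Finite) (hinv : ∀ (g : G), ∀ x ∈ O, g • x ∈ O) {A B : Subgroup G}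
    (hA : Pat O A S) (hB : Pat O B T) (ho : O.ncard = o) (hs : S.ncard = s) (ht : T.ncard = t) (hst : s ≠ t)
    (hst' : s + t ≠ o) (ha : a ∣ Nat.card A) (hb : b ∣ Nat.card B) (h : n < p * Nat.lcm o (Nat.lcm a b)) :
    Apart A B := by
  intro g K h1 h2
  apply eq_top_of_lt hp (hn ▸ hpn)
  rw [hn]
  refine lt_of_lt_of_le h (Nat.mul_le_mul_left _ (Nat.le_of_dvd Nat.card_pos ?_))
  refine Nat.lcm_dvd ?_ (Nat.lcm_dvd (ha.trans (Subgroup.card_dvd_of_le h1)) (hb.trans (dvd_of_conj h2)))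
  rw [← ho]
  refine (trans_of_pat hO hinv hA hB h1 h2 (by rw [hs, ht]; exact hst) (by rw [hs, ht, ho]; exact hst')).card_dvd
    ⟨_, hA.sub hA.ne.some_mem⟩ fun a _ x hx => hinv a x hx

/-- the size of a set given by a list -/
theorem ncard_list {emb : ℕ → Ω} {L : List ℕ} (hL : L.Nodup) (hinj : ∀ i ∈ L, ∀ j ∈ L, emb i = emb j → i = j) :
    {x | ∃ m ∈ L, emb m = x}.ncard = L.length := by
  classical
  have h1 : {x | ∃ m ∈ L, emb m = x} = ((L.toFinset.image emb : Finset Ω) : Set Ω) := by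
    ext x
    simp
  rw [h1, Set.ncard_coe_finset, Finset.card_image_of_injOn, List.toFinset_card_of_nodup hL]
  intro i hi j hj hij
  exact hinj i (by simpa using hi) j (by simpa using hj) hij

/-- the orbit lengths divide the order -/
theorem Pat.dvd [Finite G] {O S : Set Ω} {A : Subgroup G} (h : Pat O A S) (hinv : ∀ (g : G), ∀ x ∈ O, g • x ∈ O)
    (hS : ∀ a ∈ A, ∀ x ∈ S, a • x ∈ S) : S.ncard ∣ Nat.card A ∧ (O \ S).ncard ∣ Nat.card A := by
  refine ⟨h.tr.card_dvd h.ne hS, h.tr'.card_dvd h.ne' fun a ha x hx => ⟨hinv a x hx.1, fun h1 => hx.2 ?_⟩⟩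
  have h2 := hS a⁻¹ (A.inv_mem ha) _ h1
  rwa [inv_smul_smul] at h2

end Cfsg.Agent.H865.Sep
end

-- part: H865/Sep/Model
section
/-!
# Packed permutations in `M11` and `M12`, checks of orbits
-/

set_option autoImplicit false

open scoped Pointwise

namespace Cfsg.Agent.H865.Sep

open Subgroup Cfsg Cfsg.Agent.H940.MaxCls
open Cfsg.Agent.SporadicA.GolayBase Cfsg.Agent.SporadicA.GolayPerm
open Cfsg.Agent.SporadicStructure.M24El

/-- a Boolean test of membership in `G` -/
structure Mod (G : Subgroup (Equiv.Perm GolayPt)) (okG : ℕ → Bool) : Prop where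
  ok : ∀ {P : ℕ}, okG P = true → ok P = true
  mem : ∀ {P : ℕ}, okG P = true → ((el P : M24) : Equiv.Perm GolayPt) ∈ G

variable {G : Subgroup (Equiv.Perm GolayPt)} {okG : ℕ → Bool} (M : Mod G okG)

/-- the element -/
noncomputable def E {P : ℕ} (h : okG P = true) : G := ⟨_, M.mem h⟩

theorem E_fin {P : ℕ} (h : okG P = true) (m : ℕ) : E M h • fin m = fin (pimg P m) :=
  el_smul_fin (M.ok h) m

theorem E_pt {P : ℕ} (h : okG P = true) {i : ℕ} (hi : i < 24) : E M h • pt i = pt (papp P i) := by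
  have h1 := el_smul_pt (M.ok h) (pt i)
  rw [idx_pt hi] at h1
  exact h1

theorem E_rel {P Q R S : ℕ} (hP : okG P = true) (hQ : okG Q = true) (hR : okG R = true) (hS : okG S = true)
    (h : Nat.beq (pcomp P Q) (pcomp R S) = true) : E M hP * E M hQ = E M hR * E M hS := by
  have h1 : el P * el Q = el R * el S := by
    rw [← el_pcomp (M.ok hP) (M.ok hQ), ← el_pcomp (M.ok hR) (M.ok hS), Nat.eq_of_beq_eq_true h]
  exact Subtype.ext (congrArg (fun x : M24 => (x : Equiv.Perm GolayPt)) h1)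

theorem E_mul {P Q R : ℕ} (hP : okG P = true) (hQ : okG Q = true) (hR : okG R = true)
    (h : Nat.beq (pcomp P Q) R = true) : E M hP * E M hQ = E M hR := by
  have h1 : el P * el Q = el R := by
    rw [← el_pcomp (M.ok hP) (M.ok hQ), Nat.eq_of_beq_eq_true h]
  exact Subtype.ext (congrArg (fun x : M24 => (x : Equiv.Perm GolayPt)) h1)

/-- the power of a packed permutation -/
def ppow (P : ℕ) : ℕ → ℕ
  | 0 => idP
  | n + 1 => pcomp (ppow P n) P

theorem E_pow_aux {P : ℕ} (hP : ok P = true) (n : ℕ) : ok (ppow P n) = true ∧ el (ppow P n) = el P ^ n := by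
  induction n with
  | zero => exact ⟨ok_idP, by rw [pow_zero]; exact el_idP⟩
  | succ n ih =>
    refine ⟨ok_pcomp ih.1 hP, ?_⟩
    show el (pcomp (ppow P n) P) = _
    rw [el_pcomp ih.1 hP, ih.2, pow_succ]

theorem E_pow {P n : ℕ} (h : okG P = true) (h1 : Nat.beq (ppow P n) idP = true) : E M h ^ n = 1 := by
  have h2 : el P ^ n = 1 := by
    rw [← (E_pow_aux (M.ok h) n).2, Nat.eq_of_beq_eq_true h1, el_idP]
  exact Subtype.ext (congrArg (fun x : M24 => (x : Equiv.Perm GolayPt)) h2)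

theorem E_pow' {P Q n : ℕ} (h : okG P = true) (hQ : okG Q = true) (h1 : Nat.beq (ppow P n) Q = true) :
    E M h ^ n = E M hQ := by
  have h2 : el P ^ n = el Q := by
    rw [← (E_pow_aux (M.ok h) n).2, Nat.eq_of_beq_eq_true h1]
  exact Subtype.ext (congrArg (fun x : M24 => (x : Equiv.Perm GolayPt)) h2)

theorem E_ne {P : ℕ} (h : okG P = true) (i : ℕ) (hi : i < 24) (h1 : Nat.beq (papp P i) i = false)
    (h2 : papp P i < 24) : E M h ≠ 1 := by
  intro h3
  have h4 := E_pt M h hi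
  rw [h3, one_smul] at h4
  have h5 := congrArg idx h4
  rw [idx_pt hi, idx_pt h2] at h5
  rw [← h5, Nat.beq_refl] at h1
  exact absurd h1 (by decide)

/-- the set of the points of a list -/
def PS (L : List ℕ) : Set GolayPt := {x | idx x ∈ L}

theorem PS_eq {L : List ℕ} (h : L.all (fun i => Nat.blt i 24) = true) : PS L = {x | ∃ m ∈ L, pt m = x} := by
  rw [List.all_eq_true] at h
  ext x
  constructor
  · intro hx
    exact ⟨idx x, hx, pt_idx x⟩
  · rintro ⟨m, hm, rfl⟩
    show idx (pt m) ∈ L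
    rw [idx_pt (Nat.blt_eq.mp (h m hm))]
    exact hm

theorem ncard_PS {L : List ℕ} (h : L.all (fun i => Nat.blt i 24) = true) (hn : L.Nodup) : (PS L).ncard = L.length := by
  rw [PS_eq h]
  rw [List.all_eq_true] at h
  apply ncard_list hn
  intro i hi j hj hij
  have h1 := congrArg idx hij
  rwa [idx_pt (Nat.blt_eq.mp (h i hi)), idx_pt (Nat.blt_eq.mp (h j hj))] at h1

/-- the check of transitivity on points -/
def chkT (okG : ℕ → Bool) (T : ℕ) (gens L : List ℕ) (tr : List (ℕ × ℕ)) : Bool :=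
  (gens.all fun P => okG P && Nat.beq (pimg P T) T) && (L.all fun i => Nat.blt i 24) && treeB papp gens L tr

include M in
theorem tr_of_chk {T : ℕ} {gens L : List ℕ} {tr : List (ℕ × ℕ)} (h : chkT okG T gens L tr = true) :
    Tr (MulAction.stabilizer G (fin T)) (PS L) := by
  unfold chkT at h
  rw [Bool.and_eq_true, Bool.and_eq_true, List.all_eq_true] at h
  obtain ⟨⟨h1, h2⟩, h3⟩ := h
  rw [PS_eq h2]
  refine tr_of_tree (act := papp) (fun P hP => ?_) h3
  have h4 := h1 P hP
  rw [Bool.and_eq_true] at h4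
  refine ⟨E M h4.1, ?_, fun m hm => E_pt M h4.1 (Nat.blt_eq.mp (List.all_eq_true.1 h2 m hm))⟩
  rw [MulAction.mem_stabilizer_iff, E_fin, Nat.eq_of_beq_eq_true h4.2]

/-- the check of transitivity on sets -/
def chkM (okG : ℕ → Bool) (T : ℕ) (gens L : List ℕ) (tr : List (ℕ × ℕ)) : Bool :=
  (gens.all fun P => okG P && Nat.beq (pimg P T) T) && treeB pimg gens L tr

include M in
theorem tr_of_chkM {T : ℕ} {gens L : List ℕ} {tr : List (ℕ × ℕ)} (h : chkM okG T gens L tr = true) :
    Tr (MulAction.stabilizer G (fin T)) {x | ∃ m ∈ L, fin m = x} := by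
  unfold chkM at h
  rw [Bool.and_eq_true, List.all_eq_true] at h
  obtain ⟨h1, h3⟩ := h
  refine tr_of_tree (act := pimg) (fun P hP => ?_) h3
  have h4 := h1 P hP
  rw [Bool.and_eq_true] at h4
  refine ⟨E M h4.1, ?_, fun m _ => E_fin M h4.1 m⟩
  rw [MulAction.mem_stabilizer_iff, E_fin, Nat.eq_of_beq_eq_true h4.2]

/-- data of a pattern -/
structure Dat where
  T : ℕ
  gens : List ℕ
  LS : List ℕ
  LC : List ℕ
  tS : List (ℕ × ℕ)
  tC : List (ℕ × ℕ)

/-- the check of a pattern -/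
def chkP (okG : ℕ → Bool) (LO : List ℕ) (d : Dat) : Bool :=
  chkT okG d.T d.gens d.LS d.tS && chkT okG d.T d.gens d.LC d.tC && (List.range 24).all fun i =>
    (Bool.xor (LO.elem i) (d.LS.elem i || d.LC.elem i) == false) && !(d.LS.elem i && d.LC.elem i) &&
      (Bool.xor (d.LS.elem i) (d.T.testBit i) == false)

theorem mem_PS {L : List ℕ} {x : GolayPt} : x ∈ PS L ↔ L.elem (idx x) = true := by
  rw [List.elem_iff]
  rfl

include M in
theorem pat_of_chk {LO : List ℕ} {d : Dat} (h : chkP okG LO d = true) (h1 : d.LS ≠ []) (h2 : d.LC ≠ []) :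
    Pat (PS LO) (MulAction.stabilizer G (fin d.T)) (PS d.LS) ∧ PS LO \ PS d.LS = PS d.LC ∧
      (∀ a ∈ MulAction.stabilizer G (fin d.T), ∀ x ∈ PS d.LS, a • x ∈ PS d.LS) := by
  unfold chkP at h
  rw [Bool.and_eq_true, Bool.and_eq_true, List.all_eq_true] at h
  obtain ⟨⟨h3, h4⟩, h5⟩ := h
  have h6 : ∀ x : GolayPt, LO.elem (idx x) = (d.LS.elem (idx x) || d.LC.elem (idx x)) ∧
      ¬ (d.LS.elem (idx x) = true ∧ d.LC.elem (idx x) = true) ∧ d.LS.elem (idx x) = d.T.testBit (idx x) := by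
    intro x
    have h7 := h5 (idx x) (List.mem_range.2 (idx_lt x))
    rw [Bool.and_eq_true, Bool.and_eq_true] at h7
    obtain ⟨⟨h8, h9⟩, h10⟩ := h7
    refine ⟨?_, ?_, ?_⟩
    · revert h8
      cases LO.elem (idx x) <;> cases (d.LS.elem (idx x) || d.LC.elem (idx x)) <;> decide
    · rw [Bool.not_eq_true', Bool.and_eq_false_iff] at h9
      rintro ⟨h11, h12⟩
      rw [h11, h12] at h9
      simp at h9
    · revert h10
      cases d.LS.elem (idx x) <;> cases d.T.testBit (idx x) <;> decide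
  have h7 : PS LO \ PS d.LS = PS d.LC := by
    ext x
    obtain ⟨e1, e2, -⟩ := h6 x
    rw [Set.mem_sdiff, mem_PS, mem_PS, mem_PS, e1]
    revert e2
    cases d.LS.elem (idx x) <;> cases d.LC.elem (idx x) <;> simp
  have hsub : PS d.LS ⊆ PS LO := by
    intro x hx
    rw [mem_PS] at hx ⊢
    rw [(h6 x).1, hx]
    rfl
  have hne : ∀ {T : ℕ} {gens L : List ℕ} {tr : List (ℕ × ℕ)}, chkT okG T gens L tr = true → L ≠ [] →
      (PS L).Nonempty := by
    intro T gens L tr h hL
    unfold chkT at h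
    rw [Bool.and_eq_true, Bool.and_eq_true] at h
    obtain ⟨m, hm⟩ := List.exists_mem_of_ne_nil L hL
    rw [PS_eq h.1.2]
    exact ⟨pt m, m, hm, rfl⟩
  refine ⟨⟨hsub, hne h3 h1, ?_, tr_of_chk M h3, ?_⟩, h7, ?_⟩
  · rw [h7]
    exact hne h4 h2
  · rw [h7]
    exact tr_of_chk M h4
  · intro a ha x hx
    have e : ∀ y : GolayPt, y ∈ PS d.LS ↔ y ∈ fin d.T := by
      intro y
      rw [mem_PS, (h6 y).2.2, mem_fin]
    rw [e] at hx ⊢
    rw [MulAction.mem_stabilizer_iff] at ha
    rw [← ha]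
    exact Finset.smul_mem_smul_finset hx

end Cfsg.Agent.H865.Sep
end

-- part: H865/Sep/Sub
section
/-!
# Tools for the rows `M11`, `M12` of S5906/S5907: dihedral subgroups, suborbits and maximality
-/

set_option autoImplicit false

open scoped Pointwise

namespace Cfsg.Agent.H865.Sep

open Subgroup Cfsg.Agent.H940.MaxCls

/-! ### The dihedral group of order 8 -/

section dih

variable {G : Type*} [Group G]

/-- the group generated by `u` and an involution inverting it -/
def dih (u v : G) (hn : v * u = u⁻¹ * v) (hv : v * v = 1) : Subgroup G where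
  carrier := {x | x ∈ zpowers u ∨ x * v ∈ zpowers u}
  one_mem' := Or.inl (one_mem _)
  mul_mem' := by
    have hv' : v⁻¹ = v := inv_eq_of_mul_eq_one_left hv
    have hc : ∀ x ∈ zpowers u, v * x * v ∈ zpowers u := by
      rintro _ ⟨k, rfl⟩
      have h1 : v * u * v⁻¹ = u⁻¹ := by rw [hn]; group
      have h2 : v * u ^ k * v⁻¹ = (u⁻¹) ^ k := by rw [← h1, conj_zpow]
      rw [hv'] at h2
      show v * u ^ k * v ∈ _
      rw [h2]
      exact zpow_mem (inv_mem (mem_zpowers u)) k
    rintro a b (ha | ha) (hb | hb)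
    · exact Or.inl (mul_mem ha hb)
    · exact Or.inr (by rw [mul_assoc]; exact mul_mem ha hb)
    · refine Or.inr ?_
      have : a * b * v = a * v * (v * b * v) := by
        calc a * b * v = a * (v * v) * b * v := by rw [hv, mul_one]
          _ = _ := by group
      rw [this]
      exact mul_mem ha (hc b hb)
    · refine Or.inl ?_
      have : a * b = a * v * (v * (b * v) * v) := by
        calc a * b = a * (v * v) * b * (v * v) := by rw [hv, mul_one, mul_one]
          _ = _ := by group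
      rw [this]
      exact mul_mem ha (hc _ hb)
  inv_mem' := by
    have hv' : v⁻¹ = v := inv_eq_of_mul_eq_one_left hv
    have hc : ∀ x ∈ zpowers u, v * x * v ∈ zpowers u := by
      rintro _ ⟨k, rfl⟩
      have h1 : v * u * v⁻¹ = u⁻¹ := by rw [hn]; group
      have h2 : v * u ^ k * v⁻¹ = (u⁻¹) ^ k := by rw [← h1, conj_zpow]
      rw [hv'] at h2
      show v * u ^ k * v ∈ _
      rw [h2]
      exact zpow_mem (inv_mem (mem_zpowers u)) k
    rintro a (ha | ha)
    · exact Or.inl (inv_mem ha)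
    · refine Or.inr ?_
      have h1 := hc _ (inv_mem ha)
      have h2 : v * (a * v)⁻¹ * v = a⁻¹ * v := by
        rw [mul_inv_rev, hv']
        calc v * (v * a⁻¹) * v = (v * v) * a⁻¹ * v := by group
          _ = _ := by rw [hv, one_mul]
      rwa [h2] at h1

theorem eight_dvd [Finite G] {A : Subgroup G} {u v : G} (hu : u ∈ A) (hv : v ∈ A) (h4 : orderOf u = 4)
    (hn : v * u = u⁻¹ * v) (hv2 : v * v = 1) (hvu : v ∉ zpowers u) : 8 ∣ Nat.card A := by
  have hK : zpowers u ≤ dih u v hn hv2 := fun x hx => Or.inl hx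
  have hD : dih u v hn hv2 ≤ A := by
    have h1 : zpowers u ≤ A := zpowers_le.2 hu
    rintro x (hx | hx)
    · exact h1 hx
    · have := A.mul_mem (h1 hx) hv
      rwa [mul_assoc, hv2, mul_one] at this
  have hi : (zpowers u).relIndex (dih u v hn hv2) = 2 := by
    unfold Subgroup.relIndex
    rw [Subgroup.index_eq_two_iff]
    have hvD : v ∈ dih u v hn hv2 := Or.inr (by rw [hv2]; exact one_mem _)
    refine ⟨⟨v, hvD⟩, ?_⟩
    rintro ⟨b, hb⟩
    simp only [mem_subgroupOf, Subgroup.coe_mul]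
    rcases hb with hb | hb
    · refine Or.inr ⟨hb, fun h => hvu ?_⟩
      have := (zpowers u).mul_mem ((zpowers u).inv_mem hb) h
      rwa [inv_mul_cancel_left] at this
    · refine Or.inl ⟨hb, fun h => hvu ?_⟩
      have := (zpowers u).mul_mem ((zpowers u).inv_mem h) hb
      rwa [inv_mul_cancel_left] at this
  have h1 := Subgroup.relIndex_mul_relIndex ⊥ (zpowers u) (dih u v hn hv2) bot_le hK
  rw [relIndex_bot_left, relIndex_bot_left, hi, Nat.card_zpowers, h4] at h1
  have h2 := Subgroup.card_dvd_of_le hD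
  rwa [← h1] at h2

end dih

/-! ### Suborbits and maximality -/

/-- the partial sums -/
def sums : List ℕ → List ℕ
  | [] => [0]
  | a :: l => sums l ++ (sums l).map (a + ·)

theorem mem_sums {α : Type*} {c f : α → ℕ} : ∀ {Ls : List α}, (∀ L ∈ Ls, c L = 0 ∨ c L = f L) →
    (Ls.map c).sum ∈ sums (Ls.map f)
  | [], _ => by simp [sums]
  | L :: Ls, h => by
    have ih := mem_sums (Ls := Ls) fun L hL => h L (List.mem_cons_of_mem _ hL)
    rw [List.map_cons, List.map_cons, List.sum_cons, sums, List.mem_append, List.mem_map]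
    rcases h L List.mem_cons_self with h1 | h1
    · left
      rw [h1, zero_add]
      exact ih
    · right
      exact ⟨_, ih, by rw [h1]⟩

/-- the check of the suborbit lengths: no proper partial sum divides the number of points -/
def chkS (n : ℕ) (l : List ℕ) : Bool :=
  (sums l).all fun s => Nat.beq s 0 || Nat.beq (s + 1) n || !(Nat.beq (n % (s + 1)) 0)

section coatom

variable {G Ω : Type*} [Group G] [MulAction G Ω]

theorem index_of_tr [Finite G] {S : Set Ω} (hinv : ∀ (g : G), ∀ x ∈ S, g • x ∈ S) (h : Tr (⊤ : Subgroup G) S) {x : Ω}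
    (hx : x ∈ S) : (MulAction.stabilizer G x).index = S.ncard := by
  have h1 : MulAction.orbit G x = S := by
    ext y
    constructor
    · rintro ⟨a, rfl⟩
      exact hinv a x hx
    · intro hy
      obtain ⟨a, -, h2⟩ := h x hx y hy
      exact ⟨a, h2⟩
  rw [MulAction.index_stabilizer, h1]

theorem ncard_orbit_le {x : Ω} {K : Subgroup G} : (MulAction.orbit K x).ncard =
    (MulAction.stabilizer G x).relIndex K := by
  rw [← MulAction.index_stabilizer]
  rfl

theorem coatom_of_suborbits [Finite G] {S : Set Ω} (hinv : ∀ (g : G), ∀ x ∈ S, g • x ∈ S)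
    (htr : Tr (⊤ : Subgroup G) S) {emb : ℕ → Ω} {m0 : ℕ} {Ls : List (List ℕ)}
    (hS : S = {y | ∃ m ∈ m0 :: Ls.flatten, emb m = y}) (hnd : (m0 :: Ls.flatten).Nodup)
    (hinj : ∀ i ∈ m0 :: Ls.flatten, ∀ j ∈ m0 :: Ls.flatten, emb i = emb j → i = j)
    (hTr : ∀ L ∈ Ls, Tr (MulAction.stabilizer G (emb m0)) {y | ∃ m ∈ L, emb m = y})
    (hsum : chkS (1 + (Ls.map List.length).sum) (Ls.map List.length) = true)
    (hone : (Ls.map List.length).sum ≠ 0) : IsCoatom (MulAction.stabilizer G (emb m0)) := by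
  classical
  have hx : emb m0 ∈ S := by
    rw [hS]
    exact ⟨m0, List.mem_cons_self, rfl⟩
  have hcard : S.ncard = 1 + (Ls.map List.length).sum := by
    rw [hS, ncard_list hnd hinj, List.length_cons, List.length_flatten, add_comm]
  have hidx := index_of_tr hinv htr hx
  refine ⟨fun h => ?_, fun K hK => ?_⟩
  · rw [h, index_top, hcard] at hidx
    omega
  · obtain ⟨Q, hQ⟩ : ∃ Q, Q = MulAction.orbit K (emb m0) := ⟨_, rfl⟩
    have hQS : Q ⊆ S := by
      rw [hQ]
      rintro _ ⟨k, rfl⟩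
      exact hinv k _ hx
    have hxQ : emb m0 ∈ Q := by
      rw [hQ]
      exact MulAction.mem_orbit_self _
    -- each suborbit is inside or outside
    have hin : ∀ L ∈ Ls, (L.filter fun m => decide (emb m ∈ Q)).length = 0 ∨
        (L.filter fun m => decide (emb m ∈ Q)).length = L.length := by
      intro L hL
      by_cases h : ∃ m ∈ L, emb m ∈ Q
      · right
        obtain ⟨m, hm, hmQ⟩ := h
        rw [List.filter_eq_self.2]
        intro n hn
        rw [decide_eq_true_eq]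
        obtain ⟨a, ha, h1⟩ := hTr L hL _ ⟨m, hm, rfl⟩ _ ⟨n, hn, rfl⟩
        rw [hQ] at hmQ ⊢
        obtain ⟨k, hk⟩ := hmQ
        refine ⟨⟨a, hK.le ha⟩ * k, ?_⟩
        show (((⟨a, hK.le ha⟩ : K) * k : K) : G) • emb m0 = _
        rw [Subgroup.coe_mul, mul_smul, ← h1]
        show a • ((k : G) • emb m0) = a • emb m
        rw [← hk]
        rfl
      · left
        rw [List.length_eq_zero_iff, List.filter_eq_nil_iff]
        intro m hm h1
        exact h ⟨m, hm, of_decide_eq_true h1⟩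
    have hQc : Q.ncard = 1 + (Ls.map fun L => (L.filter fun m => decide (emb m ∈ Q)).length).sum := by
      have h1 : Q = {y | ∃ m ∈ (m0 :: Ls.flatten).filter fun m => decide (emb m ∈ Q), emb m = y} := by
        ext y
        constructor
        · intro hy
          have h2 := hQS hy
          rw [hS] at h2
          obtain ⟨m, hm, rfl⟩ := h2
          exact ⟨m, List.mem_filter.2 ⟨hm, by rw [decide_eq_true_eq]; exact hy⟩, rfl⟩
        · rintro ⟨m, hm, rfl⟩
          exact of_decide_eq_true (List.mem_filter.1 hm).2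
      have h3 : ((m0 :: Ls.flatten).filter fun m => decide (emb m ∈ Q)).length =
          1 + (Ls.map fun L => (L.filter fun m => decide (emb m ∈ Q)).length).sum := by
        rw [List.filter_cons_of_pos (by rw [decide_eq_true_eq]; exact hxQ), List.length_cons, List.filter_flatten,
          List.length_flatten, List.map_map, add_comm]
        rfl
      rw [← h3]
      conv_lhs => rw [h1]
      exact ncard_list (hnd.filter _) fun i hi j hj => hinj i (List.mem_filter.1 hi).1 j (List.mem_filter.1 hj).1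
    have hmem := mem_sums (f := List.length) hin
    unfold chkS at hsum
    rw [List.all_eq_true] at hsum
    have h4 := hsum _ hmem
    have h5 := Subgroup.relIndex_mul_index hK.le
    rw [← ncard_orbit_le, ← hQ, hQc, hidx, hcard] at h5
    rw [Bool.or_eq_true, Bool.or_eq_true] at h4
    rcases h4 with (h4 | h4) | h4
    · exfalso
      have h6 := Nat.eq_of_beq_eq_true h4
      rw [h6, add_zero] at hQc
      rw [hQ, ncard_orbit_le] at hQc
      exact hK.not_ge (Subgroup.relIndex_eq_one.1 hQc)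
    · have h6 := Nat.eq_of_beq_eq_true h4
      rw [add_comm, h6] at h5
      rw [← index_eq_one]
      exact Nat.eq_of_mul_eq_mul_left (by omega) (h5.trans (mul_one _).symm)
    · exfalso
      rw [Bool.not_eq_true'] at h4
      have h6 : (1 + (Ls.map List.length).sum) % ((Ls.map fun L =>
        (L.filter fun m => decide (emb m ∈ Q)).length).sum + 1) = 0 := by
        rw [← h5, add_comm 1, Nat.mul_mod_right]
      rw [h6, Nat.beq_refl] at h4
      exact absurd h4 (by decide)

end coatom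

end Cfsg.Agent.H865.Sep
end

private theorem dce_d3fedd489e4a : _root_.True := by
  try have : _root_.True := by simp only [_root_.Cfsg.Agent.H865.Sep.sums.eq_def]
  try have : _root_.True := by simp only [_root_.Cfsg.Agent.H865.Sep.sums.eq_2]
  try have : _root_.True := by simp only [_root_.Cfsg.Agent.H865.Sep.sums.eq_1]
  exact _root_.True.intro
end

-- part: H896/L3Glue_mg
section
prune_inst 0x20000000200000000000000060001c6292000000000800000000004004810c0000000020b20000020000000400380020000000000000000000000000000000800000000080080000000000000000000000000000000000000000000000000000000000000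
set_option linter.all false
open scoped Cfsg.Agent.FastGrp

-- part: H896/L3Base
section
/-!
# `PSL₃(q)` for S5906, S5907 (task 625, helper896): tools

`sub X` : the subgroup of `SL₃` cut out by the subgroup `X` of `GL₃`; `Free E X` : no `SL₃`-conjugate of `E` is in `X`.
-/

set_option autoImplicit false
set_option linter.unusedSectionVars false

namespace Cfsg.Agent.H896.L3

open Matrix Cfsg Cfsg.Geo
open Matrix.SpecialLinearGroup (toGL)

variable {F : Type*} [Field F]

abbrev SL3 (F : Type*) [Field F] : Type _ := Matrix.SpecialLinearGroup (Fin 3) F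

/-- the subgroup of `SL₃` cut out by a subgroup of `GL₃` -/
def sub (X : Subgroup (GL (Fin 3) F)) : Subgroup (SL3 F) := X.comap toGL

theorem mem_sub {X : Subgroup (GL (Fin 3) F)} {x : SL3 F} : x ∈ sub X ↔ toGL x ∈ X := Iff.rfl

theorem toGL_inj : Function.Injective (toGL : SL3 F → GL (Fin 3) F) := by
  intro x y h
  apply Subtype.ext
  exact congrArg (fun g : GL (Fin 3) F => (g : Matrix (Fin 3) (Fin 3) F)) h

theorem toGL_mem (x : SL3 F) : toGL x ∈ specialLinear (Fin 3) F := by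
  rw [← Cfsg.Agent.H905.range_toGL]
  exact ⟨x, rfl⟩

theorem exists_toGL {g : GL (Fin 3) F} (h : g ∈ specialLinear (Fin 3) F) : ∃ x : SL3 F, toGL x = g := by
  rw [← Cfsg.Agent.H905.range_toGL] at h
  exact h

theorem map_sub (X : Subgroup (GL (Fin 3) F)) : (sub X).map toGL = X ⊓ specialLinear (Fin 3) F := by
  ext g
  rw [Subgroup.mem_map, Subgroup.mem_inf]
  constructor
  · rintro ⟨x, hx, rfl⟩
    exact ⟨hx, toGL_mem x⟩
  · rintro ⟨h1, h2⟩
    obtain ⟨x, rfl⟩ := exists_toGL h2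
    exact ⟨x, h1, rfl⟩

theorem eq_sub {K : Subgroup (SL3 F)} {X : Subgroup (GL (Fin 3) F)}
    (h : K.map toGL = X ⊓ specialLinear (Fin 3) F) : K = sub X := by
  rw [← map_sub] at h
  exact Subgroup.map_injective toGL_inj h

theorem coatom_of_max {X : Subgroup (GL (Fin 3) F)}
    (h : IsMaximalIn (specialLinear (Fin 3) F) (X ⊓ specialLinear (Fin 3) F)) : IsCoatom (sub X) := by
  constructor
  · intro hX
    apply h.1.ne
    rw [← map_sub, hX]
    ext g
    rw [Subgroup.mem_map]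
    constructor
    · rintro ⟨x, -, rfl⟩
      exact toGL_mem x
    · intro hg
      obtain ⟨x, rfl⟩ := exists_toGL hg
      exact ⟨x, Subgroup.mem_top _, rfl⟩
  · intro K hK
    have h1 : X ⊓ specialLinear (Fin 3) F ≤ K.map toGL := by
      rw [← map_sub]
      exact Subgroup.map_mono hK.le
    have h2 : K.map toGL ≤ specialLinear (Fin 3) F := by
      rintro _ ⟨x, -, rfl⟩
      exact toGL_mem x
    rcases h.2 _ h1 h2 with h3 | h3
    · exact absurd (eq_sub h3) hK.ne'
    · refine top_le_iff.1 fun x _ => ?_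
      have h4 := toGL_mem x
      rw [← h3, Subgroup.mem_map] at h4
      obtain ⟨y, hy, hxy⟩ := h4
      rwa [← toGL_inj hxy]

theorem max_of_coatom {K : Subgroup (SL3 F)} (hK : IsCoatom K) :
    IsMaximalIn (specialLinear (Fin 3) F) (K.map toGL) := by
  have h2 : K.map toGL ≤ specialLinear (Fin 3) F := by
    rintro _ ⟨x, -, rfl⟩
    exact toGL_mem x
  refine ⟨lt_of_le_of_ne h2 fun h => hK.1 ?_, fun M hM hM' => ?_⟩
  · refine top_le_iff.1 fun x _ => ?_
    have h4 := toGL_mem x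
    rw [← h, Subgroup.mem_map] at h4
    obtain ⟨y, hy, hxy⟩ := h4
    rwa [← toGL_inj hxy]
  · have h3 : M = (sub M).map toGL := by
      rw [map_sub, inf_eq_left.2 hM']
    have h4 : K ≤ sub M := fun x hx => hM (Subgroup.mem_map_of_mem _ hx)
    rcases eq_or_lt_of_le h4 with h5 | h5
    · left
      rw [h3, ← h5]
    · right
      rw [h3, hK.2 _ h5]
      ext g
      rw [Subgroup.mem_map]
      constructor
      · rintro ⟨x, -, rfl⟩
        exact toGL_mem x
      · intro hg
        obtain ⟨x, rfl⟩ := exists_toGL hg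
        exact ⟨x, Subgroup.mem_top _, rfl⟩

/-! ### `Free` -/

/-- no conjugate of `E` is in `X` -/
def Free (E : Subgroup (SL3 F)) (X : Subgroup (GL (Fin 3) F)) : Prop :=
  ∀ g : SL3 F, ∃ x ∈ E, toGL (g * x * g⁻¹) ∉ X

theorem Free.ne {E : Subgroup (SL3 F)} {X : Subgroup (GL (Fin 3) F)} (h : Free E X) (g : SL3 F) :
    Subgroup.map (MulAut.conj g).toMonoidHom (sub X) ≠ E := by
  intro he
  obtain ⟨x, hx, hx'⟩ := h g⁻¹
  rw [← he, Cfsg.Agent.H940.MaxCls.mem_map_conj] at hx
  apply hx'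
  rw [inv_inv]
  exact hx

theorem Free.ne' {E : Subgroup (SL3 F)} {X : Subgroup (GL (Fin 3) F)} (h : Free E X) (g : SL3 F) :
    Subgroup.map (MulAut.conj g).toMonoidHom E ≠ sub X := by
  intro he
  obtain ⟨x, hx, hx'⟩ := h g
  apply hx'
  rw [← mem_sub, ← he, Cfsg.Agent.H940.MaxCls.mem_map_conj]
  have : g⁻¹ * (g * x * g⁻¹) * g = x := by group
  rwa [this]

/-! ### subspaces -/

/-- `W` is stable under `E` -/
def Stable (E : Subgroup (SL3 F)) (W : Submodule F (Fin 3 → F)) : Prop :=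
  ∀ x ∈ E, ∀ w ∈ W, (x : Matrix (Fin 3) (Fin 3) F) *ᵥ w ∈ W

theorem free_stab {E : Subgroup (SL3 F)} {W : Submodule F (Fin 3 → F)}
    (h : ∀ W' : Submodule F (Fin 3 → F), Stable E W' → Module.finrank F W' ≠ Module.finrank F W) :
    Free E (subspaceStabilizer W) := by
  intro g
  by_contra hcon
  push Not at hcon
  let e : (Fin 3 → F) ≃ₗ[F] (Fin 3 → F) := Matrix.SpecialLinearGroup.toLin' g⁻¹
  have he : ∀ w, e w = ((g⁻¹ : SL3 F) : Matrix (Fin 3) (Fin 3) F) *ᵥ w := fun w => rfl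
  refine h (W.map (e : (Fin 3 → F) →ₗ[F] (Fin 3 → F))) ?_ (LinearEquiv.finrank_map_eq e W)
  rintro x hx _ ⟨w, hw, rfl⟩
  have h1 := (Cfsg.Agent.H905.mulVec_mem_iff_of_mem_subspaceStabilizer (hcon x hx) w).1 hw
  refine ⟨_, h1, ?_⟩
  show e _ = _ *ᵥ (e w)
  rw [he, he, Matrix.mulVec_mulVec, Matrix.mulVec_mulVec]
  congr 1
  have h2 : g⁻¹ * (g * x * g⁻¹) = x * g⁻¹ := by group
  show ((g⁻¹ * (g * x * g⁻¹) : SL3 F) : Matrix (Fin 3) (Fin 3) F) = _
  rw [h2]
  rfl

theorem mem_stab {W : Submodule F (Fin 3 → F)} {x : SL3 F}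
    (h : ∀ w ∈ W, (x : Matrix (Fin 3) (Fin 3) F) *ᵥ w ∈ W) : x ∈ sub (subspaceStabilizer W) := by
  let e : (Fin 3 → F) ≃ₗ[F] (Fin 3 → F) := Matrix.SpecialLinearGroup.toLin' x
  have he : ∀ w, e w = (x : Matrix (Fin 3) (Fin 3) F) *ᵥ w := fun w => rfl
  have hmap : W.map (e : (Fin 3 → F) →ₗ[F] (Fin 3 → F)) = W := by
    apply Submodule.eq_of_le_of_finrank_eq
    · rintro _ ⟨w, hw, rfl⟩
      exact h w hw
    · exact LinearEquiv.finrank_map_eq e W
  show ∀ v, v ∈ W ↔ (x : Matrix (Fin 3) (Fin 3) F) *ᵥ v ∈ W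
  intro v
  refine ⟨h v, fun hv => ?_⟩
  rw [← hmap] at hv
  obtain ⟨w, hw, hwv⟩ := hv
  have : w = v := e.injective hwv
  rwa [← this]

/-! ### the normaliser of a cubic field -/

/-- `x ^ 3` is not one and has a fixed vector -/
def Bad (x : SL3 F) : Prop :=
  (∃ v : Fin 3 → F, v ≠ 0 ∧ ((x ^ 3 : SL3 F) : Matrix (Fin 3) (Fin 3) F) *ᵥ v = v) ∧ x ^ 3 ≠ 1

theorem Bad.conj {x : SL3 F} (h : Bad x) (g : SL3 F) : Bad (g * x * g⁻¹) := by
  obtain ⟨⟨v, hv, hx⟩, h1⟩ := h
  have h2 : (g * x * g⁻¹) ^ 3 = g * x ^ 3 * g⁻¹ := conj_pow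
  have hg : ((g⁻¹ : SL3 F) : Matrix (Fin 3) (Fin 3) F) * (g : Matrix (Fin 3) (Fin 3) F) = 1 := by
    rw [← Matrix.SpecialLinearGroup.coe_mul, inv_mul_cancel]
    rfl
  refine ⟨⟨(g : Matrix (Fin 3) (Fin 3) F) *ᵥ v, fun h => hv ?_, ?_⟩, fun h => h1 ?_⟩
  · have := congrArg (fun w => ((g⁻¹ : SL3 F) : Matrix (Fin 3) (Fin 3) F) *ᵥ w) h
    simpa only [Matrix.mulVec_mulVec, hg, Matrix.one_mulVec, Matrix.mulVec_zero] using this
  · rw [h2, Matrix.SpecialLinearGroup.coe_mul, Matrix.SpecialLinearGroup.coe_mul, Matrix.mulVec_mulVec,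
      Matrix.mul_assoc, Matrix.mul_assoc, hg, Matrix.mul_one, ← Matrix.mulVec_mulVec, hx]
  · rw [h2] at h
    have h3 : x ^ 3 = g⁻¹ * (g * x ^ 3 * g⁻¹) * g := by group
    rw [h3, h]
    group

theorem isField_of {K : Subalgebra F (Matrix (Fin 3) (Fin 3) F)} (hK : IsFieldSubalgebra 3 K) : IsField K where
  exists_pair_ne := ⟨0, 1, fun h => zero_ne_one (congrArg Subtype.val h)⟩
  mul_comm := fun a b => Subtype.ext (hK.comm a a.2 b b.2)
  mul_inv_cancel := by
    intro a ha
    obtain ⟨b, hb, hab⟩ := hK.inv a a.2 (fun h => ha (Subtype.ext h))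
    exact ⟨⟨b, hb⟩, Subtype.ext hab⟩

/-- the cube of an element of the normaliser of a cubic field centralises the field -/
theorem cube_comm [Finite F] {K : Subalgebra F (Matrix (Fin 3) (Fin 3) F)} (hK : IsFieldSubalgebra 3 K)
    {g : GL (Fin 3) F} (hg : g ∈ subalgebraNormalizer K) {k : Matrix (Fin 3) (Fin 3) F} (hk : k ∈ K) :
    ((g ^ 3 : GL (Fin 3) F) : Matrix (Fin 3) (Fin 3) F) * k = k * ((g ^ 3 : GL (Fin 3) F) : Matrix (Fin 3) (Fin 3) F) := by
  let _ : Field K := (isField_of hK).toField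
  have hgi : ((g⁻¹ : GL (Fin 3) F) : Matrix (Fin 3) (Fin 3) F) * (g : Matrix (Fin 3) (Fin 3) F) = 1 := by
    rw [← Units.val_mul, inv_mul_cancel, Units.val_one]
  have hgi' : (g : Matrix (Fin 3) (Fin 3) F) * ((g⁻¹ : GL (Fin 3) F) : Matrix (Fin 3) (Fin 3) F) = 1 := by
    rw [← Units.val_mul, mul_inv_cancel, Units.val_one]
  let f : K →ₐ[F] K :=
    { toFun := fun a => ⟨(g : Matrix (Fin 3) (Fin 3) F) * a * ((g⁻¹ : GL (Fin 3) F) : Matrix (Fin 3) (Fin 3) F),
        (hg a).1 a.2⟩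
      map_one' := by
        apply Subtype.ext
        show (g : Matrix (Fin 3) (Fin 3) F) * 1 * ((g⁻¹ : GL (Fin 3) F) : Matrix (Fin 3) (Fin 3) F) = 1
        rw [mul_one, hgi']
      map_mul' := by
        intro a b
        apply Subtype.ext
        show (g : Matrix (Fin 3) (Fin 3) F) * (a * b) * ((g⁻¹ : GL (Fin 3) F) : Matrix (Fin 3) (Fin 3) F) =
          ((g : Matrix (Fin 3) (Fin 3) F) * a * ((g⁻¹ : GL (Fin 3) F) : Matrix (Fin 3) (Fin 3) F)) *
          ((g : Matrix (Fin 3) (Fin 3) F) * b * ((g⁻¹ : GL (Fin 3) F) : Matrix (Fin 3) (Fin 3) F))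
        calc _ = (g : Matrix (Fin 3) (Fin 3) F) * a * 1 * b * ((g⁻¹ : GL (Fin 3) F) : Matrix (Fin 3) (Fin 3) F) := by
              rw [mul_one]
              simp only [mul_assoc]
          _ = _ := by
              rw [← hgi]
              simp only [mul_assoc]
      map_zero' := by
        apply Subtype.ext
        show (g : Matrix (Fin 3) (Fin 3) F) * 0 * ((g⁻¹ : GL (Fin 3) F) : Matrix (Fin 3) (Fin 3) F) = 0
        rw [mul_zero, zero_mul]
      map_add' := by
        intro a b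
        apply Subtype.ext
        show (g : Matrix (Fin 3) (Fin 3) F) * (a + b) * ((g⁻¹ : GL (Fin 3) F) : Matrix (Fin 3) (Fin 3) F) = _ + _
        rw [mul_add, add_mul]
      commutes' := by
        intro c
        apply Subtype.ext
        show (g : Matrix (Fin 3) (Fin 3) F) * algebraMap F _ c * ((g⁻¹ : GL (Fin 3) F) : Matrix (Fin 3) (Fin 3) F) =
          algebraMap F _ c
        rw [← Algebra.commutes, mul_assoc, hgi', mul_one] }
  have hf : ∀ a : K, ((f a : K) : Matrix (Fin 3) (Fin 3) F) =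
    (g : Matrix (Fin 3) (Fin 3) F) * a * ((g⁻¹ : GL (Fin 3) F) : Matrix (Fin 3) (Fin 3) F) := fun a => rfl
  have : FiniteDimensional F K := Module.finite_of_finrank_pos (by rw [hK.finrank_eq]; norm_num)
  have : Finite K := Module.finite_of_finite F
  have hfb : Function.Bijective f := by
    rw [← Finite.injective_iff_bijective]
    exact (f.toRingHom.injective :)
  let τ : K ≃ₐ[F] K := AlgEquiv.ofBijective f hfb
  have hcard : Nat.card (K ≃ₐ[F] K) = 3 := by
    rw [IsGalois.card_aut_eq_finrank]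
    exact hK.finrank_eq
  have h3 : τ ^ Nat.card (K ≃ₐ[F] K) = 1 := pow_card_eq_one'
  rw [hcard] at h3
  have h4 : f (f (f ⟨k, hk⟩)) = ⟨k, hk⟩ := by
    have h5 := DFunLike.congr_fun h3 (⟨k, hk⟩ : K)
    exact h5
  have h5 := congrArg Subtype.val h4
  simp only [hf] at h5
  calc ((g ^ 3 : GL (Fin 3) F) : Matrix (Fin 3) (Fin 3) F) * k
      = (g : Matrix (Fin 3) (Fin 3) F) * ((g : Matrix (Fin 3) (Fin 3) F) * ((g : Matrix (Fin 3) (Fin 3) F) * k *
        ((g⁻¹ : GL (Fin 3) F) : Matrix (Fin 3) (Fin 3) F)) * ((g⁻¹ : GL (Fin 3) F) : Matrix (Fin 3) (Fin 3) F)) *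
        ((g⁻¹ : GL (Fin 3) F) : Matrix (Fin 3) (Fin 3) F) * ((g ^ 3 : GL (Fin 3) F) : Matrix (Fin 3) (Fin 3) F) := by
        have e1 : ((g ^ 3 : GL (Fin 3) F) : Matrix (Fin 3) (Fin 3) F) = (g : Matrix (Fin 3) (Fin 3) F) *
          (g : Matrix (Fin 3) (Fin 3) F) * (g : Matrix (Fin 3) (Fin 3) F) := by
          rw [← Units.val_mul, ← Units.val_mul, pow_succ, pow_two]
        rw [e1]
        have e2 : ∀ a : Matrix (Fin 3) (Fin 3) F, ((g⁻¹ : GL (Fin 3) F) : Matrix (Fin 3) (Fin 3) F) *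
          ((g : Matrix (Fin 3) (Fin 3) F) * a) = a := by
          intro a
          rw [← mul_assoc, hgi, one_mul]
        simp only [mul_assoc, e2, hgi, mul_one]
    _ = _ := by rw [h5]

theorem free_norm [Finite F] {K : Subalgebra F (Matrix (Fin 3) (Fin 3) F)} (hK : IsFieldSubalgebra 3 K)
    {E : Subgroup (SL3 F)} {x : SL3 F} (hx : x ∈ E) (hb : Bad x) : Free E (subalgebraNormalizer K) := by
  intro g
  refine ⟨x, hx, fun hmem => ?_⟩
  obtain ⟨⟨v, hv, hfix⟩, hne⟩ := hb.conj g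
  set y : SL3 F := g * x * g⁻¹
  have hy3 : ((toGL y ^ 3 : GL (Fin 3) F) : Matrix (Fin 3) (Fin 3) F) = ((y ^ 3 : SL3 F) : Matrix (Fin 3) (Fin 3) F) := by
    rw [← map_pow]
    rfl
  -- `y³ ∈ K`
  have hne' : ∃ a ∈ K, ¬ ∃ c : F, a = c • (1 : Matrix (Fin 3) (Fin 3) F) := by
    by_contra hcon
    push Not at hcon
    have hle : K ≤ ⊥ := by
      intro a ha
      obtain ⟨c, rfl⟩ := hcon a ha
      exact Subalgebra.smul_mem _ (Subalgebra.one_mem _) c
    have h1 : Module.finrank F K = 1 := by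
      rw [le_bot_iff.1 hle]
      exact Subalgebra.finrank_bot
    rw [hK.finrank_eq] at h1
    omega
  have hmemK : ((y ^ 3 : SL3 F) : Matrix (Fin 3) (Fin 3) F) ∈ K := by
    apply Cfsg.Agent.H907.mem_of_commute Nat.prime_three (Fintype.card_fin 3) K (fun a ha b hb => hK.comm a ha b hb) _ hne'
    · intro a ha
      rw [← hy3]
      exact cube_comm hK hmem ha
    · intro a ha h0
      obtain ⟨b, hb, hab⟩ := hK.inv a ha h0
      exact IsUnit.of_mul_eq_one b hab
  -- `y³ - 1` is not invertible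
  apply hne
  apply Subtype.ext
  by_contra hcon
  obtain ⟨b, -, hb⟩ := hK.inv (((y ^ 3 : SL3 F) : Matrix (Fin 3) (Fin 3) F) - 1) (K.sub_mem hmemK K.one_mem)
    (fun h => hcon (sub_eq_zero.1 h))
  have hb' := _root_.mul_eq_one_comm.1 hb
  apply hv
  rw [← Matrix.one_mulVec v, ← hb', ← Matrix.mulVec_mulVec, Matrix.sub_mulVec, hfix, Matrix.one_mulVec, sub_self,
    Matrix.mulVec_zero]

end Cfsg.Agent.H896.L3
end

-- part: H896/L3Dec
section
/-!
# `PSL₃(q)` for S5906, S5907 (task 625, helper896): frames, explicit elements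
-/

set_option autoImplicit false
set_option linter.unusedSectionVars false

namespace Cfsg.Agent.H896.L3

open Matrix Cfsg Cfsg.Geo
open Matrix.SpecialLinearGroup (toGL)

variable {F : Type*} [Field F]

/-! ### unipotent elements and frames -/

/-- `(x - 1) ^ 3 = 0` -/
def Unip (x : SL3 F) : Prop := ((x : Matrix (Fin 3) (Fin 3) F) - 1) ^ 3 = 0

theorem conj_pow_three {P P' n : Matrix (Fin 3) (Fin 3) F} (h : P' * P = 1) : (P * n * P') ^ 3 = P * n ^ 3 * P' := by
  have h2 : ∀ a : Matrix (Fin 3) (Fin 3) F, P' * (P * a) = a := fun a => by rw [← mul_assoc, h, one_mul]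
  rw [pow_succ, pow_two, pow_succ n, pow_two n]
  simp only [mul_assoc, h2]

theorem Unip.conj {x : SL3 F} (h : Unip x) (g : SL3 F) : Unip (g * x * g⁻¹) := by
  have hg : (g : Matrix (Fin 3) (Fin 3) F) * ((g⁻¹ : SL3 F) : Matrix (Fin 3) (Fin 3) F) = 1 := by
    rw [← Matrix.SpecialLinearGroup.coe_mul, mul_inv_cancel]
    rfl
  have hg' : ((g⁻¹ : SL3 F) : Matrix (Fin 3) (Fin 3) F) * (g : Matrix (Fin 3) (Fin 3) F) = 1 := by
    rw [← Matrix.SpecialLinearGroup.coe_mul, inv_mul_cancel]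
    rfl
  have h1 : ((g * x * g⁻¹ : SL3 F) : Matrix (Fin 3) (Fin 3) F) - 1 =
      (g : Matrix (Fin 3) (Fin 3) F) * ((x : Matrix (Fin 3) (Fin 3) F) - 1) *
        ((g⁻¹ : SL3 F) : Matrix (Fin 3) (Fin 3) F) := by
    rw [Matrix.SpecialLinearGroup.coe_mul, Matrix.SpecialLinearGroup.coe_mul, mul_sub, sub_mul, mul_one, hg]
  unfold Unip at h ⊢
  rw [h1, conj_pow_three hg', h, mul_zero, zero_mul]

theorem Unip.pow {x : SL3 F} (h : Unip x) (n : ℕ) : Unip (x ^ n) := by
  unfold Unip at h ⊢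
  rw [Matrix.SpecialLinearGroup.coe_pow]
  rw [← mul_geom_sum]
  have hc : Commute ((x : Matrix (Fin 3) (Fin 3) F) - 1) (∑ i ∈ Finset.range n, (x : Matrix (Fin 3) (Fin 3) F) ^ i) := by
    apply Commute.sum_right
    intro i _
    exact ((Commute.refl _).sub_left (Commute.one_left _)).pow_right i
  rw [hc.mul_pow, h, zero_mul]

/-- a unipotent element fixing the three lines of a frame is trivial -/
theorem eq_one_of_fix {D : Fin 3 → Submodule F (Fin 3 → F)} (hD : IsMDecomposition 1 D) {x : SL3 F}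
    (hx : ∀ i, ∀ w ∈ D i, (x : Matrix (Fin 3) (Fin 3) F) *ᵥ w ∈ D i) (hu : Unip x) : x = 1 := by
  have h1 : ∀ i, D i ≤ LinearMap.ker (Matrix.toLin' ((x : Matrix (Fin 3) (Fin 3) F) - 1)) := by
    intro i w hw
    rw [LinearMap.mem_ker, Matrix.toLin'_apply]
    by_cases hw0 : w = 0
    · rw [hw0, Matrix.mulVec_zero]
    obtain ⟨c, hc⟩ := (finrank_eq_one_iff_of_nonzero' (⟨w, hw⟩ : D i) (fun h => hw0 (congrArg Subtype.val h))).1
      (hD.finrank_eq i) ⟨_, hx i w hw⟩
    have hc' : (x : Matrix (Fin 3) (Fin 3) F) *ᵥ w = c • w := (congrArg Subtype.val hc).symm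
    have h2 : ((x : Matrix (Fin 3) (Fin 3) F) - 1) *ᵥ w = (c - 1) • w := by
      rw [Matrix.sub_mulVec, hc', Matrix.one_mulVec, sub_smul, one_smul]
    have h3 : (((x : Matrix (Fin 3) (Fin 3) F) - 1) ^ 3) *ᵥ w = (c - 1) ^ 3 • w := by
      rw [pow_succ, pow_two, ← Matrix.mulVec_mulVec, ← Matrix.mulVec_mulVec, h2, Matrix.mulVec_smul,
        Matrix.mulVec_smul, h2, Matrix.mulVec_smul, h2, smul_smul, smul_smul]
      congr 1
      ring
    rw [hu, Matrix.zero_mulVec] at h3
    have h4 : (c - 1) ^ 3 = 0 := (smul_eq_zero.1 h3.symm).resolve_right hw0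
    rw [h2, pow_eq_zero_iff (by norm_num) |>.1 h4, zero_smul]
  have h2 : (⊤ : Submodule F (Fin 3 → F)) ≤ LinearMap.ker (Matrix.toLin' ((x : Matrix (Fin 3) (Fin 3) F) - 1)) := by
    rw [← hD.iSup_eq_top]
    exact iSup_le h1
  apply Subtype.ext
  rw [← sub_eq_zero]
  apply (Matrix.toLin' (R := F)).injective
  rw [map_zero]
  exact LinearMap.ker_eq_top.1 (top_le_iff.1 h2)

theorem perm_pow_six (σ : Equiv.Perm (Fin 3)) : σ ^ 6 = 1 := by
  have h : σ ^ Fintype.card (Equiv.Perm (Fin 3)) = 1 := pow_card_eq_one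
  rwa [Fintype.card_perm, Fintype.card_fin] at h

/-- the sixth power of an element of the stabiliser of a frame fixes the lines -/
theorem six_fix {D : Fin 3 → Submodule F (Fin 3 → F)} {x : SL3 F} (hx : toGL x ∈ decompositionStabilizer D) (i : Fin 3) :
    ∀ w ∈ D i, ((x ^ 6 : SL3 F) : Matrix (Fin 3) (Fin 3) F) *ᵥ w ∈ D i := by
  obtain ⟨σ, hσ⟩ := hx
  have h1 : ∀ n : ℕ, ∀ w ∈ D i, ((x ^ n : SL3 F) : Matrix (Fin 3) (Fin 3) F) *ᵥ w ∈ D ((σ ^ n) i) := by
    intro n
    induction n with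
    | zero =>
      intro w hw
      rw [pow_zero, pow_zero]
      show (1 : Matrix (Fin 3) (Fin 3) F) *ᵥ w ∈ D i
      rwa [Matrix.one_mulVec]
    | succ n ih =>
      intro w hw
      rw [pow_succ', pow_succ', Matrix.SpecialLinearGroup.coe_mul, ← Matrix.mulVec_mulVec, Equiv.Perm.mul_apply,
        ← hσ]
      exact ⟨_, ih w hw, rfl⟩
  have h2 := h1 6
  rw [perm_pow_six σ] at h2
  exact h2

/-- two elements of the stabiliser of a frame with the same permutation -/
theorem fix_of_same {D : Fin 3 → Submodule F (Fin 3 → F)} {x y z : SL3 F} {σ : Equiv.Perm (Fin 3)}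
    (hx : ∀ i, (D i).map (Matrix.toLin' (x : Matrix (Fin 3) (Fin 3) F)) = D (σ i))
    (hy : ∀ i, (D i).map (Matrix.toLin' (y : Matrix (Fin 3) (Fin 3) F)) = D (σ i)) (hz : z * x = y) (i : Fin 3) :
    ∀ w ∈ D i, (z : Matrix (Fin 3) (Fin 3) F) *ᵥ w ∈ D i := by
  intro w hw
  have h1 := hx (σ.symm i)
  have h2 := hy (σ.symm i)
  rw [Equiv.apply_symm_apply] at h1 h2
  rw [← h1] at hw
  obtain ⟨v, hv, rfl⟩ := hw
  rw [← h2]
  refine ⟨v, hv, ?_⟩
  rw [Matrix.toLin'_apply, Matrix.toLin'_apply, Matrix.mulVec_mulVec, ← hz]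
  rfl

theorem free_dec_elt {D : Fin 3 → Submodule F (Fin 3 → F)} (hD : IsMDecomposition 1 D) {E : Subgroup (SL3 F)}
    {x : SL3 F} (hx : x ∈ E) (hu : Unip x) (h6 : x ^ 6 ≠ 1) : Free E (decompositionStabilizer D) := by
  intro g
  refine ⟨x, hx, fun hmem => ?_⟩
  have h1 := eq_one_of_fix hD (six_fix hmem) ((hu.conj g).pow 6)
  rw [conj_pow] at h1
  apply h6
  have h2 : x ^ 6 = g⁻¹ * (g * x ^ 6 * g⁻¹) * g := by group
  rw [h2, h1]
  group

theorem card_gt_six [Fintype F] (h5 : 5 ≤ Fintype.card F) (h6 : (6 : F) = 0) : 6 < Fintype.card F := by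
  obtain ⟨p, hp⟩ := CharP.exists F
  obtain ⟨n, hpp, hn⟩ := FiniteField.card F p
  have h1 : p ∣ 6 := (CharP.cast_eq_zero_iff F p 6).1 (by exact_mod_cast h6)
  have h2 : p ≤ 6 := Nat.le_of_dvd (by norm_num) h1
  have hn0 := n.pos
  rw [hn] at h5 ⊢
  have h3 : p = 2 ∨ p = 3 := by
    interval_cases p <;> (revert hpp h1; decide)
  generalize (n : ℕ) = k at h5 hn0 ⊢
  by_contra hcon
  rcases h3 with rfl | rfl
  · have : k < 3 := by
      by_contra hk
      have := Nat.pow_le_pow_right (n := 2) (by norm_num) (not_lt.1 hk)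
      omega
    interval_cases k <;> omega
  · have : k < 2 := by
      by_contra hk
      have := Nat.pow_le_pow_right (n := 3) (by norm_num) (not_lt.1 hk)
      omega
    interval_cases k <;> omega

theorem free_dec [Fintype F] (h5 : 5 ≤ Fintype.card F) {D : Fin 3 → Submodule F (Fin 3 → F)}
    (hD : IsMDecomposition 1 D) {E : Subgroup (SL3 F)} (u : F → SL3 F) (hadd : ∀ s t, u (s + t) = u s * u t)
    (hu : ∀ t, Unip (u t)) (h1 : ∀ t, u t = 1 → t = 0) (hE : ∀ t, u t ∈ E) : Free E (decompositionStabilizer D) := by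
  classical
  by_cases h6 : (6 : F) = 0
  · intro g
    by_contra hcon
    push Not at hcon
    have h2 : ∀ t, ∃ σ : Equiv.Perm (Fin 3), ∀ i,
        (D i).map (Matrix.toLin' ((g * u t * g⁻¹ : SL3 F) : Matrix (Fin 3) (Fin 3) F)) = D (σ i) :=
      fun t => hcon (u t) (hE t)
    choose σ hσ using h2
    obtain ⟨s, t, hst, hσst⟩ := Fintype.exists_ne_map_eq_of_card_lt σ (by
      rw [Fintype.card_perm, Fintype.card_fin]
      exact card_gt_six h5 h6)
    have h3 := hσ t
    rw [← hσst] at h3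
    have h4 : (g * u (t - s) * g⁻¹) * (g * u s * g⁻¹) = g * u t * g⁻¹ := by
      have : u t = u (t - s) * u s := by rw [← hadd, sub_add_cancel]
      rw [this]
      group
    have h5 := eq_one_of_fix hD (fix_of_same (hσ s) h3 h4) ((hu _).conj g)
    have h6 : u (t - s) = 1 := by
      have h7 : u (t - s) = g⁻¹ * (g * u (t - s) * g⁻¹) * g := by group
      rw [h7, h5]
      group
    exact hst (sub_eq_zero.1 (h1 _ h6)).symm
  · have hpow : ∀ n : ℕ, ∀ t, u (n * t) = u t ^ n := by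
      intro n t
      induction n with
      | zero =>
        rw [Nat.cast_zero, zero_mul, pow_zero]
        have := hadd 0 0
        rw [add_zero] at this
        exact left_eq_mul.1 this
      | succ n ih => rw [Nat.cast_succ, add_mul, one_mul, hadd, ih, pow_succ]
    refine free_dec_elt hD (hE 1) (hu 1) fun h => h6 ?_
    rw [← hpow] at h
    have := h1 _ h
    simpa using this

end Cfsg.Agent.H896.L3
end

-- part: H896/L3Elt
section
/-!
# `PSL₃(q)` for S5906, S5907 (task 625, helper896): explicit elements, `Sep 5` for `q ≥ 5`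
-/

set_option autoImplicit false
set_option linter.unusedSectionVars false

namespace Cfsg.Agent.H896.L3

open Matrix Cfsg Cfsg.Geo
open Matrix.SpecialLinearGroup (toGL)
open Cfsg.Agent.H940.MaxCls

variable {F : Type*} [Field F]

/-- the statement of S5774 for one field -/
def Hyp74 (F : Type*) [Field F] [Fintype F] : Prop :=
    (∀ W : Submodule F (Fin 3 → F), W ≠ ⊥ → W ≠ ⊤ → Cfsg.Geo.IsMaximalIn (Cfsg.Geo.specialLinear (Fin 3) F) (Cfsg.Geo.subspaceStabilizer W ⊓ Cfsg.Geo.specialLinear (Fin 3) F)) ∧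
    (5 ≤ Fintype.card F → ∀ D : Fin 3 → Submodule F (Fin 3 → F), Cfsg.Geo.IsMDecomposition 1 D → Cfsg.Geo.IsMaximalIn (Cfsg.Geo.specialLinear (Fin 3) F) (Cfsg.Geo.decompositionStabilizer D ⊓ Cfsg.Geo.specialLinear (Fin 3) F)) ∧
    (Fintype.card F ≠ 4 → ∀ K : Subalgebra F (Matrix (Fin 3) (Fin 3) F), Cfsg.Geo.IsFieldSubalgebra 3 K → Cfsg.Geo.IsMaximalIn (Cfsg.Geo.specialLinear (Fin 3) F) (Cfsg.Geo.subalgebraNormalizer K ⊓ Cfsg.Geo.specialLinear (Fin 3) F)) ∧
    (∀ (F₀ : Subfield F) (r : ℕ) (P : Matrix.GeneralLinearGroup (Fin 3) F), r.Prime → Fintype.card F = Nat.card F₀ ^ r → Cfsg.Geo.IsMaximalIn (Cfsg.Geo.specialLinear (Fin 3) F) (Cfsg.Geo.subfieldSubgroup F₀ P ⊓ Cfsg.Geo.specialLinear (Fin 3) F)) ∧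
    (∀ (p : ℕ) (R : Subgroup (Matrix.GeneralLinearGroup (Fin 3) F)), p.Prime → Fintype.card F = p → p % 3 = 1 → Cfsg.Geo.IsLinearSymplecticTypeData 3 R → Cfsg.Geo.IsMaximalIn (Cfsg.Geo.specialLinear (Fin 3) F) (Cfsg.Geo.subgroupNormalizer R ⊓ Cfsg.Geo.specialLinear (Fin 3) F)) ∧
    (Odd (Fintype.card F) → ∀ Q : (Fin 3 → F) → F, Cfsg.Geo.IsNondegenerateQuadraticForm Q → Cfsg.Geo.IsMaximalIn (Cfsg.Geo.specialLinear (Fin 3) F) (Cfsg.Geo.quadSimilarityGroup Q ⊓ Cfsg.Geo.specialLinear (Fin 3) F)) ∧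
    (∀ (σ : F ≃+* F) (f : (Fin 3 → F) → (Fin 3 → F) → F), Cfsg.Geo.IsUnitaryForm σ f → Cfsg.Geo.IsMaximalIn (Cfsg.Geo.specialLinear (Fin 3) F) (Cfsg.Geo.similarityGroup f ⊓ Cfsg.Geo.specialLinear (Fin 3) F))

/-! ### explicit elements -/

def hE (a : F) (ha : a ≠ 0) : SL3 F :=
  ⟨!![a, 0, 0; 0, 1, 0; 0, 0, a⁻¹], by simp [Matrix.det_fin_three, ha]⟩

def uE (t : F) : SL3 F :=
  ⟨!![1, 2 * t, t ^ 2; 0, 1, t; 0, 0, 1], by simp [Matrix.det_fin_three]⟩

def vE (t : F) : SL3 F :=
  ⟨!![1, 0, 0; t, 1, 0; t ^ 2, 2 * t, 1], by simp [Matrix.det_fin_three]⟩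

/-- the transvection group `1 + t E₀₁` -/
def xE (t : F) : SL3 F :=
  ⟨!![1, t, 0; 0, 1, 0; 0, 0, 1], by simp [Matrix.det_fin_three]⟩

theorem xE_add (s t : F) : xE (s + t) = xE s * xE t := by
  apply Subtype.ext
  rw [Matrix.SpecialLinearGroup.coe_mul]
  ext i j
  (revert i j; simp only [xE, Matrix.mul_apply, Fin.sum_univ_three, add_comm, _root_.Fin.forall_fin_succ, _root_.Matrix.of_apply, _root_.Matrix.cons_val', _root_.Matrix.cons_val_fin_one, Fin.isValue, _root_.Matrix.cons_val_zero, _root_.Matrix.cons_val_one, _root_.Matrix.cons_val, _root_.MulZeroClass.mul_zero, _root_.mul_one, _root_.zero_add, _root_.Matrix.cons_val_succ, _root_.add_zero, _root_.implies_true, _root_.and_true, _root_.true_and, _root_.one_mul, _root_.right_eq_add, _root_.mul_eq_zero, _root_.true_or, _root_.and_self])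

theorem uE_add (s t : F) : uE (s + t) = uE s * uE t := by
  apply Subtype.ext
  rw [Matrix.SpecialLinearGroup.coe_mul]
  ext i j
  (revert i j; simp only [uE, Matrix.mul_apply, Fin.sum_univ_three, _root_.Fin.forall_fin_succ, _root_.Matrix.of_apply, _root_.Matrix.cons_val', _root_.Matrix.cons_val_fin_one, Fin.isValue, _root_.Matrix.cons_val_zero, _root_.Matrix.cons_val_one, _root_.Matrix.cons_val, _root_.mul_one, _root_.MulZeroClass.mul_zero, _root_.add_zero, _root_.Matrix.cons_val_succ, _root_.forall_const, _root_.true_and, _root_.one_mul, _root_.right_eq_add, _root_.mul_eq_zero, _root_.true_or, _root_.MulZeroClass.zero_mul, _root_.zero_add, _root_.and_self, _root_.implies_true, _root_.and_true]) <;> (repeat' with_reducible apply And.intro) <;> ring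

theorem xE_unip (t : F) : Unip (xE t) := by
  unfold Unip
  have h : ((xE t : SL3 F) : Matrix (Fin 3) (Fin 3) F) - 1 = !![0, t, 0; 0, 0, 0; 0, 0, 0] := by
    ext i j
    (revert i j; simp only [xE, _root_.Fin.forall_fin_succ, _root_.Matrix.sub_apply, _root_.Matrix.of_apply, _root_.Matrix.cons_val', _root_.Matrix.cons_val_fin_one, Fin.isValue, _root_.Matrix.cons_val_zero, _root_.Matrix.cons_val_succ, _root_.IsEmpty.forall_iff, _root_.and_true, _root_.Matrix.one_apply_eq, _root_.sub_self, Nat.reduceAdd, _root_.Fin.succ_zero_eq_one, _root_.ne_eq, _root_.zero_ne_one, _root_.not_false_eq_true, _root_.Matrix.one_apply_ne, _root_.sub_zero, _root_.Fin.succ_one_eq_two, Fin.reduceEq, _root_.and_self, _root_.Fin.succ_ne_zero, _root_.true_and, _root_.zero_sub, _root_.neg_eq_zero])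
  rw [h, pow_succ, pow_two]
  ext i j
  (revert i j; simp only [Matrix.mul_apply, Fin.sum_univ_three, _root_.Fin.forall_fin_succ, _root_.Matrix.cons_mul, _root_.Nat.succ_eq_add_one, Nat.reduceAdd, _root_.Matrix.vecMul_cons, _root_.Matrix.head_cons, _root_.zero_smul, _root_.Matrix.tail_cons, _root_.Matrix.smul_cons, _root_.smul_eq_mul, _root_.MulZeroClass.mul_zero, _root_.Matrix.smul_empty, _root_.Matrix.empty_vecMul, _root_.add_zero, _root_.zero_add, _root_.Matrix.empty_mul, _root_.Equiv.symm_apply_apply, _root_.Matrix.of_apply, _root_.Matrix.cons_val', _root_.Pi.zero_apply, _root_.Matrix.cons_val_fin_one, Fin.isValue, _root_.Matrix.cons_val_zero, _root_.Matrix.cons_val_one, _root_.Matrix.cons_val, _root_.Matrix.zero_apply, _root_.Matrix.cons_val_succ, _root_.mul_eq_zero, _root_.implies_true, _root_.and_true, _root_.true_and, _root_.true_or, _root_.and_self])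

theorem uE_unip (t : F) : Unip (uE t) := by
  unfold Unip
  have h : ((uE t : SL3 F) : Matrix (Fin 3) (Fin 3) F) - 1 = !![0, 2 * t, t ^ 2; 0, 0, t; 0, 0, 0] := by
    ext i j
    (revert i j; simp only [uE, _root_.Fin.forall_fin_succ, _root_.Matrix.sub_apply, _root_.Matrix.of_apply, _root_.Matrix.cons_val', _root_.Matrix.cons_val_fin_one, Fin.isValue, _root_.Matrix.cons_val_zero, _root_.Matrix.cons_val_succ, _root_.IsEmpty.forall_iff, _root_.and_true, _root_.Matrix.one_apply_eq, _root_.sub_self, Nat.reduceAdd, _root_.Fin.succ_zero_eq_one, _root_.ne_eq, _root_.zero_ne_one, _root_.not_false_eq_true, _root_.Matrix.one_apply_ne, _root_.sub_zero, _root_.Fin.succ_one_eq_two, Fin.reduceEq, _root_.and_self, _root_.Fin.succ_ne_zero, _root_.true_and, _root_.zero_sub, _root_.neg_eq_zero])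
  rw [h, pow_succ, pow_two]
  ext i j
  (revert i j; simp only [Matrix.mul_apply, Fin.sum_univ_three, _root_.Fin.forall_fin_succ, _root_.Matrix.cons_mul, _root_.Nat.succ_eq_add_one, Nat.reduceAdd, _root_.Matrix.vecMul_cons, _root_.Matrix.head_cons, _root_.zero_smul, _root_.Matrix.tail_cons, _root_.Matrix.smul_cons, _root_.smul_eq_mul, _root_.MulZeroClass.mul_zero, _root_.Matrix.smul_empty, _root_.Matrix.empty_vecMul, _root_.add_zero, _root_.Matrix.add_cons, _root_.Matrix.empty_add_empty, _root_.zero_add, _root_.Matrix.empty_mul, _root_.Equiv.symm_apply_apply, _root_.Matrix.of_apply, _root_.Matrix.cons_val', _root_.Pi.zero_apply, _root_.Matrix.cons_val_fin_one, Fin.isValue, _root_.Matrix.cons_val_zero, _root_.Matrix.cons_val_one, _root_.Matrix.cons_val, _root_.Matrix.zero_apply, _root_.Matrix.cons_val_succ, _root_.mul_eq_zero, _root_.forall_const, _root_.true_and, _root_.true_or, _root_.MulZeroClass.zero_mul, _root_.and_self, _root_.implies_true])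

theorem xE_one (t : F) (h : xE t = 1) : t = 0 := by
  have := congrFun (congrFun (congrArg Subtype.val h) 0) 1
  simpa [xE] using this

theorem uE_one (t : F) (h : uE t = 1) : t = 0 := by
  have := congrFun (congrFun (congrArg Subtype.val h) 1) 2
  simpa [uE] using this

theorem hE_pow (a : F) (ha : a ≠ 0) : ((hE a ha ^ 3 : SL3 F) : Matrix (Fin 3) (Fin 3) F) =
    !![a ^ 3, 0, 0; 0, 1, 0; 0, 0, a⁻¹ ^ 3] := by
  rw [Matrix.SpecialLinearGroup.coe_pow, pow_succ, pow_two]
  ext i j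
  (revert i j; simp only [hE, Matrix.mul_apply, Fin.sum_univ_three, _root_.Fin.forall_fin_succ, _root_.Matrix.cons_mul, _root_.Nat.succ_eq_add_one, Nat.reduceAdd, _root_.Matrix.vecMul_cons, _root_.Matrix.head_cons, _root_.Matrix.smul_cons, _root_.smul_eq_mul, _root_.MulZeroClass.mul_zero, _root_.Matrix.smul_empty, _root_.Matrix.tail_cons, _root_.zero_smul, _root_.Matrix.empty_vecMul, _root_.add_zero, _root_.one_smul, _root_.zero_add, _root_.Matrix.empty_mul, _root_.Equiv.symm_apply_apply, _root_.Matrix.of_apply, _root_.Matrix.cons_val', _root_.Matrix.cons_val_fin_one, Fin.isValue, _root_.Matrix.cons_val_zero, _root_.Matrix.cons_val_one, _root_.Matrix.cons_val, _root_.inv_pow, _root_.Matrix.cons_val_succ, _root_.mul_one, _root_.forall_const, _root_.true_and, _root_.MulZeroClass.zero_mul, _root_.and_true, _root_.and_self]) <;> (repeat' with_reducible apply And.intro) <;> ring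

theorem hE_bad (a : F) (ha : a ≠ 0) (h3 : a ^ 3 ≠ 1) : Bad (hE a ha) := by
  refine ⟨⟨Pi.single 1 1, by simp, ?_⟩, fun h => h3 ?_⟩
  · rw [hE_pow]
    ext i
    (revert i; simp only [Matrix.mulVec, dotProduct, Fin.sum_univ_three, _root_.Fin.forall_fin_succ, _root_.inv_pow, _root_.Matrix.of_apply, _root_.Matrix.cons_val', _root_.Matrix.cons_val_fin_one, Fin.isValue, _root_.Matrix.cons_val_zero, _root_.ne_eq, _root_.zero_ne_one, _root_.not_false_eq_true, _root_.Pi.single_eq_of_ne, _root_.MulZeroClass.mul_zero, _root_.Matrix.cons_val_one, _root_.Pi.single_eq_same, _root_.mul_one, _root_.zero_add, _root_.Matrix.cons_val, Fin.reduceEq, _root_.add_zero, _root_.Matrix.cons_val_succ, _root_.Fin.succ_zero_eq_one, _root_.Fin.succ_one_eq_two, _root_.IsEmpty.forall_iff, _root_.and_self])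
  · have h1 := congrArg (fun x : SL3 F => (x : Matrix (Fin 3) (Fin 3) F) 0 0) h
    simp only [hE_pow] at h1
    simpa only [_root_.inv_pow, _root_.Fin.isValue, _root_.Matrix.of_apply, _root_.Matrix.cons_val', _root_.Matrix.cons_val_zero, _root_.Matrix.cons_val_fin_one, _root_.Matrix.SpecialLinearGroup.coe_one, _root_.Matrix.one_apply_eq] using h1

/-- an element of order different from three -/
theorem exists_cube_ne [Fintype F] (h5 : 5 ≤ Fintype.card F) : ∃ a : F, a ≠ 0 ∧ a ^ 3 ≠ 1 := by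
  classical
  obtain ⟨g, hg⟩ := IsCyclic.exists_generator (α := Fˣ)
  refine ⟨g, g.ne_zero, fun h => ?_⟩
  have h1 : g ^ 3 = 1 := Units.ext (by rw [Units.val_pow_eq_pow_val]; exact h)
  have h2 := orderOf_dvd_of_pow_eq_one h1
  rw [orderOf_eq_card_of_forall_mem_zpowers hg, Nat.card_eq_fintype_card, Fintype.card_units] at h2
  have := Nat.le_of_dvd (by norm_num) h2
  omega

theorem xE_bad (h3 : (3 : F) ≠ 0) : Bad (xE (1 : F)) := by
  have h : xE (1 : F) ^ 3 = xE 3 := by
    rw [pow_succ, pow_two, ← xE_add, ← xE_add]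
    congr 1
    norm_num
  refine ⟨⟨Pi.single 0 1, by simp, ?_⟩, fun h' => h3 (xE_one _ (by rw [← h]; exact h'))⟩
  rw [h]
  ext i
  (revert i; simp only [xE, Matrix.mulVec, dotProduct, Fin.sum_univ_three, _root_.Fin.forall_fin_succ, _root_.Matrix.of_apply, _root_.Matrix.cons_val', _root_.Matrix.cons_val_fin_one, Fin.isValue, _root_.Matrix.cons_val_zero, _root_.Pi.single_eq_same, _root_.mul_one, _root_.Matrix.cons_val_one, _root_.ne_eq, _root_.one_ne_zero, _root_.not_false_eq_true, _root_.Pi.single_eq_of_ne, _root_.MulZeroClass.mul_zero, _root_.add_zero, _root_.Matrix.cons_val, Fin.reduceEq, _root_.Matrix.cons_val_succ, _root_.Fin.succ_ne_zero, _root_.implies_true, _root_.and_self])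

/-! ### the parabolic subgroups -/

/-- `⟨e₀, e₁⟩` -/
def W2 (F : Type*) [Field F] : Submodule F (Fin 3 → F) := LinearMap.ker (LinearMap.proj 2)

/-- `⟨e₀⟩` -/
def W1 (F : Type*) [Field F] : Submodule F (Fin 3 → F) := LinearMap.ker (LinearMap.proj 1) ⊓ LinearMap.ker (LinearMap.proj 2)

theorem mem_W2 {v : Fin 3 → F} : v ∈ W2 F ↔ v 2 = 0 := Iff.rfl
theorem mem_W1 {v : Fin 3 → F} : v ∈ W1 F ↔ v 1 = 0 ∧ v 2 = 0 := Iff.rfl

theorem W1_ne_bot : W1 F ≠ ⊥ := by
  intro h
  have h1 : (Pi.single 0 1 : Fin 3 → F) ∈ W1 F := by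
    rw [mem_W1]
    constructor <;> simp
  rw [h, Submodule.mem_bot] at h1
  have := congrFun h1 0
  simp at this

theorem W1_lt_W2 : W1 F < W2 F := by
  refine lt_of_le_of_ne (fun v hv => hv.2) fun h => ?_
  have h1 : (Pi.single 1 1 : Fin 3 → F) ∈ W2 F := by
    rw [mem_W2]
    simp
  rw [← h, mem_W1] at h1
  simp at h1

theorem W2_ne_top : W2 F ≠ ⊤ := by
  intro h
  have h1 : (Pi.single 2 1 : Fin 3 → F) ∈ W2 F := by
    rw [h]
    exact Submodule.mem_top
  rw [mem_W2] at h1
  simp at h1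

theorem W1_ne_top : W1 F ≠ ⊤ := fun h => W2_ne_top (top_le_iff.1 (h ▸ W1_lt_W2.le))
theorem W2_ne_bot : W2 F ≠ ⊥ := fun h => W1_ne_bot (le_bot_iff.1 (h ▸ W1_lt_W2.le))

theorem hE_mem_W1 (a : F) (ha : a ≠ 0) : hE a ha ∈ sub (subspaceStabilizer (W1 F)) := by
  apply mem_stab
  intro w hw
  rw [mem_W1] at hw ⊢
  simp [hE, Matrix.mulVec, dotProduct, Fin.sum_univ_three, hw.1, hw.2]

theorem hE_mem_W2 (a : F) (ha : a ≠ 0) : hE a ha ∈ sub (subspaceStabilizer (W2 F)) := by
  apply mem_stab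
  intro w hw
  rw [mem_W2] at hw ⊢
  simp [hE, Matrix.mulVec, dotProduct, Fin.sum_univ_three, hw]

theorem xE_mem_W1 (t : F) : xE t ∈ sub (subspaceStabilizer (W1 F)) := by
  apply mem_stab
  intro w hw
  rw [mem_W1] at hw ⊢
  simp [xE, Matrix.mulVec, dotProduct, Fin.sum_univ_three, hw.1, hw.2]

theorem xE_mem_W2 (t : F) : xE t ∈ sub (subspaceStabilizer (W2 F)) := by
  apply mem_stab
  intro w hw
  rw [mem_W2] at hw ⊢
  simp [xE, Matrix.mulVec, dotProduct, Fin.sum_univ_three, hw]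

/-! ### transvections -/

theorem tv_mulVec {i j : Fin 3} (h : i ≠ j) (c : F) (w : Fin 3 → F) :
    ((Matrix.SpecialLinearGroup.transvection h c : SL3 F) : Matrix (Fin 3) (Fin 3) F) *ᵥ w = w + Pi.single i (c * w j) := by
  show (1 + Matrix.single i j c) *ᵥ w = _
  rw [Matrix.add_mulVec, Matrix.one_mulVec]
  congr 1
  ext k
  simp only [Matrix.mulVec, dotProduct, Matrix.single_apply, Pi.single_apply]
  (revert i j k; simp only [Fin.sum_univ_three, _root_.Fin.forall_fin_succ, _root_.ne_eq, _root_.ite_mul, _root_.MulZeroClass.zero_mul, Fin.isValue, _root_.Fin.succ_zero_eq_one, _root_.Fin.succ_one_eq_two, _root_.IsEmpty.forall_iff, _root_.and_true, _root_.zero_ne_one, _root_.and_false, ↓reduceIte, _root_.add_zero, Fin.reduceEq, _root_.Fin.succ_ne_zero, _root_.zero_add, _root_.not_true_eq_false, _root_.one_ne_zero, _root_.and_self, _root_.implies_true, _root_.not_false_eq_true, _root_.imp_self, _root_.right_eq_ite_iff, _root_.zero_eq_mul, _root_.forall_const])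

theorem tv_step {E : Subgroup (SL3 F)} {W : Submodule F (Fin 3 → F)} (hS : Stable E W) {i j : Fin 3} (h : i ≠ j)
    (hm : (Matrix.SpecialLinearGroup.transvection h 1 : SL3 F) ∈ E) {w : Fin 3 → F} (hw : w ∈ W) (hj : w j ≠ 0) :
    (Pi.single i 1 : Fin 3 → F) ∈ W := by
  have h1 := hS _ hm w hw
  rw [tv_mulVec, one_mul] at h1
  have h2 := W.smul_mem (w j)⁻¹ (W.sub_mem h1 hw)
  have h3 : (w j)⁻¹ • (w + Pi.single i (w j) - w) = Pi.single i 1 := by
    rw [add_sub_cancel_left, ← Pi.single_smul, smul_eq_mul, inv_mul_cancel₀ hj]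
  rwa [h3] at h2

theorem eq_top_of_single {W : Submodule F (Fin 3 → F)} (h : ∀ i, (Pi.single i 1 : Fin 3 → F) ∈ W) : W = ⊤ := by
  refine top_le_iff.1 fun v _ => ?_
  have : v = v 0 • Pi.single 0 1 + v 1 • Pi.single 1 1 + v 2 • Pi.single 2 1 := by
    ext i
    (revert i; simp only [_root_.Fin.forall_fin_succ, Fin.isValue, _root_.Pi.add_apply, _root_.Pi.smul_apply, _root_.smul_eq_mul, _root_.Pi.single_eq_same, _root_.mul_one, _root_.ne_eq, _root_.zero_ne_one, _root_.not_false_eq_true, _root_.Pi.single_eq_of_ne, _root_.MulZeroClass.mul_zero, _root_.add_zero, Fin.reduceEq, _root_.Fin.succ_ne_zero, _root_.zero_add, _root_.Fin.succ_zero_eq_one, _root_.Fin.succ_one_eq_two, _root_.IsEmpty.forall_iff, _root_.and_self])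
  rw [this]
  exact W.add_mem (W.add_mem (W.smul_mem _ (h 0)) (W.smul_mem _ (h 1))) (W.smul_mem _ (h 2))

/-- a group with all elementary matrices `1 + E_ij` is irreducible -/
theorem irr_of_tv {E : Subgroup (SL3 F)}
    (hE : ∀ (i j : Fin 3) (h : i ≠ j), (Matrix.SpecialLinearGroup.transvection h 1 : SL3 F) ∈ E)
    {W : Submodule F (Fin 3 → F)} (hS : Stable E W) : W = ⊥ ∨ W = ⊤ := by
  by_cases hW : W = ⊥
  · exact Or.inl hW
  right
  obtain ⟨w, hw, hw0⟩ := Submodule.exists_mem_ne_zero_of_ne_bot hW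
  obtain ⟨j, hj⟩ : ∃ j, w j ≠ 0 := by
    by_contra hcon
    push Not at hcon
    exact hw0 (funext hcon)
  have h1 : ∀ i, i ≠ j → (Pi.single i 1 : Fin 3 → F) ∈ W := fun i hi => tv_step hS hi (hE i j hi) hw hj
  apply eq_top_of_single
  intro i
  by_cases hi : i = j
  · subst hi
    obtain ⟨k, hk⟩ : ∃ k : Fin 3, k ≠ i := exists_ne i
    exact tv_step hS hk.symm (hE i k hk.symm) (h1 k hk) (by simp)
  · exact h1 i hi

/-- the stabiliser of a plane does not stabilise a point -/
theorem free_W2_W1 : Free (sub (subspaceStabilizer (W2 F))) (subspaceStabilizer (W1 F)) := by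
  have hm : ∀ (i j : Fin 3) (h : i ≠ j), i ≠ 2 →
      (Matrix.SpecialLinearGroup.transvection h 1 : SL3 F) ∈ sub (subspaceStabilizer (W2 F)) := by
    intro i j h hi
    apply mem_stab
    intro w hw
    rw [mem_W2] at hw ⊢
    rw [tv_mulVec, Pi.add_apply, hw, Pi.single_apply, if_neg hi.symm, add_zero]
  apply free_stab
  intro W hS
  by_cases hW : W = ⊥
  · rw [hW, finrank_bot]
    intro h
    exact W1_ne_bot (Submodule.finrank_eq_zero.1 h.symm)
  · obtain ⟨w, hw, hw0⟩ := Submodule.exists_mem_ne_zero_of_ne_bot hW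
    obtain ⟨j, hj⟩ : ∃ j, w j ≠ 0 := by
      by_contra hcon
      push Not at hcon
      exact hw0 (funext hcon)
    have h01 : (Pi.single 0 1 : Fin 3 → F) ∈ W ∧ (Pi.single 1 1 : Fin 3 → F) ∈ W := by
      by_cases hj0 : j = 0
      · subst hj0
        have h1 := tv_step hS (by decide : (1 : Fin 3) ≠ 0) (hm _ _ _ (by decide)) hw hj
        exact ⟨tv_step hS (by decide : (0 : Fin 3) ≠ 1) (hm _ _ _ (by decide)) h1 (by simp), h1⟩
      · have h0 := tv_step hS (Ne.symm hj0) (hm _ _ _ (by decide)) hw hj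
        exact ⟨h0, tv_step hS (by decide : (1 : Fin 3) ≠ 0) (hm _ _ _ (by decide)) h0 (by simp)⟩
    have hle : W2 F ≤ W := by
      intro v hv
      rw [mem_W2] at hv
      have : v = v 0 • Pi.single 0 1 + v 1 • Pi.single 1 1 := by
        ext i
        (revert i; simp only [hv, _root_.Fin.forall_fin_succ, Fin.isValue, _root_.Pi.add_apply, _root_.Pi.smul_apply, _root_.smul_eq_mul, _root_.Pi.single_eq_same, _root_.mul_one, _root_.ne_eq, _root_.zero_ne_one, _root_.not_false_eq_true, _root_.Pi.single_eq_of_ne, _root_.MulZeroClass.mul_zero, _root_.add_zero, _root_.Fin.succ_ne_zero, _root_.zero_add, _root_.Fin.succ_zero_eq_one, _root_.Fin.succ_one_eq_two, Fin.reduceEq, _root_.IsEmpty.forall_iff, _root_.and_self])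
      rw [this]
      exact W.add_mem (W.smul_mem _ h01.1) (W.smul_mem _ h01.2)
    have h1 := Submodule.finrank_lt_finrank_of_lt (W1_lt_W2 (F := F))
    have h2 := Submodule.finrank_mono hle
    omega

/-- an irreducible group is in no parabolic subgroup -/
theorem free_of_irr {E : Subgroup (SL3 F)} (hE : ∀ W : Submodule F (Fin 3 → F), Stable E W → W = ⊥ ∨ W = ⊤)
    {W : Submodule F (Fin 3 → F)} (h0 : W ≠ ⊥) (h1 : W ≠ ⊤) : Free E (subspaceStabilizer W) := by
  apply free_stab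
  intro W' hS
  rcases hE W' hS with rfl | rfl
  · rw [finrank_bot]
    intro h
    exact h0 (Submodule.finrank_eq_zero.1 h.symm)
  · rw [finrank_top]
    intro h
    exact h1 (Submodule.eq_top_of_finrank_eq h.symm)

end Cfsg.Agent.H896.L3
end

-- part: H896/L3Big
section
/-!
# `PSL₃(q)` for S5906, S5907 (task 625, helper896): `Sep 5` for `q ≥ 5`
-/

set_option autoImplicit false
set_option linter.unusedSectionVars false

namespace Cfsg.Agent.H896.L3

open Matrix Cfsg Cfsg.Geo
open Matrix.SpecialLinearGroup (toGL)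
open Cfsg.Agent.H940.MaxCls

variable {F : Type*} [Field F]

/-! ### existence -/

/-- the standard frame -/
def stdD (F : Type*) [Field F] (i : Fin 3) : Submodule F (Fin 3 → F) := Submodule.span F {Pi.single i 1}

theorem stdD_dec : IsMDecomposition 1 (stdD F) where
  two_le := by norm_num
  pos := by norm_num
  finrank_eq := fun i => finrank_span_singleton (by simp)
  indep := by
    have h : LinearIndependent F (fun i : Fin 3 => (Pi.single i 1 : Fin 3 → F)) := by
      have h0 := (Pi.basisFun F (Fin 3)).linearIndependent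
      have he : (⇑(Pi.basisFun F (Fin 3)) : Fin 3 → (Fin 3 → F)) = fun i => Pi.single i 1 := by
        funext i
        exact Pi.basisFun_apply F (Fin 3) i
      rwa [he] at h0
    exact h.iSupIndep_span_singleton
  iSup_eq_top := by
    apply eq_top_of_single
    intro i
    exact Submodule.mem_iSup_of_mem i (Submodule.mem_span_singleton_self _)

theorem hE_mem_dec (a : F) (ha : a ≠ 0) : hE a ha ∈ sub (decompositionStabilizer (stdD F)) := by
  refine ⟨1, fun i => ?_⟩
  rw [stdD, Submodule.map_span, Set.image_singleton, Matrix.toLin'_apply, Equiv.Perm.one_apply, stdD]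
  have h : ((toGL (hE a ha) : GL (Fin 3) F) : Matrix (Fin 3) (Fin 3) F) *ᵥ (Pi.single i 1) =
      (![a, 1, a⁻¹] i) • (Pi.single i 1 : Fin 3 → F) := by
    ext j
    show ((hE a ha : SL3 F) : Matrix (Fin 3) (Fin 3) F) *ᵥ (Pi.single i 1) |> fun v => v j = _
    (revert i j; simp only [hE, _root_.Fin.forall_fin_succ, _root_.Matrix.mulVec_single, _root_.MulOpposite.op_one, _root_.Pi.smul_apply, _root_.Matrix.col_apply, _root_.Matrix.of_apply, _root_.Matrix.cons_val', _root_.Matrix.cons_val_fin_one, _root_.one_smul, _root_.Nat.succ_eq_add_one, Nat.reduceAdd, _root_.smul_eq_mul, Fin.isValue, _root_.Matrix.cons_val_zero, _root_.Matrix.cons_val_succ, _root_.Fin.succ_zero_eq_one, _root_.Fin.succ_one_eq_two, _root_.IsEmpty.forall_iff, _root_.and_true, _root_.Pi.single_eq_same, _root_.mul_one, _root_.ne_eq, _root_.one_ne_zero, _root_.not_false_eq_true, _root_.Pi.single_eq_of_ne, _root_.MulZeroClass.mul_zero, Fin.reduceEq, _root_.and_self, _root_.Fin.succ_ne_zero,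 _root_.Pi.single_eq_of_ne', _root_.zero_eq_mul, _root_.inv_eq_zero, _root_.true_and, _root_.or_true])
  rw [h]
  apply Submodule.span_singleton_smul_eq
  fin_cases i <;> simp [ha]

theorem exists_cubic [Finite F] : ∃ K : Subalgebra F (Matrix (Fin 3) (Fin 3) F), IsFieldSubalgebra 3 K := by
  obtain ⟨p, hp⟩ := CharP.exists F
  have hpp : Fact p.Prime := ⟨CharP.char_is_prime F p⟩
  let L := FiniteField.Extension F p 3
  have h3 : Module.finrank F L = 3 := FiniteField.finrank_extension F p 3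
  let b : Module.Basis (Fin 3) F L := Module.finBasisOfFinrankEq F L h3
  let φ : L →ₐ[F] Matrix (Fin 3) (Fin 3) F := Algebra.leftMulMatrix b
  have hφ : Function.Injective φ := Algebra.leftMulMatrix_injective b
  refine ⟨φ.range, ?_, ?_, ?_⟩
  · rintro _ ⟨x, rfl⟩ _ ⟨y, rfl⟩
    show φ x * φ y = φ y * φ x
    rw [← map_mul, mul_comm, map_mul]
  · rintro _ ⟨x, rfl⟩ h0
    have hx : x ≠ 0 := by
      rintro rfl
      exact h0 (map_zero φ)
    refine ⟨φ x⁻¹, ⟨_, rfl⟩, ?_⟩
    show φ x * φ x⁻¹ = 1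
    rw [← map_mul, mul_inv_cancel₀ hx, map_one]
  · exact (AlgEquiv.ofInjective φ hφ).toLinearEquiv.finrank_eq.symm.trans h3

/-! ### the five classes for `q ≥ 5` -/

theorem sep_big [Fintype F] (hyp : Hyp74 F) (h5 : 5 ≤ Fintype.card F) {X : Subgroup (GL (Fin 3) F)}
    (hE : IsCoatom (sub X)) (irr : ∀ W : Submodule F (Fin 3 → F), Stable (sub X) W → W = ⊥ ∨ W = ⊤)
    (hbad : ∃ x ∈ sub X, Bad x) (hdec : Free (sub X) (decompositionStabilizer (stdD F))) : Sep 5 (SL3 F) := by
  obtain ⟨a, ha, ha3⟩ := exists_cube_ne (F := F) h5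
  obtain ⟨K, hK⟩ := exists_cubic (F := F)
  have cP1 := coatom_of_max (hyp.1 (W1 F) W1_ne_bot W1_ne_top)
  have cP2 := coatom_of_max (hyp.1 (W2 F) W2_ne_bot W2_ne_top)
  have cD := coatom_of_max (hyp.2.1 h5 _ stdD_dec)
  have cK := coatom_of_max (hyp.2.2.1 (by omega) K hK)
  have fr : ∀ {E : Subgroup (SL3 F)}, (∀ t, xE t ∈ E) → Free E (decompositionStabilizer (stdD F)) :=
    fun h => free_dec h5 stdD_dec xE xE_add xE_unip xE_one h
  obtain ⟨x, hx, hxb⟩ := hbad
  have hb := hE_bad a ha ha3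
  have key : ∀ {A B : Subgroup (SL3 F)}, IsCoatom A → IsCoatom B →
      (∀ g : SL3 F, Subgroup.map (MulAut.conj g).toMonoidHom A ≠ B) → Apart A B := by
    intro A B hA hB hne g L h1 h2
    by_contra hL
    have e1 : L = A := by
      rcases eq_or_lt_of_le h1 with h | h
      · exact h.symm
      · exact absurd (hA.2 L h) hL
    have hBc : IsCoatom (Subgroup.map (MulAut.conj g).toMonoidHom B) :=
      (OrderIso.isCoatom_iff ((MulAut.conj g).mapSubgroup) B).2 hB
    have e2 : L = Subgroup.map (MulAut.conj g).toMonoidHom B := by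
      rcases eq_or_lt_of_le (map_conj_le h2) with h | h
      · exact h.symm
      · exact absurd (hBc.2 L h) hL
    refine hne g⁻¹ ?_
    rw [← e1, e2]
    ext y
    rw [mem_map_conj, mem_map_conj]
    have h3 : g⁻¹ * (g⁻¹⁻¹ * y * g⁻¹) * g = y := by group
    rw [h3]
  refine sep_five cP1.1 cP2.1 cD.1 cK.1 hE.1 ?_ ?_ ?_ ?_ ?_ ?_ ?_ ?_ ?_ ?_
  · exact key cP1 cP2 free_W2_W1.ne
  · exact key cP1 cD (fr xE_mem_W1).ne'
  · exact key cP1 cK (free_norm hK (hE_mem_W1 a ha) hb).ne'
  · exact key cP1 hE (free_of_irr irr W1_ne_bot W1_ne_top).ne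
  · exact key cP2 cD (fr xE_mem_W2).ne'
  · exact key cP2 cK (free_norm hK (hE_mem_W2 a ha) hb).ne'
  · exact key cP2 hE (free_of_irr irr W2_ne_bot W2_ne_top).ne
  · exact key cD cK (free_norm hK (hE_mem_dec a ha) hb).ne'
  · exact key cD hE hdec.ne
  · exact key cK hE (free_norm hK hx hxb).ne

/-! ### the orthogonal group -/

/-- `v₁² - v₀ v₂` -/
def Qf (F : Type*) [Field F] (v : Fin 3 → F) : F := v 1 ^ 2 - v 0 * v 2

theorem polar_Qf (v w : Fin 3 → F) : QuadraticMap.polar (Qf F) v w = 2 * (v 1 * w 1) - v 0 * w 2 - w 0 * v 2 := by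
  simp only [QuadraticMap.polar, Qf, Pi.add_apply]
  ring

theorem Qf_nondeg (h2 : (2 : F) ≠ 0) : IsNondegenerateQuadraticForm (Qf F) where
  smul := by
    intro c v
    simp only [Qf, Pi.smul_apply, smul_eq_mul]
    ring
  polar_bilinear :=
    { add_left := by
        intro x y v
        simp only [polar_Qf, Pi.add_apply]
        ring
      smul_left := by
        intro c x v
        simp only [polar_Qf, Pi.smul_apply, smul_eq_mul]
        ring
      add_right := by
        intro v x y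
        simp only [polar_Qf, Pi.add_apply]
        ring
      smul_right := by
        intro c v x
        simp only [polar_Qf, Pi.smul_apply, smul_eq_mul]
        ring }
  nondegenerate := by
    have key : ∀ v : Fin 3 → F, v ≠ 0 → ∃ x, QuadraticMap.polar (Qf F) x v ≠ 0 := by
      intro v hv
      by_contra hcon
      push Not at hcon
      apply hv
      have h0 := hcon (Pi.single 0 1)
      have h1 := hcon (Pi.single 1 1)
      have h3 := hcon (Pi.single 2 1)
      rw [polar_Qf] at h0 h1 h3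
      simp [h2] at h0 h1 h3
      ext i
      fin_cases i
      · simpa using h3
      · simpa using h1
      · simpa using h0
    intro v hv
    refine ⟨key v hv, ?_⟩
    obtain ⟨x, hx⟩ := key v hv
    refine ⟨x, fun h => hx ?_⟩
    rw [polar_Qf] at h ⊢
    linear_combination h

theorem uE_mem_Q (t : F) : uE t ∈ sub (quadSimilarityGroup (Qf F)) := by
  refine ⟨1, fun v => ?_⟩
  show Qf F (((uE t : SL3 F) : Matrix (Fin 3) (Fin 3) F) *ᵥ v) = _
  simp only [Qf, uE, Matrix.mulVec, dotProduct, Fin.sum_univ_three, _root_.Fin.isValue, _root_.Matrix.of_apply, _root_.Matrix.cons_val', _root_.Matrix.cons_val_fin_one, _root_.Matrix.cons_val_one, _root_.Matrix.cons_val_zero, _root_.MulZeroClass.zero_mul, _root_.one_mul, _root_.zero_add, _root_.Matrix.cons_val, _root_.add_zero, _root_.Units.val_one]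
  ring

theorem vE_mem_Q (t : F) : vE t ∈ sub (quadSimilarityGroup (Qf F)) := by
  refine ⟨1, fun v => ?_⟩
  show Qf F (((vE t : SL3 F) : Matrix (Fin 3) (Fin 3) F) *ᵥ v) = _
  simp only [Qf, vE, Matrix.mulVec, dotProduct, Fin.sum_univ_three, _root_.Fin.isValue, _root_.Matrix.of_apply, _root_.Matrix.cons_val', _root_.Matrix.cons_val_fin_one, _root_.Matrix.cons_val_one, _root_.Matrix.cons_val_zero, _root_.one_mul, _root_.Matrix.cons_val, _root_.MulZeroClass.zero_mul, _root_.add_zero, _root_.Units.val_one]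
  ring

theorem hE_mem_Q (a : F) (ha : a ≠ 0) : hE a ha ∈ sub (quadSimilarityGroup (Qf F)) := by
  refine ⟨1, fun v => ?_⟩
  show Qf F (((hE a ha : SL3 F) : Matrix (Fin 3) (Fin 3) F) *ᵥ v) = _
  simp only [Qf, hE, Matrix.mulVec, dotProduct, Fin.sum_univ_three, _root_.Fin.isValue, _root_.Matrix.of_apply, _root_.Matrix.cons_val', _root_.Matrix.cons_val_fin_one, _root_.Matrix.cons_val_one, _root_.Matrix.cons_val_zero, _root_.MulZeroClass.zero_mul, _root_.one_mul, _root_.zero_add, _root_.Matrix.cons_val, _root_.add_zero, _root_.Units.val_one, _root_.sub_right_inj]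
  field_simp

theorem irr_Q (h2 : (2 : F) ≠ 0) {W : Submodule F (Fin 3 → F)} (hS : Stable (sub (quadSimilarityGroup (Qf F))) W) :
    W = ⊥ ∨ W = ⊤ := by
  by_cases hW : W = ⊥
  · exact Or.inl hW
  right
  obtain ⟨w, hw, hw0⟩ := Submodule.exists_mem_ne_zero_of_ne_bot hW
  have hu : ∀ w ∈ W, (![2 * w 1 + w 2, w 2, 0] : Fin 3 → F) ∈ W := by
    intro w hw
    have h1 := W.sub_mem (hS _ (uE_mem_Q 1) w hw) hw
    have h3 : ((uE 1 : SL3 F) : Matrix (Fin 3) (Fin 3) F) *ᵥ w - w = ![2 * w 1 + w 2, w 2, 0] := by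
      ext i
      (revert i; simp only [uE, dotProduct, Fin.sum_univ_three, _root_.Fin.forall_fin_succ, _root_.mul_one, _root_.one_pow, _root_.Matrix.cons_mulVec, Fin.isValue, _root_.Matrix.cons_val_zero, _root_.one_mul, _root_.Matrix.cons_val_one, _root_.Matrix.cons_val, _root_.MulZeroClass.zero_mul, _root_.zero_add, _root_.add_zero, _root_.Matrix.empty_mulVec, _root_.Pi.sub_apply, _root_.Nat.succ_eq_add_one, Nat.reduceAdd, _root_.Matrix.cons_val_succ, _root_.Fin.succ_zero_eq_one, _root_.add_sub_cancel_left, _root_.Matrix.cons_val_fin_one, _root_.Fin.succ_one_eq_two, _root_.sub_self, _root_.IsEmpty.forall_iff, _root_.and_true, _root_.true_and]) <;> (repeat' with_reducible apply And.intro); ring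
    rwa [h3] at h1
  have hv : ∀ w ∈ W, (![0, w 0, w 0 + 2 * w 1] : Fin 3 → F) ∈ W := by
    intro w hw
    have h1 := W.sub_mem (hS _ (vE_mem_Q 1) w hw) hw
    have h3 : ((vE 1 : SL3 F) : Matrix (Fin 3) (Fin 3) F) *ᵥ w - w = ![0, w 0, w 0 + 2 * w 1] := by
      ext i
      (revert i; simp only [vE, dotProduct, Fin.sum_univ_three, _root_.Fin.forall_fin_succ, _root_.one_pow, _root_.mul_one, _root_.Matrix.cons_mulVec, Fin.isValue, _root_.Matrix.cons_val_zero, _root_.one_mul, _root_.Matrix.cons_val_one, _root_.MulZeroClass.zero_mul, _root_.add_zero, _root_.Matrix.cons_val, _root_.Matrix.empty_mulVec, _root_.Pi.sub_apply, _root_.Nat.succ_eq_add_one, Nat.reduceAdd, _root_.sub_self, _root_.Matrix.cons_val_succ, _root_.Fin.succ_zero_eq_one, _root_.add_sub_cancel_right, _root_.Matrix.cons_val_fin_one, _root_.Fin.succ_one_eq_two, _root_.IsEmpty.forall_iff, _root_.and_self])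
    rwa [h3] at h1
  have hsc : ∀ (i : Fin 3) (c : F), c ≠ 0 → (Pi.single i c : Fin 3 → F) ∈ W → (Pi.single i 1 : Fin 3 → F) ∈ W := by
    intro i c hc h
    have h1 := W.smul_mem c⁻¹ h
    rwa [← Pi.single_smul, smul_eq_mul, inv_mul_cancel₀ hc] at h1
  have h0 : (Pi.single 0 1 : Fin 3 → F) ∈ W := by
    by_cases hw2 : w 2 = 0
    · by_cases hw1 : w 1 = 0
      · have hw00 : w 0 ≠ 0 := by
          intro h
          apply hw0
          ext i
          fin_cases i
          · exact h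
          · exact hw1
          · exact hw2
        apply hsc 0 (w 0) hw00
        have : (Pi.single 0 (w 0) : Fin 3 → F) = w := by
          ext i
          (revert i; simp only [hw1, hw2, _root_.Fin.forall_fin_succ, Fin.isValue, _root_.Pi.single_eq_same, _root_.ne_eq, _root_.Fin.succ_ne_zero, _root_.not_false_eq_true, _root_.Pi.single_eq_of_ne, _root_.Fin.succ_zero_eq_one, _root_.Fin.succ_one_eq_two, _root_.IsEmpty.forall_iff, _root_.and_self])
        rwa [this]
      · have h1 := hu w hw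
        rw [hw2] at h1
        apply hsc 0 (2 * w 1) (mul_ne_zero h2 hw1)
        have : (Pi.single 0 (2 * w 1) : Fin 3 → F) = ![2 * w 1 + 0, 0, 0] := by
          ext i
          (revert i; simp only [_root_.Fin.forall_fin_succ, Fin.isValue, _root_.Nat.succ_eq_add_one, Nat.reduceAdd, _root_.add_zero, _root_.Pi.single_eq_same, _root_.Matrix.cons_val_zero, _root_.ne_eq, _root_.Fin.succ_ne_zero, _root_.not_false_eq_true, _root_.Pi.single_eq_of_ne, _root_.Matrix.cons_val_succ, _root_.Matrix.cons_val_fin_one, _root_.implies_true, _root_.and_self])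
        rwa [this]
    · have h1 := hu _ (hu w hw)
      apply hsc 0 (2 * w 2) (mul_ne_zero h2 hw2)
      have : (Pi.single 0 (2 * w 2) : Fin 3 → F) = ![2 * (![2 * w 1 + w 2, w 2, 0] : Fin 3 → F) 1 +
          (![2 * w 1 + w 2, w 2, 0] : Fin 3 → F) 2, (![2 * w 1 + w 2, w 2, 0] : Fin 3 → F) 2, 0] := by
        ext i
        (revert i; simp only [_root_.Fin.forall_fin_succ, Fin.isValue, _root_.Nat.succ_eq_add_one, Nat.reduceAdd, _root_.Matrix.cons_val_one, _root_.Matrix.cons_val_zero, _root_.Matrix.cons_val, _root_.add_zero, _root_.Pi.single_eq_same, _root_.ne_eq, _root_.Fin.succ_ne_zero, _root_.not_false_eq_true, _root_.Pi.single_eq_of_ne, _root_.Matrix.cons_val_succ, _root_.Matrix.cons_val_fin_one, _root_.implies_true, _root_.and_self])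
      rwa [this]
  have h12 := hv _ h0
  have h3 : (Pi.single 2 1 : Fin 3 → F) ∈ W := by
    have h1 := hv _ h12
    apply hsc 2 2 h2
    have : (Pi.single 2 2 : Fin 3 → F) = ![0, (![0, (Pi.single 0 1 : Fin 3 → F) 0, (Pi.single 0 1 : Fin 3 → F) 0 +
        2 * (Pi.single 0 1 : Fin 3 → F) 1] : Fin 3 → F) 0, (![0, (Pi.single 0 1 : Fin 3 → F) 0,
        (Pi.single 0 1 : Fin 3 → F) 0 + 2 * (Pi.single 0 1 : Fin 3 → F) 1] : Fin 3 → F) 0 + 2 *
        (![0, (Pi.single 0 1 : Fin 3 → F) 0, (Pi.single 0 1 : Fin 3 → F) 0 +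
        2 * (Pi.single 0 1 : Fin 3 → F) 1] : Fin 3 → F) 1] := by
      ext i
      (revert i; simp only [_root_.Fin.forall_fin_succ, Fin.isValue, _root_.Nat.succ_eq_add_one, Nat.reduceAdd, _root_.Pi.single_eq_same, _root_.ne_eq, _root_.one_ne_zero, _root_.not_false_eq_true, _root_.Pi.single_eq_of_ne, _root_.MulZeroClass.mul_zero, _root_.add_zero, _root_.Matrix.cons_val_zero, _root_.Matrix.cons_val_one, _root_.mul_one, _root_.zero_add, Fin.reduceEq, _root_.Matrix.cons_val_succ, _root_.Fin.succ_zero_eq_one, _root_.Matrix.cons_val_fin_one, _root_.Fin.succ_one_eq_two, _root_.IsEmpty.forall_iff, _root_.and_self])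
    rwa [this]
  have h1 : (Pi.single 1 1 : Fin 3 → F) ∈ W := by
    have h4 := W.sub_mem h12 h3
    have : (Pi.single 1 1 : Fin 3 → F) = ![0, (Pi.single 0 1 : Fin 3 → F) 0, (Pi.single 0 1 : Fin 3 → F) 0 +
        2 * (Pi.single 0 1 : Fin 3 → F) 1] - Pi.single 2 1 := by
      ext i
      (revert i; simp only [_root_.Fin.forall_fin_succ, Fin.isValue, _root_.Nat.succ_eq_add_one, Nat.reduceAdd, _root_.Pi.single_eq_same, _root_.ne_eq, _root_.one_ne_zero, _root_.not_false_eq_true, _root_.Pi.single_eq_of_ne, _root_.MulZeroClass.mul_zero, _root_.add_zero, _root_.Pi.sub_apply, _root_.zero_ne_one, _root_.Matrix.cons_val_zero, Fin.reduceEq, _root_.sub_self, _root_.Matrix.cons_val_succ, _root_.Fin.succ_zero_eq_one, _root_.sub_zero, _root_.Matrix.cons_val_fin_one, _root_.Fin.succ_one_eq_two, _root_.IsEmpty.forall_iff, _root_.and_self])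
    rwa [this]
  apply eq_top_of_single
  intro i
  fin_cases i
  · exact h0
  · exact h1
  · exact h3

theorem sep_odd [Fintype F] (hyp : Hyp74 F) (h5 : 5 ≤ Fintype.card F) (h2 : (2 : F) ≠ 0) (ho : Odd (Fintype.card F)) :
    Sep 5 (SL3 F) := by
  obtain ⟨a, ha, ha3⟩ := exists_cube_ne (F := F) h5
  exact sep_big hyp h5 (coatom_of_max (hyp.2.2.2.2.2.1 ho (Qf F) (Qf_nondeg h2))) (fun W => irr_Q h2)
    ⟨_, hE_mem_Q a ha, hE_bad a ha ha3⟩ (free_dec h5 stdD_dec uE uE_add uE_unip uE_one uE_mem_Q)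

end Cfsg.Agent.H896.L3
end

-- part: H896/L3Even
section
/-!
# `PSL₃(q)` for S5906, S5907 (task 625, helper896): even `q`
-/

set_option autoImplicit false
set_option linter.unusedSectionVars false

namespace Cfsg.Agent.H896.L3

open Matrix Cfsg Cfsg.Geo
open Matrix.SpecialLinearGroup (toGL)
open Cfsg.Agent.H940.MaxCls

variable {F : Type*} [Field F]

/-! ### subfields -/

theorem exists_fixed_field [Finite F] (σ : F ≃+* F) :
    ∃ K : Subfield F, Nat.card F = Nat.card K ^ orderOf σ := by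
  classical
  have : Finite (F ≃+* F) := Finite.of_injective (fun f : F ≃+* F => (f : F → F)) DFunLike.coe_injective
  have : Fintype (Subgroup.zpowers σ) := Fintype.ofFinite _
  refine ⟨FixedPoints.subfield (Subgroup.zpowers σ) F, ?_⟩
  have h1 := FixedPoints.finrank_eq_card (Subgroup.zpowers σ) F
  rw [← Nat.card_eq_fintype_card, Nat.card_zpowers] at h1
  rw [← h1]
  exact Module.natCard_eq_pow_finrank

/-- a subfield of prime index -/
theorem exists_prime_index [Fintype F] {p : ℕ} [Fact p.Prime] [CharP F p] (hne : ∃ x : F, x ^ p ≠ x) :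
    ∃ (F₀ : Subfield F) (r : ℕ), r.Prime ∧ Fintype.card F = Nat.card F₀ ^ r := by
  have : Finite (F ≃+* F) := Finite.of_injective (fun f : F ≃+* F => (f : F → F)) DFunLike.coe_injective
  let φ : F ≃+* F := frobeniusEquiv F p
  have hφ : φ ≠ 1 := by
    intro h
    obtain ⟨x, hx⟩ := hne
    apply hx
    have h1 := DFunLike.congr_fun h x
    rw [frobeniusEquiv_apply] at h1
    exact h1
  have ho : orderOf φ ≠ 1 := fun h => hφ (orderOf_eq_one_iff.1 h)
  have hpos : 0 < orderOf φ := orderOf_pos φ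
  set! r := (orderOf φ).minFac with hr
  have hrp : r.Prime := Nat.minFac_prime ho
  have hdvd : r ∣ orderOf φ := Nat.minFac_dvd _
  obtain ⟨k, hk⟩ := hdvd
  have hk0 : k ≠ 0 := by
    rintro rfl
    omega
  have h1 : orderOf (φ ^ k) = r := by
    rw [orderOf_pow' _ hk0, hk, Nat.gcd_eq_right (Dvd.intro_left r rfl)]
    exact Nat.mul_div_cancel _ (Nat.pos_of_ne_zero hk0)
  obtain ⟨F₀, hF₀⟩ := exists_fixed_field (φ ^ k)
  rw [h1, Nat.card_eq_fintype_card] at hF₀
  exact ⟨F₀, r, hrp, hF₀⟩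

/-- conjugates of elementary matrices -/
theorem tv_mem_subfield (F₀ : Subfield F) {i j : Fin 3} (h : i ≠ j) :
    (Matrix.SpecialLinearGroup.transvection h 1 : SL3 F) ∈ sub (subfieldSubgroup F₀ 1) := by
  rw [mem_sub, subfieldSubgroup, Subgroup.mem_map]
  refine ⟨toGL (Matrix.SpecialLinearGroup.transvection h 1 : SL3 F), Subgroup.mem_sup_left ?_, by simp only [_root_.map_one, _root_.MulEquiv.toMonoidHom_eq_coe, _root_.MonoidHom.coe_coe, _root_.MulAut.one_apply]⟩
  refine ⟨toGL (Matrix.SpecialLinearGroup.transvection h 1 : SL3 F₀), ?_⟩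
  apply Units.ext
  ext a b
  show F₀.subtype ((1 + Matrix.single i j (1 : F₀)) a b) = (1 + Matrix.single i j (1 : F)) a b
  rw [Matrix.add_apply, Matrix.add_apply, map_add, Matrix.one_apply, Matrix.one_apply, Matrix.single_apply,
    Matrix.single_apply]
  split_ifs <;> simp only [_root_.Subfield.subtype_apply, _root_.OneMemClass.coe_one, _root_.ZeroMemClass.coe_zero, _root_.add_zero, _root_.zero_add]

/-- a regular unipotent element -/
def rE (F : Type*) [Field F] : SL3 F :=
  ⟨!![1, 1, 0; 0, 1, 1; 0, 0, 1], by simp [Matrix.det_fin_three]⟩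

theorem rE_eq : rE F = Matrix.SpecialLinearGroup.transvection (by decide : (1 : Fin 3) ≠ 2) 1 *
    Matrix.SpecialLinearGroup.transvection (by decide : (0 : Fin 3) ≠ 1) 1 := by
  apply Subtype.ext
  rw [Matrix.SpecialLinearGroup.coe_mul]
  show _ = (1 + Matrix.single 1 2 (1 : F)) * (1 + Matrix.single 0 1 (1 : F))
  ext i j
  (revert i j; simp only [rE, Matrix.mul_apply, Fin.sum_univ_three, Matrix.one_apply, _root_.Fin.forall_fin_succ, _root_.Matrix.of_apply, _root_.Matrix.cons_val', _root_.Matrix.cons_val_fin_one, Fin.isValue, _root_.Matrix.add_apply, Fin.reduceEq, _root_.and_false, _root_.not_false_eq_true, _root_.Matrix.single_apply_of_ne, _root_.add_zero, _root_.ite_mul, _root_.one_mul, _root_.MulZeroClass.zero_mul, _root_.zero_ne_one, _root_.false_and, _root_.mul_ite, _root_.mul_one, _root_.MulZeroClass.mul_zero, _root_.Matrix.cons_val_zero, ↓reduceIte, _root_.one_ne_zero, _root_.Matrix.cons_val_succ, _root_.Fin.succ_zero_eq_one, _root_.Matrix.single_apply_same,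 _root_.zero_add, _root_.Fin.succ_one_eq_two, _root_.ite_self, _root_.IsEmpty.forall_iff, _root_.and_true, _root_.and_self, _root_.Fin.succ_ne_zero, _root_.right_eq_ite_iff, _root_.imp_false, _root_.true_and])

theorem xE_eq : xE (1 : F) = Matrix.SpecialLinearGroup.transvection (by decide : (0 : Fin 3) ≠ 1) 1 := by
  apply Subtype.ext
  show _ = 1 + Matrix.single 0 1 (1 : F)
  ext i j
  (revert i j; simp only [xE, Matrix.one_apply, _root_.Fin.forall_fin_succ, _root_.Matrix.of_apply, _root_.Matrix.cons_val', _root_.Matrix.cons_val_fin_one, Fin.isValue, _root_.Matrix.add_apply, _root_.Matrix.cons_val_zero, _root_.one_ne_zero, _root_.and_false, _root_.not_false_eq_true, _root_.Matrix.single_apply_of_ne, _root_.add_zero, _root_.Matrix.cons_val_succ, _root_.Fin.succ_zero_eq_one, _root_.Fin.succ_one_eq_two, Fin.reduceEq, _root_.IsEmpty.forall_iff, _root_.and_true, ↓reduceIte, _root_.zero_ne_one, _root_.Matrix.single_apply_same, _root_.zero_add, _root_.and_self,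 _root_.Fin.succ_ne_zero, _root_.left_eq_ite_iff, _root_.imp_false, _root_.Decidable.not_not, _root_.true_and])

theorem rE_mem (F₀ : Subfield F) : rE F ∈ sub (subfieldSubgroup F₀ 1) := by
  rw [rE_eq]
  exact Subgroup.mul_mem _ (tv_mem_subfield F₀ _) (tv_mem_subfield F₀ _)

theorem xE_mem (F₀ : Subfield F) : xE (1 : F) ∈ sub (subfieldSubgroup F₀ 1) := by
  rw [xE_eq]
  exact tv_mem_subfield F₀ _

theorem rE_unip : Unip (rE F) := by
  unfold Unip
  have h : ((rE F : SL3 F) : Matrix (Fin 3) (Fin 3) F) - 1 = !![0, 1, 0; 0, 0, 1; 0, 0, 0] := by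
    ext i j
    (revert i j; simp only [rE, _root_.Fin.forall_fin_succ, _root_.Matrix.sub_apply, _root_.Matrix.of_apply, _root_.Matrix.cons_val', _root_.Matrix.cons_val_fin_one, Fin.isValue, _root_.Matrix.cons_val_zero, _root_.Matrix.cons_val_succ, _root_.IsEmpty.forall_iff, _root_.and_true, _root_.Matrix.one_apply_eq, _root_.sub_self, Nat.reduceAdd, _root_.Fin.succ_zero_eq_one, _root_.ne_eq, _root_.zero_ne_one, _root_.not_false_eq_true, _root_.Matrix.one_apply_ne, _root_.sub_zero, _root_.Fin.succ_one_eq_two, Fin.reduceEq, _root_.and_self, _root_.Fin.succ_ne_zero, _root_.true_and, _root_.zero_sub, _root_.neg_eq_zero])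
  rw [h, pow_succ, pow_two]
  ext i j
  (revert i j; simp only [Matrix.mul_apply, Fin.sum_univ_three, _root_.Fin.forall_fin_succ, _root_.Matrix.cons_mul, _root_.Nat.succ_eq_add_one, Nat.reduceAdd, _root_.Matrix.vecMul_cons, _root_.Matrix.head_cons, _root_.zero_smul, _root_.Matrix.tail_cons, _root_.one_smul, _root_.Matrix.empty_vecMul, _root_.add_zero, _root_.zero_add, _root_.Matrix.empty_mul, _root_.Equiv.symm_apply_apply, _root_.Matrix.of_apply, _root_.Matrix.cons_val', _root_.Pi.zero_apply, _root_.Matrix.cons_val_fin_one, Fin.isValue, _root_.Matrix.cons_val_zero, _root_.Matrix.cons_val_one, _root_.Matrix.cons_val, _root_.Matrix.zero_apply, _root_.MulZeroClass.mul_zero, _root_.Matrix.cons_val_succ, _root_.mul_one, _root_.forall_const, _root_.and_self, _root_.true_and, _root_.implies_true])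

theorem rE_six (h2 : (2 : F) = 0) : rE F ^ 6 ≠ 1 := by
  intro h
  have h1 := congrArg (fun x : SL3 F => (x : Matrix (Fin 3) (Fin 3) F) 0 2) h
  simp only [Matrix.SpecialLinearGroup.coe_pow] at h1
  have e2 : ((rE F : SL3 F) : Matrix (Fin 3) (Fin 3) F) ^ 2 = !![1, 2, 1; 0, 1, 2; 0, 0, 1] := by
    rw [pow_two]
    ext i j
    (revert i j; simp only [rE, Matrix.mul_apply, Fin.sum_univ_three, _root_.Fin.forall_fin_succ, _root_.Matrix.of_apply, _root_.Matrix.cons_val', _root_.Matrix.cons_val_fin_one, Fin.isValue, _root_.Matrix.cons_val_zero, _root_.Matrix.cons_val_one, _root_.Matrix.cons_val, _root_.mul_one, _root_.MulZeroClass.mul_zero, _root_.add_zero, _root_.Matrix.cons_val_succ, _root_.zero_add, _root_.forall_const, _root_.true_and, _root_.and_true, _root_.add_eq_right, _root_.and_self, _root_.implies_true]) <;> (repeat' with_reducible apply And.intro) <;> norm_num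
  have e3 : ((rE F : SL3 F) : Matrix (Fin 3) (Fin 3) F) ^ 3 = !![1, 3, 3; 0, 1, 3; 0, 0, 1] := by
    rw [pow_succ, e2]
    ext i j
    (revert i j; simp only [rE, Matrix.mul_apply, Fin.sum_univ_three, _root_.Fin.forall_fin_succ, _root_.Matrix.of_apply, _root_.Matrix.cons_val', _root_.Matrix.cons_val_fin_one, Fin.isValue, _root_.Matrix.cons_val_zero, _root_.Matrix.cons_val_one, _root_.Matrix.cons_val, _root_.mul_one, _root_.MulZeroClass.mul_zero, _root_.add_zero, _root_.Matrix.cons_val_succ, _root_.zero_add, _root_.forall_const, _root_.true_and, _root_.add_eq_right, _root_.and_self, _root_.implies_true, _root_.and_true]) <;> (repeat' with_reducible apply And.intro) <;> norm_num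
  have e6 : ((rE F : SL3 F) : Matrix (Fin 3) (Fin 3) F) ^ 6 = !![1, 6, 15; 0, 1, 6; 0, 0, 1] := by
    have : ((rE F : SL3 F) : Matrix (Fin 3) (Fin 3) F) ^ 6 = ((rE F : SL3 F) : Matrix (Fin 3) (Fin 3) F) ^ 3 *
      ((rE F : SL3 F) : Matrix (Fin 3) (Fin 3) F) ^ 3 := by rw [← pow_add]
    rw [this, e3]
    ext i j
    (revert i j; simp only [Matrix.mul_apply, Fin.sum_univ_three, _root_.Fin.forall_fin_succ, _root_.Matrix.of_apply, _root_.Matrix.cons_val', _root_.Matrix.cons_val_fin_one, Fin.isValue, _root_.Matrix.cons_val_zero, _root_.Matrix.cons_val_one, _root_.Matrix.cons_val, _root_.mul_one, _root_.MulZeroClass.mul_zero, _root_.add_zero, _root_.Matrix.cons_val_succ, _root_.forall_const, _root_.true_and, _root_.one_mul, _root_.add_eq_right, _root_.mul_eq_zero, _root_.true_or, _root_.MulZeroClass.zero_mul, _root_.zero_add, _root_.and_self, _root_.implies_true, _root_.and_true]) <;> (repeat' with_reducible apply And.intro) <;> norm_num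
  rw [e6] at h1
  simp only [_root_.Fin.isValue, _root_.Matrix.of_apply, _root_.Matrix.cons_val', _root_.Matrix.cons_val, _root_.Matrix.cons_val_fin_one, _root_.Matrix.cons_val_zero, _root_.Matrix.SpecialLinearGroup.coe_one, _root_.ne_eq, _root_.Fin.reduceEq, _root_.not_false_eq_true, _root_.Matrix.one_apply_ne] at h1
  have h3 : (1 : F) = 0 := by linear_combination h1 - 7 * h2
  exact one_ne_zero h3

theorem sep_even [Fintype F] (hyp : Hyp74 F) (h5 : 5 ≤ Fintype.card F) (h2 : (2 : F) = 0) : Sep 5 (SL3 F) := by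
  have hp : Fact (Nat.Prime 2) := ⟨Nat.prime_two⟩
  have hc : CharP F 2 := CharTwo.of_one_ne_zero_of_two_eq_zero one_ne_zero h2
  have hne : ∃ x : F, x ^ 2 ≠ x := by
    classical
    by_contra hcon
    push Not at hcon
    have h1 : (Finset.univ : Finset F) ⊆ {0, 1} := by
      intro x _
      have h3 : x * (x - 1) = 0 := by linear_combination hcon x
      rcases mul_eq_zero.1 h3 with h | h
      · simp only [h, _root_.Finset.mem_insert, _root_.Finset.mem_singleton, _root_.zero_ne_one, _root_.or_false]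
      · simp only [sub_eq_zero.1 h, _root_.Finset.mem_insert, _root_.one_ne_zero, _root_.Finset.mem_singleton, _root_.or_true]
    have h4 := Finset.card_le_card h1
    rw [Finset.card_univ] at h4
    have h6 := Finset.card_le_two (a := (0 : F)) (b := 1)
    omega
  obtain ⟨F₀, r, hr, hcard⟩ := exists_prime_index (F := F) (p := 2) hne
  have h3 : (3 : F) ≠ 0 := by
    intro h
    have h3 : (1 : F) = 0 := by linear_combination h - h2
    exact one_ne_zero h3
  exact sep_big hyp h5 (coatom_of_max (hyp.2.2.2.1 F₀ r 1 hr hcard))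
    (fun W hW => irr_of_tv (fun i j h => tv_mem_subfield F₀ h) hW) ⟨_, xE_mem F₀, xE_bad h3⟩
    (free_dec_elt stdD_dec (rE_mem F₀) rE_unip (rE_six h2))

end Cfsg.Agent.H896.L3
end

-- part: H896/L3Four
section
/-!
# `PSL₃(4)` for S5906, S5907 (task 625, helper896)
-/

set_option autoImplicit false
set_option linter.unusedSectionVars false

namespace Cfsg.Agent.H896.L3

open Matrix Cfsg Cfsg.Geo
open Matrix.SpecialLinearGroup (toGL)
open Cfsg.Agent.H940.MaxCls

variable {F : Type*} [Field F]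

/-- apartness of maximal subgroups that are not conjugate -/
theorem apart_of_ne {G : Type*} [Group G] {A B : Subgroup G} (hA : IsCoatom A) (hB : IsCoatom B)
    (hne : ∀ g : G, Subgroup.map (MulAut.conj g).toMonoidHom A ≠ B) : Apart A B := by
  intro g L h1 h2
  by_contra hL
  have e1 : L = A := by
    rcases eq_or_lt_of_le h1 with h | h
    · exact h.symm
    · exact absurd (hA.2 L h) hL
  have hBc : IsCoatom (Subgroup.map (MulAut.conj g).toMonoidHom B) :=
    (OrderIso.isCoatom_iff ((MulAut.conj g).mapSubgroup) B).2 hB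
  have e2 : L = Subgroup.map (MulAut.conj g).toMonoidHom B := by
    rcases eq_or_lt_of_le (map_conj_le h2) with h | h
    · exact h.symm
    · exact absurd (hBc.2 L h) hL
  refine hne g⁻¹ ?_
  rw [← e1, e2]
  ext y
  rw [mem_map_conj, mem_map_conj]
  have h3 : g⁻¹ * (g⁻¹⁻¹ * y * g⁻¹) * g = y := by group
  rw [h3]

/-! ### the unitary group -/

/-- the standard hermitian form over the field with four elements -/
def Hf (F : Type*) [Field F] (u v : Fin 3 → F) : F := ∑ i, u i * v i ^ 2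

theorem Hf_unitary (hc : ∀ x : F, x ^ 4 = x) (h2 : (2 : F) = 0) (hw : ∃ x : F, x ^ 2 ≠ x) :
    ∃ σ : F ≃+* F, IsUnitaryForm σ (Hf F) := by
  let σ : F ≃+* F :=
    { toFun := fun x => x ^ 2
      invFun := fun x => x ^ 2
      left_inv := fun x => by
        show (x ^ 2) ^ 2 = x
        rw [← pow_mul]
        exact hc x
      right_inv := fun x => by
        show (x ^ 2) ^ 2 = x
        rw [← pow_mul]
        exact hc x
      map_mul' := fun x y => mul_pow x y 2
      map_add' := fun x y => by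
        show (x + y) ^ 2 = x ^ 2 + y ^ 2
        linear_combination (x * y) * h2 }
  have hσ : ∀ x, σ x = x ^ 2 := fun _ => rfl
  refine ⟨σ, ?_, ?_, ?_, ?_, ?_, ?_⟩
  · intro h
    obtain ⟨x, hx⟩ := hw
    exact hx (DFunLike.congr_fun h x)
  · intro a
    rw [hσ, hσ, ← pow_mul]
    exact hc a
  · intro x y v
    simp only [Hf, Fin.sum_univ_three, Pi.add_apply]
    ring
  · intro c x v
    simp only [Hf, Fin.sum_univ_three, Pi.smul_apply, smul_eq_mul]
    ring
  · intro v w
    rw [hσ]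
    simp only [Hf, Fin.sum_univ_three]
    have e : ∀ a : F, a ^ 2 ^ 2 = a := hc
    have e0 := hc (v 0)
    have e1 := hc (v 1)
    have e2 := hc (v 2)
    linear_combination (-(w 0 * v 0 ^ 2 * (w 1 * v 1 ^ 2)) - (w 0 * v 0 ^ 2 * (w 2 * v 2 ^ 2)) -
      (w 1 * v 1 ^ 2 * (w 2 * v 2 ^ 2))) * h2 - (w 0 ^ 2) * e0 - (w 1 ^ 2) * e1 - (w 2 ^ 2) * e2
  · have key : ∀ v : Fin 3 → F, v ≠ 0 → ∃ i, v i ≠ 0 := by
      intro v hv
      by_contra hcon
      push Not at hcon
      exact hv (funext hcon)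
    intro v hv
    obtain ⟨i, hi⟩ := key v hv
    constructor
    · refine ⟨Pi.single i 1, ?_⟩
      simp only [Hf, Pi.single_apply]
      simp [hi]
    · refine ⟨Pi.single i 1, ?_⟩
      simp only [Hf, Pi.single_apply]
      simp [hi]

theorem trace_of_mem (hc : ∀ x : F, x ^ 4 = x) (h2 : (2 : F) = 0) {x : SL3 F} (hx : toGL x ∈ similarityGroup (Hf F)) :
    (x : Matrix (Fin 3) (Fin 3) F).trace ^ 2 = ((x⁻¹ : SL3 F) : Matrix (Fin 3) (Fin 3) F).trace := by
  obtain ⟨c, hcx⟩ := hx
  have hcx' : ∀ u v, Hf F ((x : Matrix (Fin 3) (Fin 3) F) *ᵥ u) ((x : Matrix (Fin 3) (Fin 3) F) *ᵥ v) = (c : F) * Hf F u v := hcx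
  set A : Matrix (Fin 3) (Fin 3) F := (x : Matrix (Fin 3) (Fin 3) F) with hA
  have hA1 : ∀ i j : Fin 3, (∑ k, A k i * A k j ^ 2) = (c : F) * (if i = j then 1 else 0) := by
    intro i j
    have h1 := hcx' (Pi.single i 1) (Pi.single j 1)
    rw [Matrix.mulVec_single_one, Matrix.mulVec_single_one] at h1
    simp only [Hf, Matrix.col_apply] at h1
    rw [h1]
    congr 1
    rw [Finset.sum_eq_single i]
    · rw [Pi.single_eq_same, one_mul, Pi.single_apply]
      split_ifs <;> simp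
    · intro k _ hk
      rw [Pi.single_eq_of_ne hk, zero_mul]
    · intro h
      exact absurd (Finset.mem_univ i) h
  have hc1 : (c : F) = 1 := by
    have h1 := hA1 0 0
    rw [if_pos rfl, mul_one, Fin.sum_univ_three] at h1
    have h3 : (c : F) ^ 2 = c := by
      rw [← h1]
      have e0 := hc (A 0 0)
      have e1 := hc (A 1 0)
      have e2 := hc (A 2 0)
      linear_combination ((A 0 0) ^ 3 * (A 1 0) ^ 3 + (A 0 0) ^ 3 * (A 2 0) ^ 3 + (A 1 0) ^ 3 * (A 2 0) ^ 3) * h2 +
        (A 0 0) ^ 2 * e0 + (A 1 0) ^ 2 * e1 + (A 2 0) ^ 2 * e2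
    have h4 : (c : F) * ((c : F) - 1) = 0 := by linear_combination h3
    exact sub_eq_zero.1 ((mul_eq_zero.1 h4).resolve_left c.ne_zero)
  -- `Aᵀ A^(2) = 1`
  have hB : Aᵀ * (A.map fun a => a ^ 2) = 1 := by
    ext i j
    rw [Matrix.mul_apply, Matrix.one_apply]
    simp only [Matrix.transpose_apply, Matrix.map_apply]
    rw [hA1 i j, hc1, one_mul]
  have hAi : (x⁻¹ : SL3 F).1 * A = 1 := by
    have := congrArg Subtype.val (inv_mul_cancel x)
    rw [Matrix.SpecialLinearGroup.coe_mul] at this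
    exact this
  have hAi' : Aᵀ * ((x⁻¹ : SL3 F).1)ᵀ = 1 := by
    rw [← Matrix.transpose_mul, hAi, Matrix.transpose_one]
  have h5 : (A.map fun a => a ^ 2) = ((x⁻¹ : SL3 F).1)ᵀ := by
    have h6 := _root_.mul_eq_one_comm.1 hAi'
    calc (A.map fun a => a ^ 2) = (((x⁻¹ : SL3 F).1)ᵀ * Aᵀ) * (A.map fun a => a ^ 2) := by rw [h6, one_mul]
      _ = _ := by rw [mul_assoc, hB, mul_one]
  have h7 := congrArg Matrix.trace h5
  rw [Matrix.trace_transpose] at h7
  rw [← h7]
  simp only [Matrix.trace, Matrix.diag_apply, Matrix.map_apply, Fin.sum_univ_three]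
  linear_combination (A 0 0 * A 1 1 + A 0 0 * A 2 2 + A 1 1 * A 2 2) * h2

theorem trace_conj (g x : SL3 F) :
    ((g * x * g⁻¹ : SL3 F) : Matrix (Fin 3) (Fin 3) F).trace = (x : Matrix (Fin 3) (Fin 3) F).trace := by
  have hg : ((g⁻¹ : SL3 F) : Matrix (Fin 3) (Fin 3) F) * (g : Matrix (Fin 3) (Fin 3) F) = 1 := by
    have := congrArg Subtype.val (inv_mul_cancel g)
    rw [Matrix.SpecialLinearGroup.coe_mul] at this
    exact this
  rw [Matrix.SpecialLinearGroup.coe_mul, Matrix.SpecialLinearGroup.coe_mul, Matrix.trace_mul_comm, ← mul_assoc, hg,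
    one_mul]

theorem free_unit (hc : ∀ x : F, x ^ 4 = x) (h2 : (2 : F) = 0) {E : Subgroup (SL3 F)} {x : SL3 F} (hx : x ∈ E)
    (ht : (x : Matrix (Fin 3) (Fin 3) F).trace ^ 2 ≠ ((x⁻¹ : SL3 F) : Matrix (Fin 3) (Fin 3) F).trace) :
    Free E (similarityGroup (Hf F)) := by
  intro g
  refine ⟨x, hx, fun h => ht ?_⟩
  have h1 := trace_of_mem hc h2 h
  rw [trace_conj] at h1
  rw [h1]
  have : (g * x * g⁻¹)⁻¹ = g * x⁻¹ * g⁻¹ := by group
  rw [this, trace_conj]

def x1E (w : F) : SL3 F := ⟨!![1, 0, 0; 0, 0, -1; 0, 1, w], by simp [Matrix.det_fin_three]⟩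
def x2E (w : F) : SL3 F := ⟨!![0, -1, 0; 1, w, 0; 0, 0, 1], by simp [Matrix.det_fin_three]⟩

/-- of order seven; conjugate of a matrix over the prime field -/
def cE (w : F) (hw : w ≠ 0) : SL3 F := ⟨!![0, 0, w; w⁻¹, 0, -1; 0, 1, 0], by simp [Matrix.det_fin_three, hw]⟩

theorem x1E_mem (w : F) : x1E w ∈ sub (subspaceStabilizer (W1 F)) := by
  apply mem_stab
  intro v hv
  rw [mem_W1] at hv ⊢
  simp [x1E, Matrix.mulVec, dotProduct, Fin.sum_univ_three, hv.1, hv.2]

theorem x2E_mem (w : F) : x2E w ∈ sub (subspaceStabilizer (W2 F)) := by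
  apply mem_stab
  intro v hv
  rw [mem_W2] at hv ⊢
  simp [x2E, Matrix.mulVec, dotProduct, Fin.sum_univ_three, hv]

theorem trace_inv (x : SL3 F) : ((x⁻¹ : SL3 F) : Matrix (Fin 3) (Fin 3) F).trace =
    (x 0 0 * x 1 1 - x 0 1 * x 1 0) + (x 0 0 * x 2 2 - x 0 2 * x 2 0) + (x 1 1 * x 2 2 - x 1 2 * x 2 1) := by
  rw [Matrix.SpecialLinearGroup.coe_inv, Matrix.trace_fin_three, Matrix.adjugate_fin_three]
  simp only [_root_.Fin.isValue, _root_.Matrix.of_apply, _root_.Matrix.cons_val', _root_.Matrix.cons_val_zero, _root_.Matrix.cons_val_fin_one, _root_.Matrix.cons_val_one, _root_.Matrix.cons_val]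
  ring

end Cfsg.Agent.H896.L3
end

-- part: H896/L3FourB
section
/-!
# `PSL₃(4)` for S5906, S5907 (task 625, helper896): two classes of `PSL₃(2)`, assembly
-/

set_option autoImplicit false
set_option linter.unusedSectionVars false

namespace Cfsg.Agent.H896.L3

open Matrix Cfsg Cfsg.Geo
open Matrix.SpecialLinearGroup (toGL)
open Cfsg.Agent.H940.MaxCls

variable {F : Type*} [Field F]

/-- conjugation by an element of `GL₃` -/
def cj (P : GL (Fin 3) F) (x : SL3 F) : SL3 F :=
  ⟨(P : Matrix (Fin 3) (Fin 3) F) * x * ((P⁻¹ : GL (Fin 3) F) : Matrix (Fin 3) (Fin 3) F), by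
    rw [Matrix.det_mul, Matrix.det_mul, x.2, mul_one, ← Matrix.det_mul, ← Units.val_mul, mul_inv_cancel, Units.val_one,
      Matrix.det_one]⟩

theorem toGL_cj (P : GL (Fin 3) F) (x : SL3 F) : toGL (cj P x) = P * toGL x * P⁻¹ := Units.ext rfl

theorem mem_subfield_one {F₀ : Subfield F} {g : GL (Fin 3) F} : g ∈ subfieldSubgroup F₀ 1 ↔
    g ∈ (Matrix.GeneralLinearGroup.map (F₀.subtype : F₀ →+* F)).range ⊔ scalars (Fin 3) F := by
  rw [subfieldSubgroup, Subgroup.mem_map]
  constructor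
  · rintro ⟨y, hy, rfl⟩
    simpa only [_root_.map_one, _root_.MulEquiv.toMonoidHom_eq_coe, _root_.MonoidHom.coe_coe, _root_.MulAut.one_apply] using hy
  · intro h
    exact ⟨g, h, by simp⟩

theorem mem_subfield_conj {F₀ : Subfield F} {P g : GL (Fin 3) F} : P * g * P⁻¹ ∈ subfieldSubgroup F₀ P ↔
    g ∈ subfieldSubgroup F₀ 1 := by
  rw [mem_subfield_one, subfieldSubgroup, Subgroup.mem_map]
  constructor
  · rintro ⟨y, hy, h⟩
    have : y = g := by
      have h1 : P * y * P⁻¹ = P * g * P⁻¹ := h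
      exact mul_left_cancel (mul_right_cancel h1)
    rwa [← this]
  · intro h
    exact ⟨g, h, rfl⟩

theorem cj_mem {F₀ : Subfield F} {P : GL (Fin 3) F} {x : SL3 F} (hx : x ∈ sub (subfieldSubgroup F₀ 1)) :
    cj P x ∈ sub (subfieldSubgroup F₀ P) := by
  rw [mem_sub, toGL_cj]
  exact mem_subfield_conj.2 hx

theorem map_mem_subfield {F₀ : Subfield F} (y : SL3 F₀) :
    Matrix.SpecialLinearGroup.map F₀.subtype y ∈ sub (subfieldSubgroup F₀ 1) := by
  rw [mem_sub, mem_subfield_one]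
  apply Subgroup.mem_sup_left
  exact ⟨toGL y, Units.ext rfl⟩

theorem irr_conj {F₀ : Subfield F} (P : GL (Fin 3) F) {W : Submodule F (Fin 3 → F)}
    (hS : Stable (sub (subfieldSubgroup F₀ P)) W) : W = ⊥ ∨ W = ⊤ := by
  have hPi : (P : Matrix (Fin 3) (Fin 3) F) * ((P⁻¹ : GL (Fin 3) F) : Matrix (Fin 3) (Fin 3) F) = 1 := by
    rw [← Units.val_mul, mul_inv_cancel, Units.val_one]
  have hPi' : ((P⁻¹ : GL (Fin 3) F) : Matrix (Fin 3) (Fin 3) F) * (P : Matrix (Fin 3) (Fin 3) F) = 1 := by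
    rw [← Units.val_mul, inv_mul_cancel, Units.val_one]
  let W' : Submodule F (Fin 3 → F) := W.comap (Matrix.toLin' (P : Matrix (Fin 3) (Fin 3) F))
  have hmem : ∀ w, w ∈ W' ↔ (P : Matrix (Fin 3) (Fin 3) F) *ᵥ w ∈ W := fun w => Iff.rfl
  have h1 : Stable (sub (subfieldSubgroup F₀ 1)) W' := by
    intro x hx w hw
    rw [hmem] at hw ⊢
    have h2 := hS _ (cj_mem (P := P) hx) _ hw
    have h3 : ((cj P x : SL3 F) : Matrix (Fin 3) (Fin 3) F) *ᵥ ((P : Matrix (Fin 3) (Fin 3) F) *ᵥ w) =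
        (P : Matrix (Fin 3) (Fin 3) F) *ᵥ ((x : Matrix (Fin 3) (Fin 3) F) *ᵥ w) := by
      rw [Matrix.mulVec_mulVec, Matrix.mulVec_mulVec]
      (with_reducible congr 1)
      show (P : Matrix (Fin 3) (Fin 3) F) * x * ((P⁻¹ : GL (Fin 3) F) : Matrix (Fin 3) (Fin 3) F) * P = _
      rw [mul_assoc, hPi', mul_one]
    rwa [h3] at h2
  have hback : ∀ w, w ∈ W ↔ ((P⁻¹ : GL (Fin 3) F) : Matrix (Fin 3) (Fin 3) F) *ᵥ w ∈ W' := by
    intro w
    rw [hmem, Matrix.mulVec_mulVec, hPi, Matrix.one_mulVec]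
  rcases irr_of_tv (fun i j h => tv_mem_subfield F₀ h) h1 with h | h
  · left
    rw [eq_bot_iff]
    intro w hw
    have h2 := (hback w).1 hw
    rw [h, Submodule.mem_bot] at h2
    rw [Submodule.mem_bot, ← Matrix.one_mulVec w, ← hPi, ← Matrix.mulVec_mulVec, h2, Matrix.mulVec_zero]
  · right
    rw [eq_top_iff]
    intro w _
    rw [hback, h]
    exact Submodule.mem_top

/-- `diag(w, 1, 1)` -/
def dG (w : F) (hw : w ≠ 0) : GL (Fin 3) F where
  val := !![w, 0, 0; 0, 1, 0; 0, 0, 1]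
  inv := !![w⁻¹, 0, 0; 0, 1, 0; 0, 0, 1]
  val_inv := by
    ext i j
    (revert i j; simp only [Matrix.mul_apply, Fin.sum_univ_three, hw, _root_.Fin.forall_fin_succ, _root_.Matrix.of_apply, _root_.Matrix.cons_val', _root_.Matrix.cons_val_fin_one, Fin.isValue, _root_.Matrix.cons_val_zero, _root_.Matrix.cons_val_one, _root_.Matrix.cons_val, _root_.MulZeroClass.mul_zero, _root_.add_zero, _root_.Matrix.cons_val_succ, _root_.mul_one, _root_.zero_add, _root_.IsEmpty.forall_iff, _root_.and_true, _root_.ne_eq, _root_.not_false_eq_true, _root_.mul_inv_cancel₀, _root_.Matrix.one_apply_eq, Nat.reduceAdd, _root_.Fin.succ_zero_eq_one, _root_.zero_ne_one, _root_.Matrix.one_apply_ne, _root_.Fin.succ_one_eq_two, Fin.reduceEq, _root_.and_self, _root_.Fin.succ_ne_zero, _root_.mul_eq_zero, _root_.inv_eq_zero, _root_.or_false, _root_.true_and])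
  inv_val := by
    ext i j
    (revert i j; simp only [Matrix.mul_apply, Fin.sum_univ_three, hw, _root_.Fin.forall_fin_succ, _root_.Matrix.of_apply, _root_.Matrix.cons_val', _root_.Matrix.cons_val_fin_one, Fin.isValue, _root_.Matrix.cons_val_zero, _root_.Matrix.cons_val_one, _root_.Matrix.cons_val, _root_.MulZeroClass.mul_zero, _root_.add_zero, _root_.Matrix.cons_val_succ, _root_.mul_one, _root_.zero_add, _root_.IsEmpty.forall_iff, _root_.and_true, _root_.ne_eq, _root_.not_false_eq_true, _root_.inv_mul_cancel₀, _root_.Matrix.one_apply_eq, Nat.reduceAdd, _root_.Fin.succ_zero_eq_one, _root_.zero_ne_one, _root_.Matrix.one_apply_ne, _root_.Fin.succ_one_eq_two, Fin.reduceEq, _root_.and_self, _root_.Fin.succ_ne_zero, _root_.mul_eq_zero, _root_.or_false, _root_.true_and])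

theorem cE_eq (w : F) (hw : w ≠ 0) : cE w hw = cj (dG w hw) (cE 1 one_ne_zero) := by
  apply Subtype.ext
  show _ = (!![w, 0, 0; 0, 1, 0; 0, 0, 1] : Matrix (Fin 3) (Fin 3) F) * _ * !![w⁻¹, 0, 0; 0, 1, 0; 0, 0, 1]
  ext i j
  (revert i j; simp only [cE, Matrix.mul_apply, Fin.sum_univ_three, _root_.Fin.forall_fin_succ, _root_.Matrix.of_apply, _root_.Matrix.cons_val', _root_.Matrix.cons_val_fin_one, _root_.inv_one, _root_.Matrix.cons_mul, _root_.Nat.succ_eq_add_one, Nat.reduceAdd, _root_.Matrix.vecMul_cons, _root_.Matrix.head_cons, _root_.Matrix.smul_cons, _root_.smul_eq_mul, _root_.MulZeroClass.mul_zero, _root_.mul_one, _root_.Matrix.smul_empty, _root_.Matrix.tail_cons, _root_.zero_smul, _root_.Matrix.empty_vecMul, _root_.add_zero, _root_.one_smul, _root_.zero_add, _root_.Matrix.empty_mul, _root_.Equiv.symm_apply_apply, Fin.isValue, _root_.Matrix.cons_val_zero, _root_.Matrix.cons_val_one, _root_.Matrix.cons_val, _root_.Matrix.cons_val_succ, _root_.implies_true,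 _root_.and_self, _root_.and_true, _root_.MulZeroClass.zero_mul, _root_.one_mul])

theorem cE_one_mem (F₀ : Subfield F) : cE (1 : F) one_ne_zero ∈ sub (subfieldSubgroup F₀ 1) := by
  have : cE (1 : F) one_ne_zero = Matrix.SpecialLinearGroup.map F₀.subtype (cE (1 : F₀) one_ne_zero) := by
    apply Subtype.ext
    show _ = (cE (1 : F₀) one_ne_zero : Matrix (Fin 3) (Fin 3) F₀).map F₀.subtype
    ext i j
    (revert i j; simp only [cE, _root_.Fin.forall_fin_succ, _root_.inv_one, _root_.Matrix.of_apply, _root_.Matrix.cons_val', _root_.Matrix.cons_val_fin_one, _root_.Subfield.coe_subtype, _root_.Matrix.map_apply, Fin.isValue, _root_.Matrix.cons_val_zero, _root_.Matrix.cons_val_succ, _root_.forall_const, _root_.ZeroMemClass.coe_zero, _root_.OneMemClass.coe_one, _root_.and_self, _root_.NegMemClass.coe_neg, _root_.implies_true])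
  rw [this]
  exact map_mem_subfield _

/-! ### the normaliser of `SL₃(2)` in `GL₃(4)` -/

theorem det_of_norm (hc : ∀ x : F, x ^ 4 = x) (h2 : (2 : F) = 0) {F₀ : Subfield F} (h0 : ∀ x ∈ F₀, x ^ 2 = x)
    {h : GL (Fin 3) F}
    (hn : ∀ (i j : Fin 3) (hij : i ≠ j),
      h * toGL (Matrix.SpecialLinearGroup.transvection hij 1 : SL3 F) * h⁻¹ ∈ subfieldSubgroup F₀ 1) :
    (h : Matrix (Fin 3) (Fin 3) F).det ^ 2 = (h : Matrix (Fin 3) (Fin 3) F).det := by
  let σ : F →+* F :=
    { toFun := fun x => x ^ 2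
      map_one' := one_pow 2
      map_mul' := fun x y => mul_pow x y 2
      map_zero' := by simp
      map_add' := fun x y => by
        show (x + y) ^ 2 = x ^ 2 + y ^ 2
        linear_combination (x * y) * h2 }
  have hσ : ∀ x, σ x = x ^ 2 := fun _ => rfl
  let h' : GL (Fin 3) F := Matrix.GeneralLinearGroup.map σ h
  -- the conjugates have entries in the prime field
  have key : ∀ (i j : Fin 3) (hij : i ≠ j),
      Matrix.GeneralLinearGroup.map σ (h * toGL (Matrix.SpecialLinearGroup.transvection hij 1 : SL3 F) * h⁻¹) =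
        h * toGL (Matrix.SpecialLinearGroup.transvection hij 1 : SL3 F) * h⁻¹ := by
    intro i j hij
    set! t : GL (Fin 3) F := toGL (Matrix.SpecialLinearGroup.transvection hij 1 : SL3 F) with ht; rewrite [← ht]
    have ht2 : t * t = 1 := by
      rw [ht, ← map_mul, ← Matrix.SpecialLinearGroup.transvection_add]
      rw [one_add_one_eq_two, h2, Matrix.SpecialLinearGroup.transvection_coeff_zero, map_one]
    have hx := hn i j hij
    rw [mem_subfield_one] at hx
    obtain ⟨y, ⟨y0, rfl⟩, z, hz, hyz⟩ := Subgroup.mem_sup_of_normal_right.1 hx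
    rw [mem_scalars_iff] at hz
    obtain ⟨c, hc'⟩ := hz
    have hx2 : (h * t * h⁻¹) * (h * t * h⁻¹) = 1 := by
      have : (h * t * h⁻¹) * (h * t * h⁻¹) = h * (t * t) * h⁻¹ := by group
      rw [this, ht2]
      group
    -- `y² c² = 1`
    have hyval : ∀ a b : Fin 3, ((Matrix.GeneralLinearGroup.map (F₀.subtype : F₀ →+* F) y0 : GL (Fin 3) F) :
        Matrix (Fin 3) (Fin 3) F) a b ∈ F₀ := fun a b => ((y0 : Matrix (Fin 3) (Fin 3) F₀) a b).2
    set Y : Matrix (Fin 3) (Fin 3) F := ((Matrix.GeneralLinearGroup.map (F₀.subtype : F₀ →+* F) y0 : GL (Fin 3) F) :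
        Matrix (Fin 3) (Fin 3) F) with hY
    have hval : ((h * t * h⁻¹ : GL (Fin 3) F) : Matrix (Fin 3) (Fin 3) F) = (c : F) • Y := by
      rw [← hyz, Units.val_mul, hc', Matrix.mul_smul, mul_one]
    have hsq : ((c : F) ^ 2) • (Y * Y) = 1 := by
      have h3 := congrArg (fun g : GL (Fin 3) F => (g : Matrix (Fin 3) (Fin 3) F)) hx2
      simp only [Units.val_mul (h * t * h⁻¹), hval, Units.val_one] at h3
      rw [Matrix.smul_mul, Matrix.mul_smul, smul_smul] at h3
      rw [pow_two]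
      exact h3
    have hc2 : (c : F) ^ 2 = 1 := by
      have h4 := congrFun (congrFun hsq 0) 0
      rw [Matrix.smul_apply, smul_eq_mul, Matrix.one_apply_eq] at h4
      have h5 : (Y * Y) 0 0 ∈ F₀ := by
        rw [Matrix.mul_apply]
        exact F₀.sum_mem fun k _ => F₀.mul_mem (hyval _ _) (hyval _ _)
      have h6 := h0 _ h5
      have h7 : (Y * Y) 0 0 ≠ 0 := by
        intro h
        rw [h, mul_zero] at h4
        exact zero_ne_one h4
      have h8 : (Y * Y) 0 0 = 1 := by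
        have h9 : (Y * Y) 0 0 * ((Y * Y) 0 0 - 1) = 0 := by linear_combination h6
        exact sub_eq_zero.1 ((mul_eq_zero.1 h9).resolve_left h7)
      rw [h8, mul_one] at h4
      exact h4
    have hc1 : (c : F) = 1 := by
      have h9 : ((c : F) - 1) ^ 2 = 0 := by linear_combination hc2 - ((c : F) - 1) * h2
      exact sub_eq_zero.1 (pow_eq_zero_iff (by norm_num) |>.1 h9)
    apply Units.ext
    show ((h * t * h⁻¹ : GL (Fin 3) F) : Matrix (Fin 3) (Fin 3) F).map σ = _
    rw [hval, hc1, one_smul]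
    ext a b
    rw [Matrix.map_apply, hσ]
    exact h0 _ (hyval a b)
  -- so `h⁻¹ h'` is a scalar
  have hcomm : ∀ (i j : Fin 3), i ≠ j → Matrix.single i j (1 : F) * ((h⁻¹ * h' : GL (Fin 3) F) : Matrix (Fin 3) (Fin 3) F) =
      ((h⁻¹ * h' : GL (Fin 3) F) : Matrix (Fin 3) (Fin 3) F) * Matrix.single i j (1 : F) := by
    intro i j hij
    have h3 := key i j hij
    set! t : GL (Fin 3) F := toGL (Matrix.SpecialLinearGroup.transvection hij 1 : SL3 F) with ht; rewrite [← ht] at h3
    have ht' : Matrix.GeneralLinearGroup.map σ t = t := by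
      apply Units.ext
      ext a b
      show σ ((1 + Matrix.single i j (1 : F)) a b) = (1 + Matrix.single i j (1 : F)) a b
      rw [hσ, Matrix.add_apply, Matrix.one_apply, Matrix.single_apply]
      split_ifs
      · linear_combination h2
      · ring
      · ring
      · ring
    rw [map_mul, map_mul, map_inv, ht'] at h3
    have h4 : t * (h⁻¹ * h') = (h⁻¹ * h') * t := by
      have h5 : h' * t * h'⁻¹ = h * t * h⁻¹ := h3
      calc t * (h⁻¹ * h') = h⁻¹ * (h * t * h⁻¹) * h' := by group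
        _ = h⁻¹ * (h' * t * h'⁻¹) * h' := by rw [h5]
        _ = (h⁻¹ * h') * t := by group
    have h5 := congrArg (fun g : GL (Fin 3) F => (g : Matrix (Fin 3) (Fin 3) F)) h4
    simp only [Units.val_mul t, Units.val_mul _ t] at h5
    have h6 : (t : Matrix (Fin 3) (Fin 3) F) = 1 + Matrix.single i j (1 : F) := rfl
    rw [h6, add_mul, mul_add, one_mul, mul_one] at h5
    exact add_left_cancel h5
  obtain ⟨μ, hμ⟩ := Cfsg.Agent.H905.exists_scalar_of_commute hcomm
  have hh' : (h' : Matrix (Fin 3) (Fin 3) F) = μ • (h : Matrix (Fin 3) (Fin 3) F) := by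
    have h3 : h' = h * (h⁻¹ * h') := by group
    rw [h3, Units.val_mul, hμ, Matrix.mul_smul, mul_one]
  have hdet : (h' : Matrix (Fin 3) (Fin 3) F).det = (h : Matrix (Fin 3) (Fin 3) F).det ^ 2 := by
    show ((h : Matrix (Fin 3) (Fin 3) F).map σ).det = _
    have h7 := RingHom.map_det σ (h : Matrix (Fin 3) (Fin 3) F)
    rw [hσ] at h7
    exact h7.symm
  have hd0 : (h : Matrix (Fin 3) (Fin 3) F).det ≠ 0 := (Matrix.isUnits_det_units h).ne_zero
  have hμ0 : μ ≠ 0 := by
    rintro rfl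
    rw [hh', zero_smul, Matrix.det_zero] at hdet
    exact pow_ne_zero 2 hd0 hdet.symm
  have hμ3 : μ ^ 3 = 1 := by
    have h8 := hc μ
    have h9 : μ * (μ ^ 3 - 1) = 0 := by linear_combination h8
    exact sub_eq_zero.1 ((mul_eq_zero.1 h9).resolve_left hμ0)
  rw [← hdet, hh', Matrix.det_smul, Fintype.card_fin, hμ3, one_mul]

theorem two_eq_zero_of_four [Fintype F] (h4 : Fintype.card F = 4) : (2 : F) = 0 := by
  have h1 := FiniteField.cast_card_eq_zero F
  rw [h4] at h1
  have h3 : (2 : F) * 2 = 0 := by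
    push_cast at h1
    linear_combination h1
  rcases mul_eq_zero.1 h3 with h | h <;> exact h

theorem exists_sq_ne [Fintype F] (h3 : 3 ≤ Fintype.card F) : ∃ x : F, x ^ 2 ≠ x := by
  classical
  by_contra hcon
  push Not at hcon
  have h1 : (Finset.univ : Finset F) ⊆ {0, 1} := by
    intro x _
    have h3 : x * (x - 1) = 0 := by linear_combination hcon x
    rcases mul_eq_zero.1 h3 with h | h
    · simp only [h, _root_.Finset.mem_insert, _root_.Finset.mem_singleton, _root_.zero_ne_one, _root_.or_false]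
    · simp only [sub_eq_zero.1 h, _root_.Finset.mem_insert, _root_.one_ne_zero, _root_.Finset.mem_singleton, _root_.or_true]
  have h4 := Finset.card_le_card h1
  rw [Finset.card_univ] at h4
  have h6 := Finset.card_le_two (a := (0 : F)) (b := 1)
  omega

theorem x1E_trace (h2 : (2 : F) = 0) {w : F} (hw : w ^ 2 ≠ w) :
    (x1E w : Matrix (Fin 3) (Fin 3) F).trace ^ 2 ≠ (((x1E w)⁻¹ : SL3 F) : Matrix (Fin 3) (Fin 3) F).trace := by
  rw [trace_inv, Matrix.trace_fin_three]
  simp only [x1E]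
  simp
  intro h
  apply hw
  linear_combination h - w * h2

theorem x2E_trace (h2 : (2 : F) = 0) {w : F} (hw : w ^ 2 ≠ w) :
    (x2E w : Matrix (Fin 3) (Fin 3) F).trace ^ 2 ≠ (((x2E w)⁻¹ : SL3 F) : Matrix (Fin 3) (Fin 3) F).trace := by
  rw [trace_inv, Matrix.trace_fin_three]
  simp only [x2E]
  simp
  intro h
  apply hw
  linear_combination h - w * h2

theorem cE_trace {w : F} (hw : w ≠ 0) :
    (cE w hw : Matrix (Fin 3) (Fin 3) F).trace ^ 2 ≠ (((cE w hw)⁻¹ : SL3 F) : Matrix (Fin 3) (Fin 3) F).trace := by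
  rw [trace_inv, Matrix.trace_fin_three]
  simp only [cE, _root_.Fin.isValue, _root_.Matrix.of_apply, _root_.Matrix.cons_val', _root_.Matrix.cons_val_zero, _root_.Matrix.cons_val_fin_one, _root_.Matrix.cons_val_one, _root_.add_zero, _root_.Matrix.cons_val, _root_.ne_eq, _root_.OfNat.ofNat_ne_zero, _root_.not_false_eq_true, _root_.zero_pow, _root_.MulZeroClass.mul_zero, _root_.MulZeroClass.zero_mul, _root_.sub_self, _root_.mul_one, _root_.sub_neg_eq_add, _root_.zero_add, _root_.zero_ne_one]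

theorem sep_four [Fintype F] (hyp : Hyp74 F) (h4 : Fintype.card F = 4) : Sep 5 (SL3 F) := by
  have hc : ∀ x : F, x ^ 4 = x := by
    intro x
    rw [← h4]
    exact FiniteField.pow_card x
  have h2 := two_eq_zero_of_four h4
  have hw := exists_sq_ne (F := F) (by omega)
  have hp : Fact (Nat.Prime 2) := ⟨Nat.prime_two⟩
  have hch : CharP F 2 := CharTwo.of_one_ne_zero_of_two_eq_zero one_ne_zero h2
  obtain ⟨F₀, r, hr, hcard⟩ := exists_prime_index (F := F) (p := 2) hw
  have hF₀ : Nat.card F₀ = 2 := by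
    have h5 : 2 ≤ Nat.card F₀ := Finite.one_lt_card
    by_contra hne
    have h6 : 3 ≤ Nat.card F₀ := by omega
    have h7 : 3 ^ 2 ≤ Nat.card F₀ ^ r :=
      (Nat.pow_le_pow_left h6 2).trans (Nat.pow_le_pow_right (by omega) hr.two_le)
    omega
  have h0 : ∀ x ∈ F₀, x ^ 2 = x := by
    intro x hx
    have : Fintype F₀ := Fintype.ofFinite F₀
    have h5 := FiniteField.pow_card (⟨x, hx⟩ : F₀)
    rw [← Nat.card_eq_fintype_card, hF₀] at h5
    exact congrArg Subtype.val h5
  obtain ⟨σ, hσ⟩ := Hf_unitary hc h2 hw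
  obtain ⟨w, hw⟩ := hw
  have hw0 : w ≠ 0 := by
    rintro rfl
    exact hw (by ring)
  have cP1 := coatom_of_max (hyp.1 (W1 F) W1_ne_bot W1_ne_top)
  have cP2 := coatom_of_max (hyp.1 (W2 F) W2_ne_bot W2_ne_top)
  have cU := coatom_of_max (hyp.2.2.2.2.2.2 σ (Hf F) hσ)
  have cX := coatom_of_max (hyp.2.2.2.1 F₀ r 1 hr hcard)
  have cY := coatom_of_max (hyp.2.2.2.1 F₀ r (dG w hw0) hr hcard)
  have hXY : ∀ g : SL3 F, Subgroup.map (MulAut.conj g).toMonoidHom (sub (subfieldSubgroup F₀ 1)) ≠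
      sub (subfieldSubgroup F₀ (dG w hw0)) := by
    intro g he
    have h5 : ∀ (i j : Fin 3) (hij : i ≠ j),
        ((dG w hw0)⁻¹ * toGL g) * toGL (Matrix.SpecialLinearGroup.transvection hij 1 : SL3 F) *
          ((dG w hw0)⁻¹ * toGL g)⁻¹ ∈ subfieldSubgroup F₀ 1 := by
      intro i j hij
      rw [← mem_subfield_conj (P := dG w hw0)]
      have h6 : g * (Matrix.SpecialLinearGroup.transvection hij 1 : SL3 F) * g⁻¹ ∈ sub (subfieldSubgroup F₀ (dG w hw0)) := by
        rw [← he, mem_map_conj]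
        have : g⁻¹ * (g * (Matrix.SpecialLinearGroup.transvection hij 1 : SL3 F) * g⁻¹) * g =
          Matrix.SpecialLinearGroup.transvection hij 1 := by group
        rw [this]
        exact tv_mem_subfield F₀ hij
      rw [mem_sub, map_mul, map_mul, map_inv] at h6
      convert h6 using 1
      group
    have h6 := det_of_norm hc h2 h0 h5
    have h7 : (((dG w hw0)⁻¹ * toGL g : GL (Fin 3) F) : Matrix (Fin 3) (Fin 3) F).det = w⁻¹ := by
      rw [Units.val_mul, Matrix.det_mul]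
      have h8 : ((toGL g : GL (Fin 3) F) : Matrix (Fin 3) (Fin 3) F).det = 1 := g.2
      rw [h8, mul_one]
      show (!![w⁻¹, 0, 0; 0, 1, 0; 0, 0, 1] : Matrix (Fin 3) (Fin 3) F).det = _
      simp [Matrix.det_fin_three]
    rw [h7] at h6
    apply hw
    have h9 : w * w⁻¹ = 1 := mul_inv_cancel₀ hw0
    calc w ^ 2 = w ^ 2 * (w * w⁻¹) := by rw [h9, mul_one]
      _ = w ^ 3 * w⁻¹ := by ring
      _ = w ^ 3 * w⁻¹ ^ 2 := by rw [h6]
      _ = w * (w * w⁻¹) ^ 2 := by ring
      _ = w := by rw [h9]; ring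
  have irr : ∀ P : GL (Fin 3) F, ∀ W : Submodule F (Fin 3 → F), Stable (sub (subfieldSubgroup F₀ P)) W →
    W = ⊥ ∨ W = ⊤ := fun P W h => irr_conj P h
  refine sep_five cP1.1 cP2.1 cU.1 cX.1 cY.1 ?_ ?_ ?_ ?_ ?_ ?_ ?_ ?_ ?_ ?_
  · exact apart_of_ne cP1 cP2 free_W2_W1.ne
  · exact apart_of_ne cP1 cU (free_unit hc h2 (x1E_mem w) (x1E_trace h2 hw)).ne'
  · exact apart_of_ne cP1 cX (free_of_irr (irr _) W1_ne_bot W1_ne_top).ne
  · exact apart_of_ne cP1 cY (free_of_irr (irr _) W1_ne_bot W1_ne_top).ne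
  · exact apart_of_ne cP2 cU (free_unit hc h2 (x2E_mem w) (x2E_trace h2 hw)).ne'
  · exact apart_of_ne cP2 cX (free_of_irr (irr _) W2_ne_bot W2_ne_top).ne
  · exact apart_of_ne cP2 cY (free_of_irr (irr _) W2_ne_bot W2_ne_top).ne
  · exact apart_of_ne cU cX (free_unit hc h2 (cE_one_mem F₀) (cE_trace _)).ne
  · refine apart_of_ne cU cY (free_unit hc h2 (x := cE w hw0) ?_ (cE_trace _)).ne
    rw [cE_eq]
    exact cj_mem (cE_one_mem F₀)
  · exact apart_of_ne cX cY hXY

end Cfsg.Agent.H896.L3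
end

-- part: H896/L3Three
section
/-!
# `PSL₃(3)` for S5906 (task 625, helper896): uniqueness of the classes of maximal subgroups
-/

set_option autoImplicit false
set_option linter.unusedSectionVars false

namespace Cfsg.Agent.H896.L3

open Matrix Cfsg Cfsg.Geo
open Matrix.SpecialLinearGroup (toGL)
open Cfsg.Agent.H940.MaxCls

variable {F : Type*} [Field F]

theorem conj_sub {X X' : Subgroup (GL (Fin 3) F)} {g : SL3 F}
    (h : ∀ x : GL (Fin 3) F, x ∈ X ↔ toGL g * x * (toGL g)⁻¹ ∈ X') :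
    Subgroup.map (MulAut.conj g).toMonoidHom (sub X) = sub X' := by
  ext x
  rw [mem_map_conj, mem_sub, mem_sub, h, map_mul, map_mul, map_inv]
  have : toGL g * ((toGL g)⁻¹ * toGL x * toGL g) * (toGL g)⁻¹ = toGL x := by group
  rw [this]

/-- over the field with three elements conjugacy in `GL₃` is conjugacy in `SL₃` -/
theorem exists_SL [Fintype F] (h3 : Fintype.card F = 3) (g : GL (Fin 3) F) :
    ∃ s : SL3 F, ∀ x : GL (Fin 3) F, toGL s * x * (toGL s)⁻¹ = g * x * g⁻¹ := by
  have hx3 : ∀ x : F, x ^ 3 = x := by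
    intro x
    rw [← h3]
    exact FiniteField.pow_card x
  have hd0 : (g : Matrix (Fin 3) (Fin 3) F).det ≠ 0 := (Matrix.isUnits_det_units g).ne_zero
  have hd : (g : Matrix (Fin 3) (Fin 3) F).det = 1 ∨ (g : Matrix (Fin 3) (Fin 3) F).det = -1 := by
    have h := hx3 (g : Matrix (Fin 3) (Fin 3) F).det
    generalize (g : Matrix (Fin 3) (Fin 3) F).det = d at h hd0 ⊢
    have h4 : d * ((d - 1) * (d + 1)) = 0 := by linear_combination h
    rcases mul_eq_zero.1 ((mul_eq_zero.1 h4).resolve_left hd0) with h5 | h5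
    · exact Or.inl (sub_eq_zero.1 h5)
    · exact Or.inr (eq_neg_of_add_eq_zero_left h5)
  rcases hd with hd | hd
  · refine ⟨⟨(g : Matrix (Fin 3) (Fin 3) F), hd⟩, fun x => ?_⟩
    have : toGL (⟨(g : Matrix (Fin 3) (Fin 3) F), hd⟩ : SL3 F) = g := Units.ext rfl
    rw [this]
  · have hd' : (-(g : Matrix (Fin 3) (Fin 3) F)).det = 1 := by
      rw [Matrix.det_neg, hd, Fintype.card_fin]
      ring
    refine ⟨⟨-(g : Matrix (Fin 3) (Fin 3) F), hd'⟩, fun x => ?_⟩
    have : toGL (⟨-(g : Matrix (Fin 3) (Fin 3) F), hd'⟩ : SL3 F) = -g := Units.ext rfl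
    rw [this, neg_mul, inv_neg, neg_mul_neg]

theorem exists_conj [Fintype F] (h3 : Fintype.card F = 3) {X X' : Subgroup (GL (Fin 3) F)} (g : GL (Fin 3) F)
    (h : ∀ x : GL (Fin 3) F, x ∈ X ↔ g * x * g⁻¹ ∈ X') :
    ∃ s : SL3 F, Subgroup.map (MulAut.conj s).toMonoidHom (sub X) = sub X' := by
  obtain ⟨s, hs⟩ := exists_SL h3 g
  refine ⟨s, conj_sub fun x => ?_⟩
  rw [hs, h]

/-! ### subspaces -/

theorem glOf_inv_mulVec (e : (Fin 3 → F) ≃ₗ[F] (Fin 3 → F)) (v : Fin 3 → F) :
    (((Cfsg.Agent.H905.glOf e)⁻¹ : GL (Fin 3) F) : Matrix (Fin 3) (Fin 3) F) *ᵥ v = e.symm v := by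
  apply e.injective
  rw [LinearEquiv.apply_symm_apply, ← Cfsg.Agent.H905.glOf_mulVec, Matrix.mulVec_mulVec, ← Units.val_mul,
    mul_inv_cancel, Units.val_one, Matrix.one_mulVec]

theorem conj_stab [Fintype F] (h3 : Fintype.card F = 3) {W W' : Submodule F (Fin 3 → F)}
    (h : Module.finrank F W = Module.finrank F W') :
    ∃ s : SL3 F, Subgroup.map (MulAut.conj s).toMonoidHom (sub (subspaceStabilizer W)) = sub (subspaceStabilizer W') := by
  obtain ⟨e, he⟩ := Submodule.exists_linearEquiv_restrict_eq (LinearEquiv.ofFinrankEq W W' h)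
  have he' : ∀ w : W, e w = (LinearEquiv.ofFinrankEq W W' h w : Fin 3 → F) := fun w => (he w).symm
  have hmem : ∀ v, v ∈ W ↔ e v ∈ W' := by
    intro v
    constructor
    · intro hv
      rw [he' ⟨v, hv⟩]
      exact (LinearEquiv.ofFinrankEq W W' h ⟨v, hv⟩).2
    · intro hv
      obtain ⟨w, hw⟩ := (LinearEquiv.ofFinrankEq W W' h).surjective ⟨_, hv⟩
      have h1 : e w = e v := by rw [he' w, hw]
      rw [← e.injective h1]
      exact w.2
  refine exists_conj h3 (Cfsg.Agent.H905.glOf e) fun x => ?_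
  show (∀ v, v ∈ W ↔ (x : Matrix (Fin 3) (Fin 3) F) *ᵥ v ∈ W) ↔
    (∀ v, v ∈ W' ↔ ((Cfsg.Agent.H905.glOf e * x * (Cfsg.Agent.H905.glOf e)⁻¹ : GL (Fin 3) F) :
      Matrix (Fin 3) (Fin 3) F) *ᵥ v ∈ W')
  have key : ∀ v, ((Cfsg.Agent.H905.glOf e * x * (Cfsg.Agent.H905.glOf e)⁻¹ : GL (Fin 3) F) :
      Matrix (Fin 3) (Fin 3) F) *ᵥ v = e ((x : Matrix (Fin 3) (Fin 3) F) *ᵥ (e.symm v)) := by
    intro v
    rw [Units.val_mul, Units.val_mul, ← Matrix.mulVec_mulVec, ← Matrix.mulVec_mulVec, glOf_inv_mulVec,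
      Cfsg.Agent.H905.glOf_mulVec]
  constructor
  · intro hx v
    rw [key, ← hmem, ← hx, hmem, LinearEquiv.apply_symm_apply]
  · intro hx v
    have h1 := hx (e v)
    rw [key, LinearEquiv.symm_apply_apply, ← hmem, ← hmem] at h1
    exact h1

/-! ### cubic fields -/

theorem conj_norm [Fintype F] (h3 : Fintype.card F = 3) {K K' : Subalgebra F (Matrix (Fin 3) (Fin 3) F)}
    (hK : IsFieldSubalgebra 3 K) (hK' : IsFieldSubalgebra 3 K') :
    ∃ s : SL3 F, Subgroup.map (MulAut.conj s).toMonoidHom (sub (subalgebraNormalizer K)) =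
      sub (subalgebraNormalizer K') := by
  obtain ⟨p, hp⟩ := CharP.exists F
  have hpp : Fact p.Prime := ⟨CharP.char_is_prime F p⟩
  let _ : Field K := (isField_of hK).toField
  let _ : Field K' := (isField_of hK').toField
  have : FiniteDimensional F K := Module.finite_of_finrank_pos (by rw [hK.finrank_eq]; norm_num)
  let ε : K ≃ₐ[F] K' := (FiniteField.algEquivExtension F p 3 K hK.finrank_eq).trans
    (FiniteField.algEquivExtension F p 3 K' hK'.finrank_eq).symm
  let φ : K →ₐ[F] Module.End F (Fin 3 → F) :=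
    ((Matrix.toLinAlgEquiv' (R := F) (n := Fin 3)).toAlgHom).comp K.val
  let ψ : K →ₐ[F] Module.End F (Fin 3 → F) :=
    ((Matrix.toLinAlgEquiv' (R := F) (n := Fin 3)).toAlgHom).comp (K'.val.comp ε.toAlgHom)
  obtain ⟨e, he⟩ := Cfsg.Agent.H954.FieldSub.exists_equiv_comm φ ψ
  have he' : ∀ (k : K) (v : Fin 3 → F), e ((k : Matrix (Fin 3) (Fin 3) F) *ᵥ v) =
      ((ε k : K') : Matrix (Fin 3) (Fin 3) F) *ᵥ (e v) := fun k v => he k v
  set! g := Cfsg.Agent.H905.glOf e with hg
  have hconj : ∀ k : K, (g : Matrix (Fin 3) (Fin 3) F) * k * ((g⁻¹ : GL (Fin 3) F) : Matrix (Fin 3) (Fin 3) F) =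
      ((ε k : K') : Matrix (Fin 3) (Fin 3) F) := by
    intro k
    apply Matrix.ext_of_mulVec_single
    intro i
    rw [← Matrix.mulVec_mulVec, ← Matrix.mulVec_mulVec, hg, glOf_inv_mulVec, Cfsg.Agent.H905.glOf_mulVec, he',
      LinearEquiv.apply_symm_apply]
  have hgi : ((g⁻¹ : GL (Fin 3) F) : Matrix (Fin 3) (Fin 3) F) * (g : Matrix (Fin 3) (Fin 3) F) = 1 := by
    rw [← Units.val_mul, inv_mul_cancel, Units.val_one]
  have hinj : ∀ a b : Matrix (Fin 3) (Fin 3) F, (g : Matrix (Fin 3) (Fin 3) F) * a *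
      ((g⁻¹ : GL (Fin 3) F) : Matrix (Fin 3) (Fin 3) F) = (g : Matrix (Fin 3) (Fin 3) F) * b *
      ((g⁻¹ : GL (Fin 3) F) : Matrix (Fin 3) (Fin 3) F) → a = b := by
    intro a b hab
    have h1 := congrArg (fun M => ((g⁻¹ : GL (Fin 3) F) : Matrix (Fin 3) (Fin 3) F) * M *
      (g : Matrix (Fin 3) (Fin 3) F)) hab
    simp only [mul_assoc, hgi, mul_one] at h1
    rwa [← mul_assoc, hgi, one_mul, ← mul_assoc, hgi, one_mul] at h1
  have hmem : ∀ k : Matrix (Fin 3) (Fin 3) F, k ∈ K ↔ (g : Matrix (Fin 3) (Fin 3) F) * k *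
      ((g⁻¹ : GL (Fin 3) F) : Matrix (Fin 3) (Fin 3) F) ∈ K' := by
    intro k
    constructor
    · intro hk
      rw [hconj ⟨k, hk⟩]
      exact (ε ⟨k, hk⟩).2
    · intro hk
      obtain ⟨k', hk'⟩ := ε.surjective ⟨_, hk⟩
      have h1 := hconj k'
      rw [hk'] at h1
      rw [← hinj _ _ h1]
      exact k'.2
  refine exists_conj h3 g fun x => ?_
  show (∀ k, k ∈ K ↔ (x : Matrix (Fin 3) (Fin 3) F) * k * ((x⁻¹ : GL (Fin 3) F) : Matrix (Fin 3) (Fin 3) F) ∈ K) ↔
    (∀ k, k ∈ K' ↔ ((g * x * g⁻¹ : GL (Fin 3) F) : Matrix (Fin 3) (Fin 3) F) * k *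
      (((g * x * g⁻¹)⁻¹ : GL (Fin 3) F) : Matrix (Fin 3) (Fin 3) F) ∈ K')
  have key : ∀ k, ((g * x * g⁻¹ : GL (Fin 3) F) : Matrix (Fin 3) (Fin 3) F) * ((g : Matrix (Fin 3) (Fin 3) F) * k *
      ((g⁻¹ : GL (Fin 3) F) : Matrix (Fin 3) (Fin 3) F)) *
      (((g * x * g⁻¹)⁻¹ : GL (Fin 3) F) : Matrix (Fin 3) (Fin 3) F) = (g : Matrix (Fin 3) (Fin 3) F) *
        ((x : Matrix (Fin 3) (Fin 3) F) * k * ((x⁻¹ : GL (Fin 3) F) : Matrix (Fin 3) (Fin 3) F)) *
        ((g⁻¹ : GL (Fin 3) F) : Matrix (Fin 3) (Fin 3) F) := by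
    intro k
    have h1 : (g * x * g⁻¹)⁻¹ = g * x⁻¹ * g⁻¹ := by group
    rw [h1]
    simp only [Units.val_mul, mul_assoc]
    have h2 : ∀ a : Matrix (Fin 3) (Fin 3) F, ((g⁻¹ : GL (Fin 3) F) : Matrix (Fin 3) (Fin 3) F) *
        ((g : Matrix (Fin 3) (Fin 3) F) * a) = a := fun a => by rw [← mul_assoc, hgi, one_mul]
    rw [h2, h2]
  constructor
  · intro hx k
    obtain ⟨k0, rfl⟩ : ∃ k0, (g : Matrix (Fin 3) (Fin 3) F) * k0 *
        ((g⁻¹ : GL (Fin 3) F) : Matrix (Fin 3) (Fin 3) F) = k := by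
      refine ⟨((g⁻¹ : GL (Fin 3) F) : Matrix (Fin 3) (Fin 3) F) * k * (g : Matrix (Fin 3) (Fin 3) F), ?_⟩
      have hgi' : (g : Matrix (Fin 3) (Fin 3) F) * ((g⁻¹ : GL (Fin 3) F) : Matrix (Fin 3) (Fin 3) F) = 1 := by
        rw [← Units.val_mul, mul_inv_cancel, Units.val_one]
      calc _ = ((g : Matrix (Fin 3) (Fin 3) F) * ((g⁻¹ : GL (Fin 3) F) : Matrix (Fin 3) (Fin 3) F)) * k *
            ((g : Matrix (Fin 3) (Fin 3) F) * ((g⁻¹ : GL (Fin 3) F) : Matrix (Fin 3) (Fin 3) F)) := by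
            simp only [mul_assoc]
        _ = k := by rw [hgi', one_mul, mul_one]
    rw [key, ← hmem, ← hmem]
    exact hx k0
  · intro hx k
    have h1 := hx ((g : Matrix (Fin 3) (Fin 3) F) * k * ((g⁻¹ : GL (Fin 3) F) : Matrix (Fin 3) (Fin 3) F))
    rw [key, ← hmem, ← hmem] at h1
    exact h1

/-! ### quadratic forms -/

/-- the bundled quadratic form -/
def bundleQ (Q : (Fin 3 → F) → F) (hQ : IsNondegenerateQuadraticForm Q) : QuadraticForm F (Fin 3 → F) where
  toFun := Q
  toFun_smul a x := by rw [hQ.smul, smul_eq_mul, _root_.sq]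
  exists_companion' := ⟨LinearMap.mk₂ F (QuadraticMap.polar Q) hQ.polar_bilinear.add_left
    (fun c x y => by rw [hQ.polar_bilinear.smul_left, smul_eq_mul])
    (fun x y z => hQ.polar_bilinear.add_right x y z)
    (fun c x y => by rw [hQ.polar_bilinear.smul_right, smul_eq_mul]), fun x y => by
      rw [LinearMap.mk₂_apply, QuadraticMap.polar]; ring⟩

theorem bundleQ_nondegenerate (Q : (Fin 3 → F) → F) (hQ : IsNondegenerateQuadraticForm Q) :
    (QuadraticMap.polarBilin (bundleQ Q hQ)).Nondegenerate := by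
  constructor
  · intro x hx
    by_contra hne
    obtain ⟨-, y, hy⟩ := hQ.nondegenerate x hne
    exact hy (hx y)
  · intro x hx
    by_contra hne
    obtain ⟨⟨y, hy⟩, -⟩ := hQ.nondegenerate x hne
    exact hy (hx y)

theorem conj_quad [Fintype F] (h3 : Fintype.card F = 3) (h2 : (2 : F) ≠ 0) {Q Q' : (Fin 3 → F) → F}
    (hQ : IsNondegenerateQuadraticForm Q) (hQ' : IsNondegenerateQuadraticForm Q') :
    ∃ s : SL3 F, Subgroup.map (MulAut.conj s).toMonoidHom (sub (quadSimilarityGroup Q)) =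
      sub (quadSimilarityGroup Q') := by
  obtain ⟨e, c, hc, he⟩ := Cfsg.Agent.ClassicalGeometry.DiagNormal.exists_similar h2 (n := 3) (by decide)
    (bundleQ Q hQ) (bundleQ Q' hQ') (bundleQ_nondegenerate Q hQ) (bundleQ_nondegenerate Q' hQ')
  have he' : ∀ v, Q' (e v) = c * Q v := he
  refine exists_conj h3 (Cfsg.Agent.H905.glOf e) fun x => ?_
  show (∃ d : Fˣ, ∀ v, Q ((x : Matrix (Fin 3) (Fin 3) F) *ᵥ v) = (d : F) * Q v) ↔
    (∃ d : Fˣ, ∀ v, Q' (((Cfsg.Agent.H905.glOf e * x * (Cfsg.Agent.H905.glOf e)⁻¹ : GL (Fin 3) F) :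
      Matrix (Fin 3) (Fin 3) F) *ᵥ v) = (d : F) * Q' v)
  have key : ∀ v, ((Cfsg.Agent.H905.glOf e * x * (Cfsg.Agent.H905.glOf e)⁻¹ : GL (Fin 3) F) :
      Matrix (Fin 3) (Fin 3) F) *ᵥ v = e ((x : Matrix (Fin 3) (Fin 3) F) *ᵥ (e.symm v)) := by
    intro v
    rw [Units.val_mul, Units.val_mul, ← Matrix.mulVec_mulVec, ← Matrix.mulVec_mulVec, glOf_inv_mulVec,
      Cfsg.Agent.H905.glOf_mulVec]
  constructor
  · rintro ⟨d, hd⟩
    refine ⟨d, fun v => ?_⟩
    rw [key, he', hd]
    have h1 := he' (e.symm v)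
    rw [LinearEquiv.apply_symm_apply] at h1
    rw [h1]
    ring
  · rintro ⟨d, hd⟩
    refine ⟨d, fun v => ?_⟩
    have h1 := hd (e v)
    rw [key, LinearEquiv.symm_apply_apply, he', he'] at h1
    apply mul_left_cancel₀ hc
    rw [h1]
    ring

end Cfsg.Agent.H896.L3
end

-- part: H896/L3ThreeB
section
/-!
# `PSL₃(3)` for S5906 (task 625, helper896): exactly four classes
-/

set_option autoImplicit false
set_option linter.unusedSectionVars false

namespace Cfsg.Agent.H896.L3

open Matrix Cfsg Cfsg.Geo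
open Matrix.SpecialLinearGroup (toGL)
open Cfsg.Agent.H940.MaxCls

variable {F : Type*} [Field F]

/-- the statement of S5775 for one field -/
def Hyp75 (F : Type*) [Field F] [Fintype F] : Prop :=
  ∀ (H : Subgroup (Matrix.GeneralLinearGroup (Fin 3) F)), Cfsg.Geo.IsMaximalIn (Cfsg.Geo.specialLinear (Fin 3) F) H →
    (∃ W : Submodule F (Fin 3 → F), W ≠ ⊥ ∧ W ≠ ⊤ ∧ H = Cfsg.Geo.subspaceStabilizer W ⊓ Cfsg.Geo.specialLinear (Fin 3) F) ∨
    (5 ≤ Fintype.card F ∧ ∃ D : Fin 3 → Submodule F (Fin 3 → F), Cfsg.Geo.IsMDecomposition 1 D ∧ H = Cfsg.Geo.decompositionStabilizer D ⊓ Cfsg.Geo.specialLinear (Fin 3) F) ∨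
    (Fintype.card F ≠ 4 ∧ ∃ K : Subalgebra F (Matrix (Fin 3) (Fin 3) F), Cfsg.Geo.IsFieldSubalgebra 3 K ∧ H = Cfsg.Geo.subalgebraNormalizer K ⊓ Cfsg.Geo.specialLinear (Fin 3) F) ∨
    (∃ (F₀ : Subfield F) (r : ℕ) (P : Matrix.GeneralLinearGroup (Fin 3) F), r.Prime ∧ Fintype.card F = Nat.card F₀ ^ r ∧ H = Cfsg.Geo.subfieldSubgroup F₀ P ⊓ Cfsg.Geo.specialLinear (Fin 3) F) ∨
    (∃ (p : ℕ) (R : Subgroup (Matrix.GeneralLinearGroup (Fin 3) F)), p.Prime ∧ Fintype.card F = p ∧ p % 3 = 1 ∧ Cfsg.Geo.IsLinearSymplecticTypeData 3 R ∧ H = Cfsg.Geo.subgroupNormalizer R ⊓ Cfsg.Geo.specialLinear (Fin 3) F) ∨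
    (Odd (Fintype.card F) ∧ ∃ Q : (Fin 3 → F) → F, Cfsg.Geo.IsNondegenerateQuadraticForm Q ∧ H = Cfsg.Geo.quadSimilarityGroup Q ⊓ Cfsg.Geo.specialLinear (Fin 3) F) ∨
    (∃ (σ : F ≃+* F) (f : (Fin 3 → F) → (Fin 3 → F) → F), Cfsg.Geo.IsUnitaryForm σ f ∧ H = Cfsg.Geo.similarityGroup f ⊓ Cfsg.Geo.specialLinear (Fin 3) F) ∨
    Cfsg.Geo.InLinearResidualClass H

/-- what S5776 says about the cardinality of the field -/
def Hyp76 (F : Type*) [Field F] [Fintype F] : Prop :=
  ∀ (H : Subgroup (Matrix.GeneralLinearGroup (Fin 3) F)), Cfsg.Geo.IsMaximalIn (Cfsg.Geo.specialLinear (Fin 3) F) H →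
    Cfsg.Geo.InLinearResidualClass H → Fintype.card F ≠ 3

theorem finrank_W : Module.finrank F (W1 F) = 1 ∧ Module.finrank F (W2 F) = 2 := by
  have h1 := Submodule.finrank_lt_finrank_of_lt (W1_lt_W2 (F := F))
  have h2 : Module.finrank F (W2 F) < Module.finrank F (Fin 3 → F) := Submodule.finrank_lt W2_ne_top
  rw [Module.finrank_fintype_fun_eq_card, Fintype.card_fin] at h2
  have h3 : Module.finrank F (W1 F) ≠ 0 := fun h => W1_ne_bot (Submodule.finrank_eq_zero.1 h)
  omega

theorem cls_three [Fintype F] (hyp : Hyp74 F) (hyp5 : Hyp75 F) (hyp6 : Hyp76 F) (h3 : Fintype.card F = 3) :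
    Cls 4 (SL3 F) := by
  have h2 : (2 : F) ≠ 0 := by
    intro h
    have h1 := FiniteField.cast_card_eq_zero F
    rw [h3] at h1
    push_cast at h1
    have : (1 : F) = 0 := by linear_combination h1 - h
    exact one_ne_zero this
  have ho : Odd (Fintype.card F) := by rw [h3]; decide
  obtain ⟨K, hK⟩ := exists_cubic (F := F)
  have cP1 := coatom_of_max (hyp.1 (W1 F) W1_ne_bot W1_ne_top)
  have cP2 := coatom_of_max (hyp.1 (W2 F) W2_ne_bot W2_ne_top)
  have cK := coatom_of_max (hyp.2.2.1 (by omega) K hK)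
  have cQ := coatom_of_max (hyp.2.2.2.2.2.1 ho (Qf F) (Qf_nondeg h2))
  have hm0 : (-1 : F) ≠ 0 := neg_ne_zero.2 one_ne_zero
  have hb : Bad (hE (-1 : F) hm0) := hE_bad _ hm0 (by
    intro h
    apply h2
    linear_combination -h)
  let M : Fin 4 → Subgroup (SL3 F) := ![sub (subspaceStabilizer (W1 F)), sub (subspaceStabilizer (W2 F)),
    sub (subalgebraNormalizer K), sub (quadSimilarityGroup (Qf F))]
  have hM : ∀ i, IsCoatom (M i) := by
    intro i
    fin_cases i
    · exact cP1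
    · exact cP2
    · exact cK
    · exact cQ
  refine Cls.of_mem M hM ?_ ?_
  · intro i j hij g
    fin_cases i <;> fin_cases j <;> first | exact absurd hij (by decide) | skip
    · exact free_W2_W1.ne g
    · exact (free_norm hK (hE_mem_W1 (-1) hm0) hb).ne' g
    · exact (free_of_irr (fun W => irr_Q h2) W1_ne_bot W1_ne_top).ne g
    · exact (free_norm hK (hE_mem_W2 (-1) hm0) hb).ne' g
    · exact (free_of_irr (fun W => irr_Q h2) W2_ne_bot W2_ne_top).ne g
    · exact (free_norm hK (hE_mem_Q (-1) hm0) hb).ne g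
  · intro L hL
    rcases hyp5 _ (max_of_coatom hL) with ⟨W, hW0, hW1, h⟩ | ⟨h5, -⟩ | ⟨-, K', hK', h⟩ | ⟨F₀, r, P, hr, hcard, -⟩ |
      ⟨p, R, hp, hcp, hp3, -⟩ | ⟨-, Q, hQ, h⟩ | ⟨σ, f, hf, -⟩ | h
    · have hL' := eq_sub h
      have h4 : Module.finrank F W < 3 := by
        have h5 := Submodule.finrank_lt hW1
        rwa [Module.finrank_fintype_fun_eq_card, Fintype.card_fin] at h5
      have h6 : Module.finrank F W ≠ 0 := fun h => hW0 (Submodule.finrank_eq_zero.1 h)
      have h7 : Module.finrank F W = 1 ∨ Module.finrank F W = 2 := by omega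
      rcases h7 with h7 | h7
      · obtain ⟨s, hs⟩ := conj_stab h3 (W := W1 F) (W' := W) (by rw [finrank_W.1, h7])
        exact ⟨0, s, hs.trans hL'.symm⟩
      · obtain ⟨s, hs⟩ := conj_stab h3 (W := W2 F) (W' := W) (by rw [finrank_W.2, h7])
        exact ⟨1, s, hs.trans hL'.symm⟩
    · omega
    · obtain ⟨s, hs⟩ := conj_norm h3 hK hK'
      exact ⟨2, s, hs.trans (eq_sub h).symm⟩
    · exfalso
      have h5 : 2 ≤ Nat.card F₀ := Finite.one_lt_card
      have h7 : 2 ^ 2 ≤ Nat.card F₀ ^ r :=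
        (Nat.pow_le_pow_left h5 2).trans (Nat.pow_le_pow_right (by omega) hr.two_le)
      omega
    · exfalso
      omega
    · obtain ⟨s, hs⟩ := conj_quad h3 h2 (Qf_nondeg h2) hQ
      exact ⟨3, s, hs.trans (eq_sub h).symm⟩
    · exfalso
      apply hf.ne_refl
      ext x
      have hx : x ^ 3 = x := by
        rw [← h3]
        exact FiniteField.pow_card x
      have h4 : x * ((x - 1) * (x + 1)) = 0 := by linear_combination hx
      rcases mul_eq_zero.1 h4 with h5 | h5
      · rw [h5, map_zero, map_zero]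
      · rcases mul_eq_zero.1 h5 with h6 | h6
        · rw [sub_eq_zero.1 h6, map_one, map_one]
        · rw [eq_neg_of_add_eq_zero_left h6, map_neg, map_one, map_neg, map_one]
    · exact absurd h3 (hyp6 _ (max_of_coatom hL) h)

/-! ### from `SL₃` to `PSL₃` -/

theorem perfect_SL3 : commutator (SL3 F) = ⊤ :=
  Cfsg.Agent.LieClassical.SLGen.commutator_eq_top (by rw [Fintype.card_fin])

theorem psl_of_sep (h : Sep 5 (SL3 F)) : Sep 5 (Matrix.ProjectiveSpecialLinearGroup (Fin 3) F) := by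
  refine Sep.map_surj (f := QuotientGroup.mk' (Subgroup.center (SL3 F))) (QuotientGroup.mk'_surjective _) ?_
    perfect_SL3 h
  rw [QuotientGroup.ker_mk']

theorem psl_of_cls (h : Cls 4 (SL3 F)) : Cls 4 (Matrix.ProjectiveSpecialLinearGroup (Fin 3) F) := by
  refine Cls.map_surj (f := QuotientGroup.mk' (Subgroup.center (SL3 F))) (QuotientGroup.mk'_surjective _) ?_
    perfect_SL3 h
  rw [QuotientGroup.ker_mk']

theorem sep_all [Fintype F] (hyp : Hyp74 F) (h4 : 4 ≤ Fintype.card F) : Sep 5 (SL3 F) := by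
  rcases Nat.lt_or_ge (Fintype.card F) 5 with h | h
  · exact sep_four hyp (by omega)
  · by_cases h2 : (2 : F) = 0
    · exact sep_even hyp h h2
    · refine sep_odd hyp h h2 ?_
      rw [Nat.odd_iff]
      apply FiniteField.odd_card_of_char_ne_two
      intro h5
      apply h2
      have h6 := ringChar.Nat.cast_ringChar (R := F)
      rw [h5] at h6
      exact_mod_cast h6

end Cfsg.Agent.H896.L3
end

-- part: H896/L3Glue
section
/-!
# `PSL₃(q)` for S5906, S5907 (task 625, helper896): the rows, given the statements of S5774, S5775, S5776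

`psl3_three h74 h75 h76 hF`, `psl3_five h74 hF` with `h74 = Cfsg.Agent.S5774.result`,
`h75 = fun H hH => Cfsg.Agent.S5775.result H hH`, `h76 = fun H hH hS => Cfsg.Agent.S5776.result H hH hS`.
-/

set_option autoImplicit false

namespace Cfsg.Agent.H896.L3

open Cfsg.Agent.H940.MaxCls

/-- the statement of S5776 for one field -/
def Stmt76 (F : Type*) [Field F] [Fintype F] : Prop :=
  ∀ (H : Subgroup (Matrix.GeneralLinearGroup (Fin 3) F)), Cfsg.Geo.IsMaximalIn (Cfsg.Geo.specialLinear (Fin 3) F) H →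
    Cfsg.Geo.InLinearResidualClass H →
    ∃ (P : Subgroup (Matrix.GeneralLinearGroup (Fin 3) F)) (p : ℕ), Cfsg.Geo.IsResidualCore H P ∧ p.Prime ∧ CharP F p ∧
    ((Nonempty ((P ⧸ (Cfsg.Geo.scalars (Fin 3) F).subgroupOf P) ≃* Matrix.ProjectiveSpecialLinearGroup (Fin 3) (ZMod 2)) ∧
        Fintype.card F = p ∧ p ≠ 2 ∧ (p % 7 = 1 ∨ p % 7 = 2 ∨ p % 7 = 4)) ∨
     (Nonempty ((P ⧸ (Cfsg.Geo.scalars (Fin 3) F).subgroupOf P) ≃* alternatingGroup (Fin 6)) ∧
        ((Fintype.card F = p ∧ (p % 15 = 1 ∨ p % 15 = 4)) ∨ (Fintype.card F = p ^ 2 ∧ p ≠ 3 ∧ (p % 5 = 2 ∨ p % 5 = 3)))))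

theorem hyp76_of {F : Type*} [Field F] [Fintype F] (h : Stmt76 F) : Hyp76 F := by
  intro H hH hS h3
  obtain ⟨P, p, -, hp, -, h1⟩ := h H hH hS
  rcases h1 with ⟨-, hc, -, h7⟩ | ⟨-, ⟨hc, h15⟩ | ⟨hc, -, -⟩⟩
  · omega
  · omega
  · have h2 := hp.two_le
    have : 2 ^ 2 ≤ p ^ 2 := Nat.pow_le_pow_left h2 2
    omega

theorem psl3_three {F : Type} [Field F] [Fintype F] (h74 : Hyp74 F) (h75 : Hyp75 F) (h76 : Stmt76 F)
    (hF : Fintype.card F = 3) : Cls 4 (Matrix.ProjectiveSpecialLinearGroup (Fin 3) F) :=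
  psl_of_cls (cls_three h74 h75 (hyp76_of h76) hF)

theorem psl3_five {F : Type} [Field F] [Fintype F] (h74 : Hyp74 F) (hF : 4 ≤ Fintype.card F) :
    Sep 5 (Matrix.ProjectiveSpecialLinearGroup (Fin 3) F) :=
  psl_of_sep (sep_all h74 hF)

end Cfsg.Agent.H896.L3
end

-- part: H889/SepSp/FourEven
section
/-!
# Five classes of maximal subgroups of `PSp_4(q)`, `q ≥ 4` even (helper889, row of S5906 and S5907)

The stabilisers of a point, of a totally isotropic line, of `{U, U^⊥}` and the orthogonal groups of the two types.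
-/

set_option autoImplicit false
set_option linter.unusedSectionVars false
set_option linter.unusedSimpArgs false
open Cfsg
open scoped Matrix MatrixGroups

namespace Cfsg.Agent.H889.SepSp

open Cfsg.Agent.ClassicalGeometry.SympBasic Cfsg.Agent.H876 Cfsg.Agent.S5652 Cfsg.Agent.H910
open Cfsg.Agent.H940.MaxCls

variable {F : Type*} [Field F]

local notation "VV" => (Fin 2 ⊕ Fin 2 → F)

/-! ### coordinates -/

theorem form_eq (u v : VV) : sympForm 2 F u v =
    (u (Sum.inr 0) * v (Sum.inl 0) - u (Sum.inl 0) * v (Sum.inr 0)) +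
      (u (Sum.inr 1) * v (Sum.inl 1) - u (Sum.inl 1) * v (Sum.inr 1)) := by
  rw [sympForm_eq_sum, Fin.sum_univ_two]

/-- the vector with given coordinates -/
def vec (a b c d : F) : VV := Sum.elim ![a, b] ![c, d]

@[simp] theorem vec_l0 (a b c d : F) : vec a b c d (Sum.inl 0) = a := rfl
@[simp] theorem vec_l1 (a b c d : F) : vec a b c d (Sum.inl 1) = b := rfl
@[simp] theorem vec_r0 (a b c d : F) : vec a b c d (Sum.inr 0) = c := rfl
@[simp] theorem vec_r1 (a b c d : F) : vec a b c d (Sum.inr 1) = d := rfl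

theorem vec_ext {u v : VV} (h0 : u (Sum.inl 0) = v (Sum.inl 0)) (h1 : u (Sum.inl 1) = v (Sum.inl 1))
    (h2 : u (Sum.inr 0) = v (Sum.inr 0)) (h3 : u (Sum.inr 1) = v (Sum.inr 1)) : u = v := by
  funext i
  rcases i with i | i <;> fin_cases i
  · exact h0
  · exact h1
  · exact h2
  · exact h3

/-! ### the quadratic forms -/

/-- `x₀ y₀ + c x₁² + x₁ y₁ + b y₁²` -/
def Qf (c b : F) (v : VV) : F :=
  v (Sum.inl 0) * v (Sum.inr 0) + (c * v (Sum.inl 1) ^ 2 + v (Sum.inl 1) * v (Sum.inr 1) + b * v (Sum.inr 1) ^ 2)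

theorem polar_Qf [CharP F 2] (c b : F) (u v : VV) : QuadraticMap.polar (Qf c b) u v = sympForm 2 F u v := by
  rw [form_eq, QuadraticMap.polar]
  simp only [Qf, Pi.add_apply]
  have h2 : (2 : F) = 0 := CharTwo.two_eq_zero
  linear_combination (u (Sum.inl 0) * v (Sum.inr 0) + u (Sum.inl 1) * v (Sum.inr 1) +
    c * u (Sum.inl 1) * v (Sum.inl 1) + b * u (Sum.inr 1) * v (Sum.inr 1)) * h2

theorem nondeg_Qf [CharP F 2] (c b : F) : Cfsg.Geo.IsNondegenerateQuadraticForm (Qf c b) where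
  smul a v := by
    simp only [Qf, Pi.smul_apply, smul_eq_mul]
    ring
  polar_bilinear := by
    have h : QuadraticMap.polar (Qf c b) = sympForm 2 F := by
      funext u v
      exact polar_Qf c b u v
    rw [h]
    exact
      { add_left := fun x y v => sympForm_add_left x y v
        smul_left := fun a x v => sympForm_smul_left a x v
        add_right := fun v x y => sympForm_add_right v x y
        smul_right := fun a v x => sympForm_smul_right a v x }
  nondegenerate := by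
    have h : QuadraticMap.polar (Qf c b) = sympForm 2 F := by
      funext u v
      exact polar_Qf c b u v
    rw [h]
    intro v hv
    obtain ⟨w, hw⟩ := exists_partner hv
    exact ⟨⟨w, by rw [sympForm_swap, hw]; exact neg_ne_zero.2 one_ne_zero⟩, w, by rw [hw]; exact one_ne_zero⟩

/-! ### the subgroups -/

/-- the stabiliser of a subspace -/
noncomputable def stS (W : Submodule F VV) : Subgroup (GL (Fin 2 ⊕ Fin 2) F) :=
  Cfsg.Geo.subspaceStabilizer W ⊓ spGL 2 F

theorem UU_stS {W : Submodule F VV} {v : VV} :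
    UU (stS W) v ↔ v ∈ W ∨ ∀ w ∈ W, sympForm 2 F w v = 0 := by
  constructor
  · intro h
    by_cases hv : v ∈ W
    · exact Or.inl hv
    · refine Or.inr fun w hw => ?_
      have h1 := (mem_subspaceStabilizer_iff.1 (h 1).1 w).1 hw
      rw [tGL_mulVec, one_mul] at h1
      have h2 : sympForm 2 F w v • v ∈ W := by
        have := W.sub_mem h1 hw
        rwa [add_sub_cancel_left] at this
      by_contra hne
      exact hv ((W.smul_mem_iff hne).1 h2)
  · rintro (hv | hv) c
    · refine ⟨mem_subspaceStabilizer_of_le fun w hw => ?_, tGL_mem _ _⟩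
      rw [tGL_mulVec]
      exact W.add_mem hw (W.smul_mem _ hv)
    · refine ⟨mem_subspaceStabilizer_of_le fun w hw => ?_, tGL_mem _ _⟩
      rw [tGL_mulVec, hv w hw, mul_zero, zero_smul, add_zero]
      exact hw

/-- the point -/
def W1 (F : Type*) [Field F] : Submodule F (Fin 2 ⊕ Fin 2 → F) where
  carrier := {v | v (Sum.inl 1) = 0 ∧ v (Sum.inr 0) = 0 ∧ v (Sum.inr 1) = 0}
  add_mem' := by
    rintro a b ⟨h1, h2, h3⟩ ⟨h4, h5, h6⟩
    exact ⟨by rw [Pi.add_apply, h1, h4, add_zero], by rw [Pi.add_apply, h2, h5, add_zero],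
      by rw [Pi.add_apply, h3, h6, add_zero]⟩
  zero_mem' := ⟨rfl, rfl, rfl⟩
  smul_mem' := by
    rintro c a ⟨h1, h2, h3⟩
    exact ⟨by rw [Pi.smul_apply, h1, smul_zero], by rw [Pi.smul_apply, h2, smul_zero],
      by rw [Pi.smul_apply, h3, smul_zero]⟩

/-- the totally isotropic line -/
def W2 (F : Type*) [Field F] : Submodule F (Fin 2 ⊕ Fin 2 → F) where
  carrier := {v | v (Sum.inr 0) = 0 ∧ v (Sum.inr 1) = 0}
  add_mem' := by
    rintro a b ⟨h2, h3⟩ ⟨h5, h6⟩
    exact ⟨by rw [Pi.add_apply, h2, h5, add_zero], by rw [Pi.add_apply, h3, h6, add_zero]⟩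
  zero_mem' := ⟨rfl, rfl⟩
  smul_mem' := by
    rintro c a ⟨h2, h3⟩
    exact ⟨by rw [Pi.smul_apply, h2, smul_zero], by rw [Pi.smul_apply, h3, smul_zero]⟩

/-- the coordinate plane `i` -/
def DD (F : Type*) [Field F] (i : Fin 2) : Submodule F (Fin 2 ⊕ Fin 2 → F) where
  carrier := {v | ∀ j, j ≠ i → v (Sum.inl j) = 0 ∧ v (Sum.inr j) = 0}
  add_mem' := by
    intro a b h1 h2 j hj
    exact ⟨by rw [Pi.add_apply, (h1 j hj).1, (h2 j hj).1, add_zero],
      by rw [Pi.add_apply, (h1 j hj).2, (h2 j hj).2, add_zero]⟩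
  zero_mem' := fun _ _ => ⟨rfl, rfl⟩
  smul_mem' := by
    intro c a h j hj
    exact ⟨by rw [Pi.smul_apply, (h j hj).1, smul_zero], by rw [Pi.smul_apply, (h j hj).2, smul_zero]⟩

theorem mem_D0 {v : VV} : v ∈ DD F 0 ↔ v (Sum.inl 1) = 0 ∧ v (Sum.inr 1) = 0 := by
  constructor
  · intro h; exact h 1 (by decide)
  · intro h j hj
    fin_cases j
    · exact absurd rfl hj
    · exact h
theorem mem_D1 {v : VV} : v ∈ DD F 1 ↔ v (Sum.inl 0) = 0 ∧ v (Sum.inr 0) = 0 := by
  constructor
  · intro h; exact h 0 (by decide)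
  · intro h j hj
    fin_cases j
    · exact h
    · exact absurd rfl hj

theorem W1_ts : Cfsg.Geo.IsTotallySingularFor (sympForm 2 F) (W1 F) := by
  rintro u ⟨h1, h2, h3⟩ v ⟨h4, h5, h6⟩
  rw [form_eq, h1, h2, h3, h4, h5, h6]
  ring

theorem W2_ts : Cfsg.Geo.IsTotallySingularFor (sympForm 2 F) (W2 F) := by
  rintro u ⟨h2, h3⟩ v ⟨h5, h6⟩
  rw [form_eq, h2, h3, h5, h6]
  ring

theorem W1_ne : W1 F ≠ ⊥ := by
  intro h
  have h1 : vec (1 : F) 0 0 0 ∈ W1 F := ⟨rfl, rfl, rfl⟩
  rw [h, Submodule.mem_bot] at h1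
  exact one_ne_zero (congrFun h1 (Sum.inl 0))

theorem W2_ne : W2 F ≠ ⊥ := by
  intro h
  have h1 : vec (1 : F) 0 0 0 ∈ W2 F := ⟨rfl, rfl⟩
  rw [h, Submodule.mem_bot] at h1
  exact one_ne_zero (congrFun h1 (Sum.inl 0))

theorem finrank_DD (i : Fin 2) : Module.finrank F (DD F i) = 2 := by
  let e : DD F i ≃ₗ[F] (Fin 2 → F) :=
    { toFun := fun v => ![v.1 (Sum.inl i), v.1 (Sum.inr i)]
      map_add' := by
        intro a b
        ext j
        fin_cases j <;> rfl
      map_smul' := by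
        intro c a
        ext j
        fin_cases j <;> rfl
      invFun := fun x => ⟨Sum.elim (Pi.single i (x 0)) (Pi.single i (x 1)), fun j hj => by
        constructor
        · exact Pi.single_eq_of_ne hj _
        · exact Pi.single_eq_of_ne hj _⟩
      left_inv := by
        rintro ⟨v, hv⟩
        apply Subtype.ext
        funext j
        rcases j with j | j
        · by_cases hj : j = i
          · subst hj
            simp
          · simp [Pi.single_eq_of_ne hj, (hv j hj).1]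
        · by_cases hj : j = i
          · subst hj
            simp
          · simp [Pi.single_eq_of_ne hj, (hv j hj).2]
      right_inv := by
        intro x
        ext j
        fin_cases j <;> simp }
  rw [e.finrank_eq]
  simp

theorem DD_nondeg : Cfsg.Geo.IsNondegenerateMDecomposition (sympForm 2 F) 2 (DD F) where
  decomp :=
    { two_le := le_rfl
      pos := by norm_num
      finrank_eq := finrank_DD
      indep := by
        rw [iSupIndep_pair (i := (0 : Fin 2)) (j := 1) (by decide) (by decide), Submodule.disjoint_def]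
        intro v h0 h1
        rw [mem_D0] at h0
        rw [mem_D1] at h1
        exact vec_ext h1.1 h0.1 h1.2 h0.2
      iSup_eq_top := by
        rw [eq_top_iff]
        intro v _
        have e : v = vec (v (Sum.inl 0)) 0 (v (Sum.inr 0)) 0 + vec 0 (v (Sum.inl 1)) 0 (v (Sum.inr 1)) :=
          vec_ext (by simp) (by simp) (by simp) (by simp)
        rw [e]
        refine Submodule.add_mem _ (Submodule.mem_iSup_of_mem 0 (mem_D0.2 ⟨rfl, rfl⟩))
          (Submodule.mem_iSup_of_mem 1 (mem_D1.2 ⟨rfl, rfl⟩)) }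
  nondegenerate := by
    have key : ∀ i : Fin 2, ∀ w ∈ DD F i, w ≠ 0 → ∃ x ∈ DD F i, sympForm 2 F w x ≠ 0 := by
      intro i w hw hw0
      have h1 : w (Sum.inl i) ≠ 0 ∨ w (Sum.inr i) ≠ 0 := by
        by_contra hc
        push Not at hc
        refine hw0 (funext fun j => ?_)
        rcases j with j | j
        · by_cases hj : j = i
          · subst hj; exact hc.1
          · exact (hw j hj).1
        · by_cases hj : j = i
          · subst hj; exact hc.2
          · exact (hw j hj).2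
      rcases h1 with h1 | h1
      · refine ⟨Pi.single (Sum.inr i) 1, fun j hj => ⟨by simp, by simp [Pi.single_apply, hj]⟩, ?_⟩
        rw [sympForm_single_inr_right]
        exact neg_ne_zero.2 h1
      · refine ⟨Pi.single (Sum.inl i) 1, fun j hj => ⟨by simp [Pi.single_apply, hj], by simp⟩, ?_⟩
        rw [sympForm_single_inl_right]
        exact h1
    intro i w hw hw0
    obtain ⟨x, hx, h⟩ := key i w hw hw0
    exact ⟨⟨x, hx, by rw [sympForm_swap]; exact neg_ne_zero.2 h⟩, x, hx, h⟩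
  orthogonal := by
    intro i j hij u hu v hv
    rw [form_eq]
    fin_cases i <;> fin_cases j
    · exact absurd rfl hij
    · have h1 := mem_D0.1 hu
      have h2 := mem_D1.1 hv
      rw [h1.1, h1.2, h2.1, h2.2]; ring
    · have h1 := mem_D1.1 hu
      have h2 := mem_D0.1 hv
      rw [h1.1, h1.2, h2.1, h2.2]; ring
    · exact absurd rfl hij

/-- the stabiliser of the decomposition -/
noncomputable def stD (F : Type*) [Field F] : Subgroup (GL (Fin 2 ⊕ Fin 2) F) :=
  Cfsg.Geo.decompositionStabilizer (DD F) ⊓ spGL 2 F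

/-- the orthogonal group -/
noncomputable def stQ (c b : F) : Subgroup (GL (Fin 2 ⊕ Fin 2) F) :=
  Cfsg.Geo.quadSimilarityGroup (Qf c b) ⊓ spGL 2 F

theorem mem_stD_of {g : GL (Fin 2 ⊕ Fin 2) F} (hg : g ∈ spGL 2 F)
    (h : ∀ i, ∀ v ∈ DD F i, (g : Matrix (Fin 2 ⊕ Fin 2) (Fin 2 ⊕ Fin 2) F) *ᵥ v ∈ DD F i) : g ∈ stD F := by
  refine ⟨⟨1, fun i => ?_⟩, hg⟩
  refine Submodule.eq_of_le_of_finrank_eq ?_ ?_
  · rintro _ ⟨v, hv, rfl⟩
    exact h i v hv
  · have hinj : Function.Injective (Matrix.toLin' (g : Matrix (Fin 2 ⊕ Fin 2) (Fin 2 ⊕ Fin 2) F)) := by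
      intro x y hxy
      have h1 : (g : Matrix (Fin 2 ⊕ Fin 2) (Fin 2 ⊕ Fin 2) F) *ᵥ x =
          (g : Matrix (Fin 2 ⊕ Fin 2) (Fin 2 ⊕ Fin 2) F) *ᵥ y := hxy
      have h2 := congrArg (fun z => ((g⁻¹ : GL (Fin 2 ⊕ Fin 2) F) : Matrix (Fin 2 ⊕ Fin 2) (Fin 2 ⊕ Fin 2) F) *ᵥ z) h1
      simpa only [Matrix.mulVec_mulVec, _root_.Matrix.coe_units_inv, _root_.Matrix.inv_mul_of_invertible, _root_.Matrix.one_mulVec] using h2
    exact (Submodule.equivMapOfInjective _ hinj _).finrank_eq.symm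

theorem UU_stD {i : Fin 2} {v : VV} (hv : v ∈ DD F i) : UU (stD F) v := by
  intro c
  refine mem_stD_of (tGL_mem _ _) fun j w hw => ?_
  rw [tGL_mulVec]
  by_cases hij : j = i
  · subst hij
    exact Submodule.add_mem _ hw (Submodule.smul_mem _ _ hv)
  · have : sympForm 2 F w v = 0 := DD_nondeg.orthogonal j i hij w hw v hv
    rw [this, mul_zero, zero_smul, add_zero]
    exact hw

theorem not_UU_stD : ¬ UU (stD F) (vec 1 1 0 0) := by
  intro h
  have h1 := h 1
  obtain ⟨⟨σ, hσ⟩, -⟩ := h1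
  have hw : vec (0 : F) 0 1 0 ∈ DD F 0 := mem_D0.2 ⟨rfl, rfl⟩
  have h2 : Matrix.toLin' ((tGL (vec 1 1 0 0) (1 : F) : GL _ F) : Matrix _ _ F) (vec 0 0 1 0) ∈ DD F (σ 0) := by
    rw [← hσ 0]
    exact Submodule.mem_map_of_mem hw
  rw [Matrix.toLin'_apply, tGL_mulVec] at h2
  have h3 : σ 0 = 0 ∨ σ 0 = 1 := by
    generalize σ 0 = i
    fin_cases i
    · exact Or.inl rfl
    · exact Or.inr rfl
  rcases h3 with h3 | h3
  · rw [h3, mem_D0, form_eq] at h2
    simp at h2
  · rw [h3, mem_D1, form_eq] at h2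
    simp at h2

theorem UU_stQ [Finite F] [CharP F 2] (h3 : 3 ≤ Nat.card F) {c b : F} {v : VV} (h : UU (stQ c b) v) : v = 0 := by
  by_contra hv
  have key : ∀ d : F, d ≠ 0 → d * Qf c b v = 1 := by
    intro d hd
    have h1 := of_tGL_mem_quad (by norm_num) (nondeg_Qf c b) (polar_Qf c b) hv d (h d)
    have h2 : d * (d * Qf c b v - 1) = 0 := by
      have h4 : (2 : F) = 0 := CharTwo.two_eq_zero
      linear_combination h1 - d * h4
    exact sub_eq_zero.1 ((mul_eq_zero.1 h2).resolve_left hd)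
  have h1 := key 1 one_ne_zero
  rw [one_mul] at h1
  have hall : ∀ d : F, d = 0 ∨ d = 1 := by
    intro d
    by_cases hd : d = 0
    · exact Or.inl hd
    · right
      have := key d hd
      rwa [h1, mul_one] at this
  have hfin : Fintype F := Fintype.ofFinite F
  classical
  have h2 : (Finset.univ : Finset F) ⊆ {0, 1} := by
    intro d _
    rcases hall d with h | h <;> simp only [h, _root_.Finset.mem_insert, _root_.Finset.mem_singleton, _root_.zero_ne_one, _root_.or_false, _root_.one_ne_zero, _root_.or_true]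
  have h5 := Finset.card_le_card h2
  rw [Finset.card_univ, ← Nat.card_eq_fintype_card] at h5
  have h6 : ({0, 1} : Finset F).card ≤ 2 := Finset.card_le_two
  omega

/-! ### invariants of conjugacy -/

/-- `K = g H g⁻¹` -/
def Cj (g : GL (Fin 2 ⊕ Fin 2) F) (H K : Subgroup (GL (Fin 2 ⊕ Fin 2) F)) : Prop :=
  ∀ x, x ∈ K ↔ g⁻¹ * x * g ∈ H

theorem Cj.tGL {g : GL (Fin 2 ⊕ Fin 2) F} (hg : g ∈ spGL 2 F) {H K : Subgroup (GL (Fin 2 ⊕ Fin 2) F)}
    (h : Cj g H K) (v : VV) (c : F) : tGL ((g : Matrix (Fin 2 ⊕ Fin 2) (Fin 2 ⊕ Fin 2) F) *ᵥ v) c ∈ K ↔ tGL v c ∈ H := by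
  rw [h, ← conj_tGL hg]
  have : g⁻¹ * (g * H876.tGL v c * g⁻¹) * g = H876.tGL v c := by group
  rw [this]

theorem Cj.UU {g : GL (Fin 2 ⊕ Fin 2) F} (hg : g ∈ spGL 2 F) {H K : Subgroup (GL (Fin 2 ⊕ Fin 2) F)}
    (h : Cj g H K) (v : VV) : H910.UU K ((g : Matrix (Fin 2 ⊕ Fin 2) (Fin 2 ⊕ Fin 2) F) *ᵥ v) ↔ H910.UU H v :=
  forall_congr' fun c => h.tGL hg v c

theorem Cj.exists_pre {g : GL (Fin 2 ⊕ Fin 2) F} (hg : g ∈ spGL 2 F) {H K : Subgroup (GL (Fin 2 ⊕ Fin 2) F)}
    (h : Cj g H K) {v : VV} (hv : H910.UU K v) : ∃ u, v = (g : Matrix (Fin 2 ⊕ Fin 2) (Fin 2 ⊕ Fin 2) F) *ᵥ u ∧ H910.UU H u := by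
  refine ⟨((g⁻¹ : GL (Fin 2 ⊕ Fin 2) F) : Matrix (Fin 2 ⊕ Fin 2) (Fin 2 ⊕ Fin 2) F) *ᵥ v, (mulVec_inv_cancel g v).symm, ?_⟩
  rw [← h.UU hg, mulVec_inv_cancel]
  exact hv

/-- a non-zero vector with all its transvections -/
def IA (H : Subgroup (GL (Fin 2 ⊕ Fin 2) F)) : Prop := ∃ v, v ≠ 0 ∧ H910.UU H v
/-- closed under addition -/
def IB (H : Subgroup (GL (Fin 2 ⊕ Fin 2) F)) : Prop :=
  ∀ u v, H910.UU H u → H910.UU H v → H910.UU H (u + v)
/-- a hyperbolic pair -/
def IC (H : Subgroup (GL (Fin 2 ⊕ Fin 2) F)) : Prop :=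
  ∃ u v, H910.UU H u ∧ H910.UU H v ∧ sympForm 2 F u v ≠ 0

section
variable {g : GL (Fin 2 ⊕ Fin 2) F} (hg : g ∈ spGL 2 F) {H K : Subgroup (GL (Fin 2 ⊕ Fin 2) F)} (h : Cj g H K)
include hg h

theorem Cj.IA_to (hH : IA H) : IA K := by
  obtain ⟨v, hv0, hv⟩ := hH
  refine ⟨(g : Matrix (Fin 2 ⊕ Fin 2) (Fin 2 ⊕ Fin 2) F) *ᵥ v, fun h0 => hv0 ?_, (h.UU hg v).2 hv⟩
  have := congrArg (fun z => ((g⁻¹ : GL (Fin 2 ⊕ Fin 2) F) : Matrix (Fin 2 ⊕ Fin 2) (Fin 2 ⊕ Fin 2) F) *ᵥ z) h0
  simpa only [Matrix.mulVec_mulVec, _root_.Matrix.coe_units_inv, _root_.Matrix.inv_mul_of_invertible, _root_.Matrix.one_mulVec, _root_.Matrix.mulVec_zero] using this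

theorem Cj.IB_to (hH : IB H) : IB K := by
  intro u v hu hv
  obtain ⟨u', hu1, hu2⟩ := h.exists_pre hg hu
  obtain ⟨v', hv1, hv2⟩ := h.exists_pre hg hv
  rw [hu1, hv1, ← Matrix.mulVec_add, h.UU hg]
  exact hH _ _ hu2 hv2

theorem Cj.IC_to (hH : IC H) : IC K := by
  obtain ⟨u, v, hu, hv, huv⟩ := hH
  refine ⟨_, _, (h.UU hg u).2 hu, (h.UU hg v).2 hv, ?_⟩
  rwa [sp_form hg]

end

theorem UU_W1 {v : VV} : H910.UU (stS (W1 F)) v ↔ v (Sum.inr 0) = 0 := by
  rw [UU_stS]
  constructor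
  · rintro (h | h)
    · exact h.2.1
    · have := h (vec 1 0 0 0) ⟨rfl, rfl, rfl⟩
      rw [form_eq] at this
      simpa using this
  · intro h
    right
    rintro w ⟨h1, h2, h3⟩
    rw [form_eq, h1, h2, h3, h]
    ring

theorem UU_W2 {v : VV} : H910.UU (stS (W2 F)) v ↔ v ∈ W2 F := by
  rw [UU_stS]
  constructor
  · rintro (h | h)
    · exact h
    · have h1 := h (vec 1 0 0 0) ⟨rfl, rfl⟩
      have h2 := h (vec 0 1 0 0) ⟨rfl, rfl⟩
      rw [form_eq] at h1 h2
      exact ⟨by simpa using h1, by simpa using h2⟩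
  · exact Or.inl

theorem IA_W1 : IA (stS (W1 F)) := by
  refine ⟨vec 1 0 0 0, fun h => one_ne_zero (congrFun h (Sum.inl 0)), UU_W1.2 rfl⟩
theorem IA_W2 : IA (stS (W2 F)) := by
  refine ⟨vec 1 0 0 0, fun h => one_ne_zero (congrFun h (Sum.inl 0)), UU_W2.2 ⟨rfl, rfl⟩⟩
theorem IA_D : IA (stD F) := by
  refine ⟨vec 1 0 0 0, fun h => one_ne_zero (congrFun h (Sum.inl 0)), UU_stD (mem_D0.2 ⟨rfl, rfl⟩)⟩
theorem IB_W1 : IB (stS (W1 F)) := by
  intro u v hu hv
  rw [UU_W1] at *
  rw [Pi.add_apply, hu, hv, add_zero]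
theorem IB_W2 : IB (stS (W2 F)) := by
  intro u v hu hv
  rw [UU_W2] at *
  exact Submodule.add_mem _ hu hv
theorem not_IB_D : ¬ IB (stD F) := by
  intro h
  refine not_UU_stD (F := F) ?_
  have h1 := h (vec 1 0 0 0) (vec 0 1 0 0) (UU_stD (mem_D0.2 ⟨rfl, rfl⟩)) (UU_stD (mem_D1.2 ⟨rfl, rfl⟩))
  have e : vec (1 : F) 0 0 0 + vec 0 1 0 0 = vec 1 1 0 0 := vec_ext (by simp) (by simp) (by simp) (by simp)
  rwa [e] at h1
theorem IC_W1 : IC (stS (W1 F)) := by
  refine ⟨vec 0 1 0 0, vec 0 0 0 1, UU_W1.2 rfl, UU_W1.2 rfl, ?_⟩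
  rw [form_eq]
  simp
theorem not_IC_W2 : ¬ IC (stS (W2 F)) := by
  rintro ⟨u, v, hu, hv, huv⟩
  exact huv (W2_ts u (UU_W2.1 hu) v (UU_W2.1 hv))

theorem not_IA_Q [Finite F] [CharP F 2] (h3 : 3 ≤ Nat.card F) (c b : F) : ¬ IA (stQ c b) := by
  rintro ⟨v, hv, h⟩
  exact hv (UU_stQ h3 h)

/-- the two types of quadratic forms -/
theorem not_Cj_Q [Finite F] [CharP F 2] {b : F} (hb : ∀ z : F, z ^ 2 + z ≠ b) {g : GL (Fin 2 ⊕ Fin 2) F}
    (hg : g ∈ spGL 2 F) : ¬ Cj g (stQ 0 0) (stQ 1 b) := by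
  intro h
  have h2 : (2 : F) = 0 := CharTwo.two_eq_zero
  have hinj : ∀ v : VV, (g : Matrix (Fin 2 ⊕ Fin 2) (Fin 2 ⊕ Fin 2) F) *ᵥ v = 0 → v = 0 := by
    intro v h0
    have := congrArg (fun z => ((g⁻¹ : GL (Fin 2 ⊕ Fin 2) F) : Matrix (Fin 2 ⊕ Fin 2) (Fin 2 ⊕ Fin 2) F) *ᵥ z) h0
    simpa only [Matrix.mulVec_mulVec, _root_.Matrix.coe_units_inv, _root_.Matrix.inv_mul_of_invertible, _root_.Matrix.one_mulVec, _root_.Matrix.mulVec_zero] using this
  -- isotropic vectors are mapped to isotropic vectors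
  have hs : ∀ v : VV, Qf 0 0 v = 0 → Qf 1 b ((g : Matrix (Fin 2 ⊕ Fin 2) (Fin 2 ⊕ Fin 2) F) *ᵥ v) = 0 := by
    intro v hv
    by_contra hne
    have hv0 : v ≠ 0 := by
      rintro rfl
      rw [Matrix.mulVec_zero] at hne
      exact hne (by simp [Qf])
    have h1 : tGL ((g : Matrix (Fin 2 ⊕ Fin 2) (Fin 2 ⊕ Fin 2) F) *ᵥ v) (Qf 1 b ((g : Matrix (Fin 2 ⊕ Fin 2) (Fin 2 ⊕ Fin 2) F) *ᵥ v))⁻¹ ∈ stQ 1 b := by
      refine tGL_mem_quad (by norm_num) (nondeg_Qf 1 b) (polar_Qf 1 b) _ _ ?_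
      field_simp
      linear_combination h2
    rw [h.tGL hg] at h1
    have h3 := of_tGL_mem_quad (by norm_num) (nondeg_Qf 0 0) (polar_Qf 0 0) hv0 _ h1
    rw [hv, mul_zero, add_zero] at h3
    exact inv_ne_zero hne h3
  set! u := (g : Matrix (Fin 2 ⊕ Fin 2) (Fin 2 ⊕ Fin 2) F) *ᵥ vec 1 0 0 0 with hu
  set! v := (g : Matrix (Fin 2 ⊕ Fin 2) (Fin 2 ⊕ Fin 2) F) *ᵥ vec 0 1 0 0 with hv
  have hsing : ∀ x y : F, Qf 1 b (x • u + y • v) = 0 := by
    intro x y
    have e : x • u + y • v = (g : Matrix (Fin 2 ⊕ Fin 2) (Fin 2 ⊕ Fin 2) F) *ᵥ vec x y 0 0 := by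
      have : vec x y 0 0 = x • vec (1 : F) 0 0 0 + y • vec 0 1 0 0 :=
        vec_ext (by simp) (by simp) (by simp) (by simp)
      rw [this, Matrix.mulVec_add, Matrix.mulVec_smul, Matrix.mulVec_smul]
    rw [e]
    exact hs _ (by simp [Qf])
  have hind : ∀ x y : F, x • u + y • v = 0 → x = 0 ∧ y = 0 := by
    intro x y hxy
    have e : x • u + y • v = (g : Matrix (Fin 2 ⊕ Fin 2) (Fin 2 ⊕ Fin 2) F) *ᵥ vec x y 0 0 := by
      have : vec x y 0 0 = x • vec (1 : F) 0 0 0 + y • vec 0 1 0 0 :=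
        vec_ext (by simp) (by simp) (by simp) (by simp)
      rw [this, Matrix.mulVec_add, Matrix.mulVec_smul, Matrix.mulVec_smul]
    rw [e] at hxy
    have := hinj _ hxy
    exact ⟨congrFun this (Sum.inl 0), congrFun this (Sum.inl 1)⟩
  -- anisotropic part
  have haniso : ∀ x y : F, x ^ 2 + x * y + b * y ^ 2 = 0 → x = 0 ∧ y = 0 := by
    intro x y hxy
    by_cases hy : y = 0
    · subst hy
      exact ⟨by simpa using hxy, rfl⟩
    · exfalso
      apply hb (x / y)
      field_simp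
      linear_combination hxy - b * y ^ 2 * h2
  -- a vector in the plane with vanishing coordinate
  have hcut : ∀ i : Fin 2 ⊕ Fin 2, ∃ x y : F, (x ≠ 0 ∨ y ≠ 0) ∧ (x • u + y • v) i = 0 := by
    intro i
    by_cases h0 : u i = 0 ∧ v i = 0
    · exact ⟨1, 0, Or.inl one_ne_zero, by simp [h0.1]⟩
    · refine ⟨v i, - u i, ?_, ?_⟩
      · by_contra hc
        push Not at hc
        exact h0 ⟨neg_eq_zero.1 hc.2, hc.1⟩
      · simp only [_root_.neg_smul, _root_.Pi.add_apply, _root_.Pi.smul_apply, _root_.smul_eq_mul, _root_.Pi.neg_apply]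
        ring
  obtain ⟨x, y, hxy, he⟩ := hcut (Sum.inr 0)
  obtain ⟨x', y', hxy', he'⟩ := hcut (Sum.inl 0)
  set e := x • u + y • v with hedef
  set f := x' • u + y' • v with hfdef
  have hne : e ≠ 0 := fun h0 => by
    obtain ⟨h1, h3⟩ := hind x y h0
    rcases hxy with h | h
    · exact h h1
    · exact h h3
  have hnf : f ≠ 0 := fun h0 => by
    obtain ⟨h1, h3⟩ := hind x' y' h0
    rcases hxy' with h | h
    · exact h h1
    · exact h h3
  have hQe : Qf 1 b e = 0 := hsing x y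
  have hQf : Qf 1 b f = 0 := hsing x' y'
  have hQef : Qf 1 b (e + f) = 0 := by
    have : e + f = (x + x') • u + (y + y') • v := by rw [hedef, hfdef]; module
    rw [this]
    exact hsing _ _
  obtain ⟨e1, e2⟩ := haniso (e (Sum.inl 1)) (e (Sum.inr 1)) (by
    simp only [Qf, he, mul_zero, zero_add, one_mul] at hQe
    exact hQe)
  obtain ⟨f1, f2⟩ := haniso (f (Sum.inl 1)) (f (Sum.inr 1)) (by
    simp only [Qf, he', zero_mul, zero_add, one_mul] at hQf
    exact hQf)
  have e0 : e (Sum.inl 0) ≠ 0 := fun h0 => hne (vec_ext h0 e1 he e2)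
  have f0 : f (Sum.inr 0) ≠ 0 := fun h0 => hnf (vec_ext he' f1 h0 f2)
  simp only [Qf, Pi.add_apply, e1, e2, f1, f2, he, he', add_zero, zero_add, mul_zero, ne_eq,
    OfNat.ofNat_ne_zero, not_false_eq_true, zero_pow] at hQef
  exact mul_ne_zero e0 f0 hQef

theorem exists_irred [Finite F] [CharP F 2] : ∃ b : F, ∀ z : F, z ^ 2 + z ≠ b := by
  by_contra hc
  push Not at hc
  have hs : Function.Surjective (fun z : F => z ^ 2 + z) := hc
  have hi := Finite.injective_iff_surjective.2 hs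
  have h1 : (0 : F) = 1 := hi (by
    show (0 : F) ^ 2 + 0 = 1 ^ 2 + 1
    have h2 : (2 : F) = 0 := CharTwo.two_eq_zero
    linear_combination -h2)
  exact zero_ne_one h1

/-! ### the classes -/

theorem isCoatom_of_max {G : Type*} [Group G] {K H : Subgroup G} (h : Cfsg.Geo.IsMaximalIn K (H ⊓ K)) :
    IsCoatom ((H ⊓ K).subgroupOf K) := by
  refine ⟨fun h1 => ?_, fun L hL => ?_⟩
  · rw [Subgroup.subgroupOf_eq_top] at h1
    exact (not_le_of_gt h.1) h1
  · have h1 : H ⊓ K ≤ L.map K.subtype := by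
      intro x hx
      refine ⟨⟨x, hx.2⟩, hL.le ?_, rfl⟩
      rw [Subgroup.mem_subgroupOf]
      exact hx
    have h2 : L.map K.subtype ≤ K := by
      rintro _ ⟨y, -, rfl⟩
      exact y.2
    rcases h.2 _ h1 h2 with h3 | h3
    · exfalso
      refine hL.not_ge fun y hy => ?_
      rw [Subgroup.mem_subgroupOf, ← h3]
      exact ⟨y, hy, rfl⟩
    · refine top_le_iff.1 fun y _ => ?_
      have h4 : (y : G) ∈ L.map K.subtype := by rw [h3]; exact y.2
      obtain ⟨z, hz, hzy⟩ := h4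
      have : z = y := Subtype.ext hzy
      rw [← this]
      exact hz

theorem cj_of_map {H K : Subgroup (GL (Fin 2 ⊕ Fin 2) F)} {g : spGL 2 F}
    (h : Subgroup.map (MulAut.conj g).toMonoidHom ((H ⊓ spGL 2 F).subgroupOf (spGL 2 F)) =
      (K ⊓ spGL 2 F).subgroupOf (spGL 2 F)) : Cj (g : GL (Fin 2 ⊕ Fin 2) F) (H ⊓ spGL 2 F) (K ⊓ spGL 2 F) := by
  intro x
  by_cases hx : x ∈ spGL 2 F
  · have h1 : (⟨x, hx⟩ : spGL 2 F) ∈ (K ⊓ spGL 2 F).subgroupOf (spGL 2 F) ↔
        g⁻¹ * ⟨x, hx⟩ * g ∈ (H ⊓ spGL 2 F).subgroupOf (spGL 2 F) := by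
      rw [← h, mem_map_conj]
    rw [Subgroup.mem_subgroupOf, Subgroup.mem_subgroupOf] at h1
    exact h1
  · constructor
    · intro h1
      exact absurd h1.2 hx
    · intro h1
      refine absurd ?_ hx
      have h2 := (spGL 2 F).mul_mem ((spGL 2 F).mul_mem g.2 h1.2) ((spGL 2 F).inv_mem g.2)
      have h3 : (g : GL (Fin 2 ⊕ Fin 2) F) * ((g : GL (Fin 2 ⊕ Fin 2) F)⁻¹ * x * g) *
          (g : GL (Fin 2 ⊕ Fin 2) F)⁻¹ = x := by group
      rwa [h3] at h2

theorem sep_spGL [Finite F] [CharP F 2] (h3 : 3 ≤ Nat.card F) : Sep 5 (spGL 2 F) := by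
  obtain ⟨b, hb⟩ := exists_irred (F := F)
  let H : Fin 5 → Subgroup (GL (Fin 2 ⊕ Fin 2) F) :=
    ![Cfsg.Geo.subspaceStabilizer (W1 F), Cfsg.Geo.subspaceStabilizer (W2 F),
      Cfsg.Geo.decompositionStabilizer (DD F), Cfsg.Geo.quadSimilarityGroup (Qf 0 0),
      Cfsg.Geo.quadSimilarityGroup (Qf 1 b)]
  refine sep_of_coatoms (fun i => (H i ⊓ spGL 2 F).subgroupOf (spGL 2 F)) ?_ ?_
  · intro i
    refine isCoatom_of_max ?_
    fin_cases i
    · exact ti_maximal _ W1_ne W1_ts
    · exact ti_maximal _ W2_ne W2_ts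
    · exact decomp_maximal _ DD_nondeg
    · exact quad_maximal le_rfl (nondeg_Qf 0 0) (polar_Qf 0 0)
    · exact quad_maximal le_rfl (nondeg_Qf 1 b) (polar_Qf 1 b)
  · intro i j hij g hg
    have hc := cj_of_map hg
    fin_cases i <;> fin_cases j
    all_goals first
      | exact absurd hij (by decide)
      | skip
    · exact not_IC_W2 (hc.IC_to g.2 IC_W1)
    · exact not_IB_D (hc.IB_to g.2 IB_W1)
    · exact not_IA_Q h3 0 0 (hc.IA_to g.2 IA_W1)
    · exact not_IA_Q h3 1 b (hc.IA_to g.2 IA_W1)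
    · exact not_IB_D (hc.IB_to g.2 IB_W2)
    · exact not_IA_Q h3 0 0 (hc.IA_to g.2 IA_W2)
    · exact not_IA_Q h3 1 b (hc.IA_to g.2 IA_W2)
    · exact not_IA_Q h3 0 0 (hc.IA_to g.2 IA_D)
    · exact not_IA_Q h3 1 b (hc.IA_to g.2 IA_D)
    · exact not_Cj_Q hb g.2 hc

/-- `Sp` as a subgroup of `GL` -/
noncomputable def eSp (m : ℕ) (F : Type*) [Field F] : Matrix.symplecticGroup (Fin m) F ≃* spGL m F where
  toFun A := ⟨spToGL m F A, fun u v => mem_symplecticGroup_iff.1 A.2 u v⟩
  invFun g := ⟨((g : GL (Fin m ⊕ Fin m) F) : Matrix (Fin m ⊕ Fin m) (Fin m ⊕ Fin m) F),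
    mem_symplecticGroup_iff.2 g.2⟩
  left_inv A := rfl
  right_inv g := by
    apply Subtype.ext
    apply Units.ext
    rfl
  map_mul' A B := by
    apply Subtype.ext
    exact map_mul (spToGL m F) A B

/-- **Five classes of maximal subgroups of `PSp_4(q)`, `q ≥ 4` even.** -/
theorem psp4_even {F : Type*} [Field F] [Fintype F] {k : ℕ} (hk : 2 ≤ k) (hF : Fintype.card F = 2 ^ k) :
    Sep 5 (PSp 2 F) := by
  have h4 : 4 ≤ Fintype.card F := by
    rw [hF]
    calc 4 = 2 ^ 2 := by norm_num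
      _ ≤ 2 ^ k := Nat.pow_le_pow_right (by norm_num) hk
  have hchar : ringChar F = 2 := by
    rw [FiniteField.even_card_iff_char_two, hF, Nat.pow_mod]
    simp only [Nat.mod_self]
    rw [Nat.zero_pow (by omega)]
  have : CharP F 2 := by rw [← hchar]; infer_instance
  have h1 : Sep 5 (Matrix.symplecticGroup (Fin 2) F) :=
    (sep_spGL (by rw [Nat.card_eq_fintype_card]; omega)).of_mulEquiv (eSp 2 F).symm
  refine h1.map_surj (f := QuotientGroup.mk' (Subgroup.center (Matrix.symplecticGroup (Fin 2) F)))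
    (QuotientGroup.mk'_surjective _) (by rw [QuotientGroup.ker_mk']) ?_
  exact Cfsg.Agent.LieClassical.SympPerfect.commutator_eq_top (Or.inr (Or.inl ⟨rfl, by omega⟩))

end Cfsg.Agent.H889.SepSp
end

private theorem dce_a80c2187c025 : _root_.True := by
  try have : _root_.True := by simp only [_root_.Cfsg.Agent.H889.SepSp.Qf.eq_1]
  try have : _root_.True := by simp only [_root_.Cfsg.Agent.H896.L3.Qf.eq_1]
  try have : _root_.True := by simp only [_root_.Cfsg.Agent.H896.L3.dG.congr_simp]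
  try have : _root_.True := by simp only [_root_.Cfsg.Agent.H896.L3.uE.eq_1]
  try have : _root_.True := by simp only [_root_.Cfsg.Agent.H896.L3.hE.eq_1]
  try have : _root_.True := by simp only [_root_.Cfsg.Agent.H896.L3.hE.congr_simp]
  try have : _root_.True := by simp only [_root_.Cfsg.Agent.H896.L3.x2E.eq_1]
  try have : _root_.True := by simp only [_root_.Cfsg.Agent.H896.L3.xE.eq_1]
  try have : _root_.True := by simp only [_root_.Cfsg.Agent.H896.L3.cE.eq_1]
  try have : _root_.True := by simp only [_root_.Cfsg.Agent.H896.L3.vE.eq_1]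
  try have : _root_.True := by simp only [_root_.Cfsg.Agent.H896.L3.rE.eq_1]
  try have : _root_.True := by simp only [_root_.Cfsg.Geo.subfieldSubgroup.eq_1]
  try have : _root_.True := by simp only [_root_.Cfsg.Agent.H896.L3.stdD.eq_1]
  try have : _root_.True := by simp only [_root_.Cfsg.Agent.H896.L3.Hf.eq_1]
  try have : _root_.True := by simp only [_root_.Cfsg.Agent.H896.L3.x1E.eq_1]
  exact _root_.True.intro
end

-- part: H973/SepHN/Items
section
set_option linter.all false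

/-!
# The numerical data for the row `HN` (helper973)
-/

set_option autoImplicit false

namespace Cfsg.Agent.H973.SepHN

open Cfsg.Agent.H940.Eng Cfsg.Agent.H940.Eng.D

/-- the local data -/
def loc : List LD := [⟨7, 420, [(2, 3), (3, 2), (5, 1), (7, 1)]⟩, ⟨11, 22, [(2, 2), (5, 1), (11, 1)]⟩,
  ⟨19, 2885625, [(2, 1), (3, 5), (5, 4), (19, 1)]⟩]

/-- `A12` -/
def i0 : CI := ⟨0, 239500800, [], [239500800]⟩

/-- `H = C(x²)` -/
def i1 : CI := ⟨1, 177408000, [], [177408000]⟩

/-- the normalizer of a Sylow 19-subgroup -/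
def i2 : CI := ⟨2, 19, [19], [171, 3420, 14250, 230850, 961875, 4617000, 16547328, 19237500]⟩

/-- the normalizer of a Sylow 5-subgroup -/
def i3 : CI := ⟨3, 15625, [5], [46875, 125000, 281250, 437500, 750000, 984375, 1687500, 2000000, 2625000, 3796875, 4500000, 5906250, 7000000, 8015625, 8250000, 10125000, 12000000, 15750000, 21375000, 22781250, 27000000, 32000000, 41765625, 42000000, 48093750, 49500000, 60750000, 72000000, 79734375, 94500000, 112000000, 162000000, 192000000, 212625000, 252000000, 288562500, 297000000, 352000000, 364500000, 432000000, 567000000, 672000000, 972000000, 1152000000, 1275750000, 1512000000, 1731375000, 1792000000, 2112000000, 2592000000, 3402000000, 4032000000, 5832000000, 6912000000, 9072000000, 15552000000, 20412000000, 24192000000, 54432000000, 93312000000, 145152000000, 171072000000, 258552000000, 326592000000, 1026432000000, 1551312000000]⟩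

/-- the normalizer of a Sylow 2-subgroup -/
def i4 : CI := ⟨4, 16384, [2], [16384, 49152, 81920, 114688, 147456, 245760, 344064, 409600, 442368, 573440, 737280, 1032192, 1228800, 1327104, 1720320, 2048000, 2211840, 2703360, 2867200, 3096576, 3686400, 3981312, 5160960, 6144000, 6635520, 8110080, 8601600, 9289728, 10240000, 11059200, 11943936, 15482880, 18432000, 19906560, 25804800, 27869184, 30720000, 33177600, 46448640, 51200000, 55296000, 59719680, 77414400, 83607552, 92160000, 99532800, 129024000, 139345920, 153600000, 165888000, 232243200, 256000000, 276480000, 298598400, 387072000, 418037760, 460800000, 497664000, 645120000, 656916480, 696729600, 768000000, 829440000, 1161216000, 1382400000, 1492992000, 1792000000, 1935360000, 2090188800, 2304000000, 2488320000, 3225600000, 3483648000, 4147200000, 5376000000, 5806080000, 6912000000, 7464960000, 8448000000, 9676800000, 10450944000, 12441600000, 16128000000, 17418240000, 20736000000, 25344000000, 29030400000,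 37324800000, 48384000000, 52254720000, 62208000000, 145152000000, 186624000000, 435456000000, 1306368000000, 2052864000000]⟩

/-- the normalizer of a Sylow 3-subgroup -/
def i5 : CI := ⟨5, 729, [3], [1458, 3645, 5832, 10206, 14580, 23328, 25515, 36450, 40824, 58320, 91125, 93312, 102060, 145800, 163296, 233280, 255150, 277020, 320760, 364500, 373248, 408240, 583200, 653184, 692550, 911250, 933120, 1020600, 1458000, 1492992, 1632960, 1731375, 2278125, 2332800, 2612736, 2770200, 3645000, 3732480, 4082400, 5832000, 5971968, 6531840, 6925500, 9112500, 9331200, 10450944, 14580000, 14929920, 16329600, 17313750, 22781250, 23328000, 26127360, 36450000, 37324800, 40824000, 41803776, 43284375, 49641984, 58320000, 59719680, 65318400, 69255000, 91125000, 93312000, 104509440, 145800000, 149299200, 159468750, 163296000, 173137500, 233280000, 261273600, 328458240, 364500000, 373248000, 408240000, 418037760, 432843750, 496419840, 501187500, 583200000, 637875000, 653184000,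 898128000, 933120000, 1045094400, 1241049600, 1458000000, 1492992000, 1632960000, 1731375000, 2004750000, 2332800000, 2551500000, 2612736000, 3592512000, 3732480000, 5832000000, 6531840000, 9331200000, 10206000000, 10450944000, 23328000000, 26127360000, 37324800000, 40824000000, 93312000000, 163296000000, 513216000000, 653184000000, 775656000000, 2052864000000]⟩

end Cfsg.Agent.H973.SepHN
end

-- part: H973/SepHN/ChkE
section
set_option linter.all false

set_option autoImplicit false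

namespace Cfsg.Agent.H973.SepHN

open Cfsg.Agent.H940.Eng Cfsg.Agent.H940.Eng.D

/-- a numerical check -/
theorem cov : covB n_hn (fun _ _ => false) 4 [i0, i1, i2, i3, i4, i5] = true := by decide +kernel

end Cfsg.Agent.H973.SepHN
end

-- part: H973/SepHN/ChkA
section
set_option linter.all false

set_option autoImplicit false

namespace Cfsg.Agent.H973.SepHN

open Cfsg.Agent.H940.Eng Cfsg.Agent.H940.Eng.D

/-- a numerical check -/
theorem chk2 : chkO l_hn n_hn i2.a [(2, 14), (3, 6), (5, 6), (7, 1), (11, 1)] i2.ords i2.full 60 loc o_hn = true :=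
  H940.EngF.chkO_fast (by decide +kernel)

end Cfsg.Agent.H973.SepHN
end

-- part: H973/SepHN/ChkC
section
set_option linter.all false

set_option autoImplicit false

namespace Cfsg.Agent.H973.SepHN

open Cfsg.Agent.H940.Eng Cfsg.Agent.H940.Eng.D

/-- a numerical check -/
theorem chk4 : chkO l_hn n_hn i4.a [(3, 6), (5, 6), (7, 1), (11, 1), (19, 1)] i4.ords i4.full 60 loc o_hn = true :=
  H940.EngF.chkO_fast (by decide +kernel)

end Cfsg.Agent.H973.SepHN
end

-- part: H807/MaxPSL/Tools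
section
prune_inst 0x356045401c400200000085921100200468000190006004014da20e400a004322008021000c8014000a0a238120010020020000d0400000000000000000010020802a500413340d04260009801084000000000000000000000000000000000004200000000
set_option linter.all false
open scoped Cfsg.Agent.FastGrp

-- part: H807/MaxPSL/Split
section
/-!
# Classes of `PGL₂(q)` which split in `PSL₂(q)` (for S5906, S5907)

* `exists_split` : a maximal subgroup `M` of `PSL₂(F)` whose normalizer in `PGL₂(F)` is contained in `PSL₂(F)` has a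
  `PGL₂(F)`-conjugate `M'` which is maximal and not `PSL₂(F)`-conjugate to `M`;
* `norm_klein`, `norm_PG` : the normalizers of `S₄`, `A₅`, `PGL₂(k)`;
* `cls_of_types`.
-/

set_option autoImplicit false
set_option linter.style.haveILetI false

namespace Cfsg.Agent.H807.MaxPSL

open Matrix Cfsg.Agent.H937 Cfsg.Agent.H940.MaxCls
open Cfsg.Agent.ClassicalGeometry.PSL2Basic
open Cfsg.Agent.ClassicalGeometry.KleinCount

/-! ### General -/

section general

variable {G : Type*} [Group G]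

theorem apart_of_not_iso {A B : Subgroup G} (hA : IsCoatom A) (hB : IsCoatom B)
    (h : ¬ Nonempty (A ≃* B)) : Apart A B := by
  intro g K h1 h2
  by_contra hK
  have e1 : K = A := by
    rcases eq_or_lt_of_le h1 with h | h
    · exact h.symm
    · exact absurd (hA.2 K h) hK
  have hBc : IsCoatom (Subgroup.map (MulAut.conj g).toMonoidHom B) :=
    (OrderIso.isCoatom_iff ((MulAut.conj g).mapSubgroup) B).2 hB
  have e2 : K = Subgroup.map (MulAut.conj g).toMonoidHom B := by
    rcases eq_or_lt_of_le (map_conj_le h2) with h | h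
    · exact h.symm
    · exact absurd (hBc.2 K h) hK
  apply h
  rw [← e1, e2]
  exact ⟨(Subgroup.equivMapOfInjective B _ (MulAut.conj g).injective).symm⟩

theorem apart_of_not_conj {A B : Subgroup G} (hA : IsCoatom A) (hB : IsCoatom B)
    (h : ∀ g : G, Subgroup.map (MulAut.conj g).toMonoidHom B ≠ A) : Apart A B := by
  intro g K h1 h2
  by_contra hK
  have e1 : K = A := by
    rcases eq_or_lt_of_le h1 with h | h
    · exact h.symm
    · exact absurd (hA.2 K h) hK
  have hBc : IsCoatom (Subgroup.map (MulAut.conj g).toMonoidHom B) :=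
    (OrderIso.isCoatom_iff ((MulAut.conj g).mapSubgroup) B).2 hB
  have e2 : K = Subgroup.map (MulAut.conj g).toMonoidHom B := by
    rcases eq_or_lt_of_le (map_conj_le h2) with h | h
    · exact h.symm
    · exact absurd (hBc.2 K h) hK
  exact h g (by rw [← e2, e1])

end general

variable {F : Type*} [Field F]

/-! ### Maximal subgroups of `LL F` -/

theorem map_comap_ta {X : Subgroup (PGL F)} (h : X ≤ LL F) :
    (X.comap (ta : PSL F →* PGL F)).map ta = X := by
  rw [Subgroup.map_comap_eq, inf_eq_right]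
  exact h

theorem coatom_of_covBy {M : Subgroup (PSL F)} (h : M.map (ta : PSL F →* PGL F) ⋖ LL F) : IsCoatom M := by
  constructor
  · rintro rfl
    apply h.lt.ne
    rw [← MonoidHom.range_eq_map]
    rfl
  · intro X hX
    by_contra hne
    refine h.2 (c := X.map ta) ?_ ?_
    · exact lt_of_le_of_ne (Subgroup.map_mono hX.le) fun e => hX.ne (Subgroup.map_injective ta_injective e)
    · refine lt_of_le_of_ne (Subgroup.map_le_range _ _) fun e => hne ?_
      apply Subgroup.map_injective ta_injective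
      rw [e, ← MonoidHom.range_eq_map]
      rfl

/-- the Borel subgroup -/
theorem exists_borel [Fintype F] (hodd : Odd (Fintype.card F)) (h3 : 3 ≤ Fintype.card F) :
    ∃ M : Subgroup (PSL F), IsCoatom M ∧ M.map (ta : PSL F →* PGL F) = BP F ⊓ LL F ∧
      2 * Nat.card M = Fintype.card F * (Fintype.card F - 1) := by
  have h1 : ((BP F ⊓ LL F).comap (ta : PSL F →* PGL F)).map ta = BP F ⊓ LL F := map_comap_ta inf_le_right
  refine ⟨(BP F ⊓ LL F).comap ta, coatom_of_covBy ?_, h1, ?_⟩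
  · rw [h1]
    exact borel_covBy hodd h3
  · rw [← card_map_ta, h1, two_card_B hodd]

theorem exists_not_mem_LL [Fintype F] (hodd : Odd (Fintype.card F)) : ∃ d : PGL F, d ∉ LL F := by
  by_contra h
  push Not at h
  exact LL_ne_top hodd (eq_top_iff.2 fun x _ => h x)

/-- splitting of classes -/
theorem exists_split [Fintype F] (hodd : Odd (Fintype.card F)) {M : Subgroup (PSL F)} (hM : IsCoatom M)
    (hn : ∀ x : PGL F, cj x (M.map (ta : PSL F →* PGL F)) = M.map ta → x ∈ LL F) :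
    ∃ M' : Subgroup (PSL F), IsCoatom M' ∧ Nonempty (M ≃* M') ∧
      (∀ g : PSL F, Subgroup.map (MulAut.conj g).toMonoidHom M' ≠ M) ∧
      ∃ b : PGL F, cj b (M.map (ta : PSL F →* PGL F)) = M'.map ta := by
  obtain ⟨d, hd⟩ := exists_not_mem_LL hodd
  have hcov : cj d (M.map (ta : PSL F →* PGL F)) ⋖ LL F := cj_covBy_normal (map_ta_covBy hM)
  have h1 := map_comap_ta (X := cj d (M.map (ta : PSL F →* PGL F))) hcov.le
  refine ⟨(cj d (M.map (ta : PSL F →* PGL F))).comap ta, coatom_of_covBy ?_, ?_, ?_, d, h1.symm⟩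
  · rw [h1]
    exact hcov
  · exact ⟨((mapTaEquiv M).trans (cjEquiv d _)).trans
      ((MulEquiv.subgroupCongr h1.symm).trans (mapTaEquiv _).symm)⟩
  · intro g hg
    obtain ⟨a, ha, h2⟩ := LC_of_conj hg
    rw [h1, ← cj_mul] at h2
    have h3 := hn _ h2
    apply hd
    have := mul_mem (inv_mem ha) h3
    rwa [inv_mul_cancel_left] at this

/-! ### Normalizers in `PGL` -/

/-- the normalizer in `PGL` of a maximal subgroup of `LL` has order `|M|` or `2 |M|` -/
theorem card_norm [Fintype F] (hodd : Odd (Fintype.card F)) (h5 : 5 ≤ Fintype.card F)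
    {M : Subgroup (PSL F)} (hM : IsCoatom M) {x : PGL F} (hx : x ∉ LL F)
    (hxM : cj x (M.map (ta : PSL F →* PGL F)) = M.map ta) :
    Nat.card (nrm (M.map (ta : PSL F →* PGL F))) = 2 * Nat.card M := by
  have hM1 : M ≠ ⊥ := by
    rintro rfl
    -- a maximal subgroup is not trivial
    have h2 : (2 : F) ≠ 0 := (two_ne_zero_iff_odd F).2 hodd
    obtain ⟨V, hV⟩ := Cfsg.Agent.ClassicalGeometry.PSL2KleinConj.exists_isKleinFour (F := F) h2
    have h3 : V = ⊤ := hM.2 V (bot_lt_iff_ne_bot.2 (by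
      rintro rfl
      have := hV.card_four
      rw [Subgroup.card_bot] at this
      omega))
    have h4 := hV.card_four
    rw [h3] at h4
    have h5' := sixty_le hodd h5
    have h6 : Nat.card (PSL F) = 4 := by
      rw [← h4]
      exact (Nat.card_congr Subgroup.topEquiv.toEquiv).symm
    omega
  haveI : IsSimpleGroup (PSL F) :=
    Matrix.ProjectiveSpecialLinearGroup.rank_two_simple (by rw [Nat.card_eq_fintype_card]; omega)
  have hN : nrm M = M := by
    by_contra hne
    have h1 := hM.2 _ (lt_of_le_of_ne (le_nrm M) (Ne.symm hne))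
    rcases (Subgroup.normalizer_eq_top_iff.mp h1).eq_bot_or_eq_top with h | h
    · exact hM1 h
    · exact hM.1 h
  have h1 : nrm (M.map (ta : PSL F →* PGL F)) ⊓ LL F = M.map ta := by
    rw [← map_nrm, hN]
  have h2 : ¬ nrm (M.map (ta : PSL F →* PGL F)) ≤ LL F := fun h => hx (h (mem_nrm.2 hxM))
  have h3 := card_inf_of_not_le (index_LL_odd hodd) h2
  rw [h1, card_map_ta] at h3
  exact h3.symm

theorem dihedral_comm_three {G : Type*} [Group G] {N : Subgroup G} {n : ℕ} (e : N ≃* DihedralGroup n)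
    {x y : G} (hx : x ∈ N) (hy : y ∈ N) (hx3 : x ^ 3 = 1) (hy3 : y ^ 3 = 1) : x * y = y * x := by
  have h1 := dihedral_three (e ⟨x, hx⟩) (e ⟨y, hy⟩)
    (by rw [← map_pow, show (⟨x, hx⟩ : N) ^ 3 = 1 from Subtype.ext hx3, map_one])
    (by rw [← map_pow, show (⟨y, hy⟩ : N) ^ 3 = 1 from Subtype.ext hy3, map_one])
  rw [← map_mul, ← map_mul] at h1
  exact congrArg Subtype.val (e.injective h1)

/-- the normalizer in `PGL` of a maximal subgroup of `LL` which contains a Klein four-group and two elements of order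
three which do not commute -/
theorem norm_klein [Fintype F] (p : ℕ) [Fact p.Prime] [CharP F p] (hodd : Odd (Fintype.card F))
    (h5 : 5 ≤ Fintype.card F) {M : Subgroup (PSL F)} (hM : IsCoatom M)
    (hV : ∃ x ∈ M, ∃ y ∈ M, CommInv x y)
    (h3 : ∃ x ∈ M, ∃ y ∈ M, x ^ 3 = 1 ∧ y ^ 3 = 1 ∧ x * y ≠ y * x)
    (hc : 2 * Nat.card M ≠ 12 ∧ 2 * Nat.card M ≠ 24 ∧ 2 * Nat.card M ≠ 60)
    (hk : ∀ k : Subfield F, 4 * Nat.card M + Nat.card k ≠ Nat.card k ^ 3 ∧
      2 * Nat.card M + Nat.card k ≠ Nat.card k ^ 3) (x : PGL F)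
    (hxM : cj x (M.map (ta : PSL F →* PGL F)) = M.map ta) : x ∈ LL F := by
  by_contra hx
  have hcard := card_norm hodd h5 hM hx hxM
  have h2 : (2 : F) ≠ 0 := (two_ne_zero_iff_odd F).2 hodd
  set H := nrm (M.map (ta : PSL F →* PGL F)) with hH
  have hMH : M.map (ta : PSL F →* PGL F) ≤ H := le_nrm _
  rcases structure_pgl p H with ⟨b, hb⟩ | ⟨c, hc', hc1, hc2⟩ | ⟨-, h1⟩ | ⟨-, ⟨e⟩⟩ | ⟨k, b, hb⟩
  · obtain ⟨u, hu, v, hv, huv⟩ := hV
    have huv' : CommInv (ta u : PGL F) (ta v) := by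
      refine ⟨?_, ?_, ?_, ?_, ?_, ?_⟩
      · intro h; exact huv.hx (ta_injective (h.trans (map_one _).symm))
      · intro h; exact huv.hy (ta_injective (h.trans (map_one _).symm))
      · intro h; exact huv.hxy (ta_injective h)
      · rw [← map_mul, huv.xx, map_one]
      · rw [← map_mul, huv.yy, map_one]
      · rw [← map_mul, ← map_mul, huv.comm]
    refine no_klein_BP h2 (x := b * ta u * b⁻¹) (y := b * ta v * b⁻¹) ?_ ?_ (cj_commInv b huv')
    · apply hb
      rw [mem_cj]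
      have : b⁻¹ * (b * ta u * b⁻¹) * b = ta u := by group
      rw [this]
      exact hMH ⟨u, hu, rfl⟩
    · apply hb
      rw [mem_cj]
      have : b⁻¹ * (b * ta v * b⁻¹) * b = ta v := by group
      rw [this]
      exact hMH ⟨v, hv, rfl⟩
  · obtain ⟨N, hN, n, -, ⟨e⟩, -⟩ := torus_case p hc1 hc2
    obtain ⟨u, hu, v, hv, hu3, hv3, huv⟩ := h3
    apply huv
    apply ta_injective
    rw [map_mul, map_mul]
    exact dihedral_comm_three e (hN (hMH ⟨u, hu, rfl⟩)) (hN (hMH ⟨v, hv, rfl⟩))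
      (by rw [← map_pow, hu3, map_one]) (by rw [← map_pow, hv3, map_one])
  · rcases h1 with ⟨⟨e⟩⟩ | ⟨⟨e⟩⟩ | ⟨⟨e⟩⟩
    · exact hc.1 (by rw [← hcard, Nat.card_congr e.toEquiv, card_A4])
    · exact hc.2.1 (by rw [← hcard, Nat.card_congr e.toEquiv, card_S4])
    · exact hc.2.2 (by rw [← hcard, Nat.card_congr e.toEquiv, card_A5])
  · exact hc.2.2 (by rw [← hcard, Nat.card_congr e.toEquiv, card_A5])
  · rcases hb with hb | hb
    · have h6 := card_cj b H
      rw [hb, hcard] at h6
      -- `2 |PS k| + |k| = |k| ^ 3`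
      letI : Fintype k := Fintype.ofFinite k
      have hoddk : Odd (Fintype.card k) := by
        rw [← Nat.card_eq_fintype_card]
        exact odd_subfield hodd k
      have h7 := two_card_PSL (F := k) hoddk
      rw [← card_PS, h6, ← Nat.card_eq_fintype_card] at h7
      exact (hk k).1 (by rw [← h7]; ring)
    · have h6 := card_cj b H
      rw [hb, hcard] at h6
      have h7 := card_cube k
      rw [h6] at h7
      exact (hk k).2 h7

/-- the normalizer of `PG k`, `|F| = |k| ^ 2` -/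
theorem norm_PG [Fintype F] (p : ℕ) [Fact p.Prime] [CharP F p] (hodd : Odd (Fintype.card F))
    (h5 : 5 ≤ Fintype.card F) {M : Subgroup (PSL F)} (hM : IsCoatom M) {k : Subfield F}
    (hk : Nat.card F = Nat.card k ^ 2) (hMk : Nat.card M + Nat.card k = Nat.card k ^ 3) (x : PGL F)
    (hxM : cj x (M.map (ta : PSL F →* PGL F)) = M.map ta) : x ∈ LL F := by
  by_contra hx
  have hcard := card_norm hodd h5 hM hx hxM
  set H := nrm (M.map (ta : PSL F →* PGL F)) with hH
  have hp : p.Prime := Fact.out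
  letI : Fintype k := Fintype.ofFinite k
  have hoddk := odd_subfield hodd k
  have hk1 : 1 < Nat.card k := Finite.one_lt_card
  -- prime powers
  have hpow : ∀ k' : Subfield F, ∃ a : ℕ, 1 ≤ a ∧ Nat.card k' = p ^ a := by
    intro k'
    letI : Fintype k' := Fintype.ofFinite k'
    obtain ⟨a, -, ha⟩ := FiniteField.card k' p
    exact ⟨a, a.pos, by rw [Nat.card_eq_fintype_card, ha]⟩
  obtain ⟨a, ha1, ha⟩ := hpow k
  have hp3 : 3 ≤ p := by
    have h2 := hp.two_le
    by_contra hlt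
    have h3 : p = 2 := by omega
    rw [ha, h3] at hoddk
    exact absurd hoddk (Nat.not_odd_iff_even.2 (even_two.pow_of_ne_zero (by omega)))
  have hk3 : 3 ≤ Nat.card k := by
    rw [ha]
    calc 3 ≤ p ^ 1 := by rw [pow_one]; exact hp3
      _ ≤ p ^ a := Nat.pow_le_pow_right (by omega) ha1
  have hpk : p ∣ Nat.card k := by
    rw [ha]
    exact dvd_pow_self p (by omega)
  have hkM : Nat.card k ∣ Nat.card M := by
    have h1 : Nat.card k ∣ Nat.card M + Nat.card k := by
      rw [hMk]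
      exact dvd_pow_self _ (by norm_num)
    exact (Nat.dvd_add_left dvd_rfl).1 h1
  have hF : Fintype.card F = Nat.card k ^ 2 := by rw [← Nat.card_eq_fintype_card, hk]
  have hM2 : Nat.card M = Nat.card k * (Nat.card k ^ 2 - 1) := by
    have h1 : 1 ≤ Nat.card k ^ 2 := Nat.one_le_pow _ _ (by omega)
    rw [Nat.mul_sub, mul_one]
    have h2 : Nat.card k * Nat.card k ^ 2 = Nat.card k ^ 3 := by ring
    omega
  have hcop : Nat.Coprime (Nat.card k) 2 := by
    rw [Nat.coprime_two_right]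
    exact hoddk
  rcases structure_pgl p H with ⟨b, hb⟩ | ⟨c, hc', hc1, hc2⟩ | ⟨h0, -⟩ | ⟨-, ⟨e⟩⟩ | ⟨k', b, hb⟩
  · have h1 := Subgroup.card_dvd_of_le hb
    rw [card_cj, hcard, card_BP, hM2, hF] at h1
    have h2 : Nat.card k ^ 2 * (Nat.card k ^ 2 - 1) =
        (Nat.card k * (Nat.card k ^ 2 - 1)) * Nat.card k := by ring
    rw [h2, mul_comm 2] at h1
    have hpos : 0 < Nat.card k * (Nat.card k ^ 2 - 1) := by
      have : 1 < Nat.card k ^ 2 := Nat.one_lt_pow (by norm_num) hk1
      exact Nat.mul_pos (by omega) (by omega)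
    have h3 := Nat.dvd_of_mul_dvd_mul_left hpos h1
    exact absurd hoddk (Nat.not_odd_iff_even.2 ((even_iff_two_dvd).2 h3))
  · obtain ⟨N, hN, n, hn, ⟨e⟩, -⟩ := torus_case p hc1 hc2
    have h1 := Subgroup.card_dvd_of_le hN
    rw [hcard, Nat.card_congr e.toEquiv, DihedralGroup.nat_card] at h1
    have h2 : Nat.card k ∣ n := (hkM.trans (Nat.dvd_of_mul_dvd_mul_left (by norm_num) h1))
    rcases hn with rfl | rfl
    · rw [hF] at h2
      have h3 : Nat.card k ∣ 1 := by
        have h4 : 1 ≤ Nat.card k ^ 2 := Nat.one_le_pow _ _ (by omega)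
        have h5 := Nat.dvd_sub (dvd_pow_self (Nat.card k) (two_ne_zero)) h2
        have h6 : Nat.card k ^ 2 - (Nat.card k ^ 2 - 1) = 1 := by omega
        rwa [h6] at h5
      have := Nat.le_of_dvd one_pos h3
      omega
    · rw [hF] at h2
      have h3 : Nat.card k ∣ 1 := (Nat.dvd_add_right (dvd_pow_self (Nat.card k) (two_ne_zero))).1 h2
      have := Nat.le_of_dvd one_pos h3
      omega
  · apply h0
    rw [hcard]
    exact (hpk.trans hkM).mul_left 2
  · have h1 : 2 * Nat.card M = 60 := by rw [← hcard, Nat.card_congr e.toEquiv, card_A5]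
    have h2 : Nat.card M = 30 := by omega
    rw [h2] at hMk
    have h3 : Nat.card k < 4 := by
      by_contra h4
      have h5 : 4 ≤ Nat.card k := by omega
      generalize Nat.card k = z at *
      have h6 : 4 * z ^ 2 ≤ z ^ 3 := by
        rw [pow_succ z 2, mul_comm]
        exact Nat.mul_le_mul_left _ h5
      nlinarith only [hMk, h6]
    generalize Nat.card k = z at *
    interval_cases z
    omega
  · obtain ⟨a', ha1', ha'⟩ := hpow k'
    have h1 : 2 * (2 * Nat.card M) + Nat.card k' = Nat.card k' ^ 3 ∨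
        2 * Nat.card M + Nat.card k' = Nat.card k' ^ 3 := by
      rcases hb with hb | hb
      · left
        have h6 := card_cj b H
        rw [hb, hcard] at h6
        letI : Fintype k' := Fintype.ofFinite k'
        have hoddk' : Odd (Fintype.card k') := by
          rw [← Nat.card_eq_fintype_card]
          exact odd_subfield hodd k'
        have h7 := two_card_PSL (F := k') hoddk'
        rw [← card_PS, h6, ← Nat.card_eq_fintype_card] at h7
        exact h7
      · right
        have h6 := card_cj b H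
        rw [hb, hcard] at h6
        have h7 := card_cube k'
        rw [h6] at h7
        exact h7
    have hlt : Nat.card k < Nat.card k' := by
      by_contra hle
      push Not at hle
      have h2 : Nat.card k' * (Nat.card k' ^ 2 - 1) ≤ Nat.card k * (Nat.card k ^ 2 - 1) :=
        Nat.mul_le_mul hle (Nat.sub_le_sub_right (Nat.pow_le_pow_left hle 2) 1)
      have h3 : 1 ≤ Nat.card k' ^ 2 := Nat.one_le_pow _ _ Nat.card_pos
      have h4 : Nat.card k' * (Nat.card k' ^ 2 - 1) + Nat.card k' = Nat.card k' ^ 3 := by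
        rw [Nat.mul_sub, mul_one]
        have h5 : Nat.card k' * Nat.card k' ^ 2 = Nat.card k' ^ 3 := by ring
        have h6 : Nat.card k' ≤ Nat.card k' * Nat.card k' ^ 2 := Nat.le_mul_of_pos_right _ h3
        omega
      have h7 : 0 < Nat.card M := Nat.card_pos
      rw [← hM2] at h2
      (clear * - h1 h2 h4 h7; omega)
    have h3k : 3 * Nat.card k ≤ Nat.card k' := by
      rw [ha, ha'] at hlt ⊢
      have h2 := (Nat.pow_lt_pow_iff_right (by omega)).1 hlt
      calc 3 * p ^ a ≤ p * p ^ a := Nat.mul_le_mul_right _ hp3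
        _ = p ^ (a + 1) := by rw [pow_succ]; ring
        _ ≤ p ^ a' := Nat.pow_le_pow_right (by omega) h2
    have h27 : 27 * Nat.card k ^ 3 ≤ Nat.card k' ^ 3 := by
      calc 27 * Nat.card k ^ 3 = (3 * Nat.card k) ^ 3 := by ring
        _ ≤ _ := Nat.pow_le_pow_left h3k 3
    have hk'3 : 3 ≤ Nat.card k' := by omega
    have h9 : 9 * Nat.card k' ≤ Nat.card k' ^ 3 := by
      have : Nat.card k' ^ 3 = Nat.card k' ^ 2 * Nat.card k' := by ring
      rw [this]
      apply Nat.mul_le_mul_right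
      calc 9 = 3 ^ 2 := by norm_num
        _ ≤ _ := Nat.pow_le_pow_left hk'3 2
    (clear * - hMk h1 h27 hk'3 h9; omega)

end Cfsg.Agent.H807.MaxPSL
end

-- part: H807/MaxPSL/Tools
section
/-!
# Maximal subgroups of `PSL₂(q)`, `q` odd: existence (for S5906, S5907)
-/

set_option autoImplicit false
set_option linter.style.haveILetI false

namespace Cfsg.Agent.H807.MaxPSL

open Matrix Cfsg.Agent.H937 Cfsg.Agent.H940.MaxCls
open Cfsg.Agent.ClassicalGeometry.PSL2Basic
open Cfsg.Agent.ClassicalGeometry.KleinCount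

/-! ### Subgroups isomorphic to `S₄`, `A₅`, dihedral groups -/

section general

variable {G : Type*} [Group G]

theorem commInv_map {H : Type*} [Group H] {f : G →* H} (hf : Function.Injective f) {x y : G}
    (h : CommInv x y) : CommInv (f x) (f y) := by
  refine ⟨?_, ?_, ?_, ?_, ?_, ?_⟩
  · intro h1; exact h.hx (hf (h1.trans (map_one _).symm))
  · intro h1; exact h.hy (hf (h1.trans (map_one _).symm))
  · intro h1; exact h.hxy (hf h1)
  · rw [← map_mul, h.xx, map_one]
  · rw [← map_mul, h.yy, map_one]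
  · rw [← map_mul, ← map_mul, h.comm]

theorem commInv_of_map {H : Type*} [Group H] {f : G →* H} (hf : Function.Injective f) {x y : G}
    (h : CommInv (f x) (f y)) : CommInv x y := by
  refine ⟨?_, ?_, ?_, ?_, ?_, ?_⟩
  · rintro rfl; exact h.hx (map_one _)
  · rintro rfl; exact h.hy (map_one _)
  · rintro rfl; exact h.hxy rfl
  · apply hf; rw [map_mul, h.xx, map_one]
  · apply hf; rw [map_mul, h.yy, map_one]
  · apply hf; rw [map_mul, map_mul, h.comm]

/-- `M` contains a Klein four-group -/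
def HasK (M : Subgroup G) : Prop := ∃ x ∈ M, ∃ y ∈ M, CommInv x y

/-- `M` contains two elements of order three which do not commute -/
def Has3 (M : Subgroup G) : Prop := ∃ x ∈ M, ∃ y ∈ M, x ^ 3 = 1 ∧ y ^ 3 = 1 ∧ x * y ≠ y * x

theorem HasK.of_equiv {H : Type*} [Group H] {M : Subgroup G} (e : H ≃* M) {x y : H} (h : CommInv x y) :
    HasK M :=
  ⟨e x, (e x).2, e y, (e y).2, commInv_map (f := M.subtype.comp e.toMonoidHom)
    (M.subtype_injective.comp e.injective) h⟩

theorem Has3.of_equiv {H : Type*} [Group H] {M : Subgroup G} (e : H ≃* M) {x y : H} (hx : x ^ 3 = 1)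
    (hy : y ^ 3 = 1) (h : x * y ≠ y * x) : Has3 M := by
  refine ⟨e x, (e x).2, e y, (e y).2, ?_, ?_, ?_⟩
  · rw [← Subgroup.coe_pow, ← map_pow, hx, map_one, Subgroup.coe_one]
  · rw [← Subgroup.coe_pow, ← map_pow, hy, map_one, Subgroup.coe_one]
  · intro h1
    apply h
    apply e.injective
    apply Subtype.ext
    rw [map_mul, map_mul]
    exact h1

theorem hasK_S4 {M : Subgroup G} (e : Nonempty (M ≃* Equiv.Perm (Fin 4))) : HasK M := by
  obtain ⟨e⟩ := e
  exact HasK.of_equiv e.symm pab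

theorem has3_S4 {M : Subgroup G} (e : Nonempty (M ≃* Equiv.Perm (Fin 4))) : Has3 M := by
  obtain ⟨e⟩ := e
  exact Has3.of_equiv e.symm px_cube py_cube pxy_ne

/-- another three-cycle -/
def qy : Equiv.Perm (Fin 5) := Equiv.swap 1 2 * Equiv.swap 2 3

theorem qy_mem : qy ∈ alternatingGroup (Fin 5) := by
  rw [Equiv.Perm.mem_alternatingGroup]; decide

theorem hasK_A5 {M : Subgroup G} (e : Nonempty (M ≃* alternatingGroup (Fin 5))) : HasK M := by
  obtain ⟨e⟩ := e
  exact HasK.of_equiv e.symm (x := ⟨qa, qa_mem⟩) (y := ⟨qb, qb_mem⟩)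
    (commInv_of_map (f := (alternatingGroup (Fin 5)).subtype) (Subgroup.subtype_injective _) qab)

theorem has3_A5 {M : Subgroup G} (e : Nonempty (M ≃* alternatingGroup (Fin 5))) : Has3 M := by
  obtain ⟨e⟩ := e
  refine Has3.of_equiv e.symm (x := ⟨qx, qx_mem⟩) (y := ⟨qy, qy_mem⟩) (Subtype.ext (by decide : qx ^ 3 = 1))
    (Subtype.ext (by decide : qy ^ 3 = 1)) ?_
  intro h
  exact absurd (congrArg Subtype.val h) (by decide : qx * qy ≠ qy * qx)

theorem not_iso_dihedral {A B : Subgroup G} (hA : Has3 A) (hB : ∃ n, Nonempty (B ≃* DihedralGroup n)) :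
    ¬ Nonempty (A ≃* B) := by
  rintro ⟨e⟩
  obtain ⟨n, ⟨e'⟩⟩ := hB
  obtain ⟨x, hx, y, hy, hx3, hy3, hxy⟩ := hA
  exact hxy (dihedral_comm_three (e.trans e') hx hy hx3 hy3)

theorem not_iso_dihedral' {A B : Subgroup G} (hA : Has3 A) (hB : ∃ n, Nonempty (B ≃* DihedralGroup n)) :
    ¬ Nonempty (B ≃* A) := fun ⟨e⟩ => not_iso_dihedral hA hB ⟨e.symm⟩

end general

variable {F : Type*} [Field F]

theorem gcd_odd {q : ℕ} (hodd : Odd q) : Nat.gcd 2 (q - 1) = 2 := by
  apply Nat.gcd_eq_left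
  obtain ⟨j, hj⟩ := hodd
  exact ⟨j, by omega⟩

theorem exists_Dp [Fintype F] (hodd : Odd (Fintype.card F)) (h7 : Fintype.card F ≠ 7) (h9 : Fintype.card F ≠ 9) :
    ∃ M : Subgroup (PSL F), IsCoatom M ∧ Nat.card M = Fintype.card F + 1 ∧
      Nonempty (M ≃* DihedralGroup ((Fintype.card F + 1) / 2)) := by
  obtain ⟨H, h1, ⟨e⟩⟩ := Cfsg.Agent.S0811.result (F := F) rfl (by
    intro h
    simp only [Finset.mem_insert, Finset.mem_singleton] at h
    rcases h with h | h | h
    · rw [h] at hodd; exact absurd hodd (by decide)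
    · exact h7 h
    · exact h9 h)
  rw [gcd_odd hodd] at e
  refine ⟨H, h1, ?_, ⟨e⟩⟩
  rw [Nat.card_congr e.toEquiv, DihedralGroup.nat_card]
  obtain ⟨j, hj⟩ := hodd
  omega

theorem exists_Dm [Fintype F] (hodd : Odd (Fintype.card F)) (h13 : 13 ≤ Fintype.card F) :
    ∃ M : Subgroup (PSL F), IsCoatom M ∧ Nat.card M = Fintype.card F - 1 ∧
      Nonempty (M ≃* DihedralGroup ((Fintype.card F - 1) / 2)) := by
  obtain ⟨H, h1, ⟨e⟩⟩ := Cfsg.Agent.S0812.result (F := F) rfl (by
    intro h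
    simp only [Finset.mem_insert, Finset.mem_singleton] at h
    omega)
  rw [gcd_odd hodd] at e
  refine ⟨H, h1, ?_, ⟨e⟩⟩
  rw [Nat.card_congr e.toEquiv, DihedralGroup.nat_card]
  obtain ⟨j, hj⟩ := hodd
  omega

/-- `PGL₂(k)`, `|F| = |k| ^ 2` -/
theorem exists_PG [Fintype F] (hodd : Odd (Fintype.card F)) {k : Subfield F} (hk : Nat.card F = Nat.card k ^ 2) :
    ∃ M : Subgroup (PSL F), IsCoatom M ∧ Nat.card M + Nat.card k = Nat.card k ^ 3 := by
  letI : Fintype k := Fintype.ofFinite k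
  have hoddk := odd_subfield hodd k
  rw [Nat.card_eq_fintype_card] at hoddk
  obtain ⟨H, h1, ⟨e⟩⟩ := Cfsg.Agent.S5941.result (F := F) (K := k) (Fintype.card k) rfl
    (by rw [← Nat.card_eq_fintype_card, hk, Nat.card_eq_fintype_card]) hoddk
  refine ⟨H, h1, ?_⟩
  rw [Nat.card_congr e.toEquiv, Nat.card_eq_fintype_card (α := k)]
  exact card_PGL_cube (F := k)

/-- `PSL₂(k)`, `|F| = |k| ^ r`, `r` an odd prime -/
theorem exists_PS [Fintype F] (hodd : Odd (Fintype.card F)) {k : Subfield F} {r : ℕ} (hr : r.Prime) (hr2 : r ≠ 2)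
    (hk : Nat.card F = Nat.card k ^ r) :
    ∃ M : Subgroup (PSL F), IsCoatom M ∧ 2 * Nat.card M + Nat.card k = Nat.card k ^ 3 := by
  letI : Fintype k := Fintype.ofFinite k
  have hoddk := odd_subfield hodd k
  rw [Nat.card_eq_fintype_card] at hoddk
  obtain ⟨H, h1, ⟨e⟩⟩ := Cfsg.Agent.S5942.result (F := F) (K := k) (Fintype.card k) r rfl
    (by rw [← Nat.card_eq_fintype_card, hk, Nat.card_eq_fintype_card]) hoddk hr hr2
  refine ⟨H, h1, ?_⟩
  rw [Nat.card_congr e.toEquiv, Nat.card_eq_fintype_card (α := k)]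
  exact two_card_PSL (F := k) hoddk

theorem norm_S4 [Fintype F] (p : ℕ) [Fact p.Prime] [CharP F p] (hodd : Odd (Fintype.card F))
    (h5 : 5 ≤ Fintype.card F) {M : Subgroup (PSL F)} (hM : IsCoatom M) (e : Nonempty (M ≃* Equiv.Perm (Fin 4)))
    (x : PGL F) (hxM : cj x (M.map (ta : PSL F →* PGL F)) = M.map ta) : x ∈ LL F := by
  have hc : Nat.card M = 24 := by
    obtain ⟨e⟩ := e
    rw [Nat.card_congr e.toEquiv, card_S4]
  refine norm_klein p hodd h5 hM (hasK_S4 e) (has3_S4 e) (by rw [hc]; norm_num) (fun k => ?_) x hxM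
  rw [hc]
  generalize Nat.card k = z
  have key : ∀ z : ℕ, 6 ≤ z → 96 + z < z ^ 3 := by
    intro z hz
    have : z ^ 3 = z * (z * z) := by ring
    have h1 : 36 ≤ z * z := Nat.mul_le_mul hz hz
    rw [this]
    nlinarith only [h1]
  by_cases hz : 6 ≤ z
  · have := key z hz
    omega
  · interval_cases z <;> omega

theorem norm_A5 [Fintype F] (p : ℕ) [Fact p.Prime] [CharP F p] (hp5 : p ≠ 5) (hodd : Odd (Fintype.card F))
    (h5 : 5 ≤ Fintype.card F) {M : Subgroup (PSL F)} (hM : IsCoatom M)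
    (e : Nonempty (M ≃* alternatingGroup (Fin 5)))
    (x : PGL F) (hxM : cj x (M.map (ta : PSL F →* PGL F)) = M.map ta) : x ∈ LL F := by
  have hc : Nat.card M = 60 := by
    obtain ⟨e⟩ := e
    rw [Nat.card_congr e.toEquiv, card_A5]
  refine norm_klein p hodd h5 hM (hasK_A5 e) (has3_A5 e) (by rw [hc]; norm_num) (fun k => ?_) x hxM
  rw [hc]
  have hk5 : Nat.card k ≠ 5 := by
    intro h
    letI : Fintype k := Fintype.ofFinite k
    obtain ⟨a, -, ha⟩ := FiniteField.card k p
    rw [← Nat.card_eq_fintype_card, h] at ha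
    have h1 : p ∣ 5 := by
      rw [ha]
      exact dvd_pow_self p a.ne_zero
    exact hp5 ((Nat.prime_dvd_prime_iff_eq Fact.out Nat.prime_five).1 h1)
  generalize Nat.card k = z at *
  have key : ∀ z : ℕ, 7 ≤ z → 240 + z < z ^ 3 := by
    intro z hz
    have : z ^ 3 = z * (z * z) := by ring
    have h1 : 49 ≤ z * z := Nat.mul_le_mul hz hz
    rw [this]
    nlinarith only [h1]
  by_cases hz : 7 ≤ z
  · have := key z hz
    omega
  · interval_cases z <;> omega

end Cfsg.Agent.H807.MaxPSL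
end
end

-- part: H940/SepTyp
section
set_option linter.all false
open scoped Cfsg.Agent.FastGrp

/-!
# Classes of maximal subgroups of the groups of Lie type (helper940)

`sep_typ_add` : a group `K` with a root group datum of rank `l` (`HasRGDT`) has at least `l + k` classes of maximal
subgroups if there are `k` pairwise apart proper subgroups which are apart from a Borel subgroup `N(S)`, `S ∈ Syl_p(K)`.
`apart_borel_of_coatom` : a maximal subgroup of index divisible by `p` is apart from `N(S)`.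
-/

set_option autoImplicit false

namespace Cfsg.Agent.H940.SepTyp

open Subgroup Cfsg.Agent.H940 Cfsg.Agent.H940.MaxCls Cfsg.Agent.Omega.ML.Ex.Typ Cfsg.Agent.H744.SepRgd
open CoxeterSystem Cfsg.Agent.ChevalleyStructure.CoxeterGeom Cfsg.Agent.Tits.Roots Cfsg.Agent.Tits.Core
  Cfsg.Agent.Tits.RootComb Cfsg.Agent.Tits.Exchange Cfsg.Agent.Nodes.Reps Cfsg.Agent.Nodes.BNOf
  Cfsg.Agent.Nodes.StabComb Cfsg.Agent.Nodes.Bruhat Cfsg.Agent.Nodes.OppDec Cfsg.Agent.Nodes.LeviDec
  Cfsg.Agent.KFacts.RgdAut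

universe u

/-- joining two families -/
theorem sep_append {G : Type u} [Group G] {n k : ℕ} {A : Fin n → Subgroup G} {D : Fin k → Subgroup G}
    (hA : ∀ i, A i ≠ ⊤) (hD : ∀ i, D i ≠ ⊤) (hAA : ∀ i j, i < j → Apart (A i) (A j))
    (hDD : ∀ i j, i < j → Apart (D i) (D j)) (hAD : ∀ i j, Apart (A i) (D j)) : Sep (n + k) G := by
  refine ⟨Fin.append A D, fun i => ?_, fun i j => ?_⟩
  · refine Fin.addCases (fun i => ?_) (fun i => ?_) i
    · rw [Fin.append_left]; exact hA i
    · rw [Fin.append_right]; exact hD i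
  · refine Fin.addCases (fun i => ?_) (fun i => ?_) i
    · refine Fin.addCases (fun j => ?_) (fun j => ?_) j
      · intro hij
        rw [Fin.append_left, Fin.append_left]
        refine hAA i j ?_
        rw [Fin.lt_def, Fin.val_castAdd, Fin.val_castAdd] at hij
        rw [Fin.lt_def]
        exact hij
      · intro _
        rw [Fin.append_left, Fin.append_right]
        exact hAD i j
    · refine Fin.addCases (fun j => ?_) (fun j => ?_) j
      · intro hij
        exfalso
        rw [Fin.lt_def, Fin.val_natAdd, Fin.val_castAdd] at hij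
        omega
      · intro hij
        rw [Fin.append_right, Fin.append_right]
        refine hDD i j ?_
        rw [Fin.lt_def, Fin.val_natAdd, Fin.val_natAdd] at hij
        rw [Fin.lt_def]
        omega

/-- a maximal subgroup of index divisible by `p` -/
theorem apart_borel_of_coatom {K : Type u} [Group K] [Finite K] {p : ℕ} [Fact p.Prime] (S : Sylow p K) {D : Subgroup K}
    (hD : IsCoatom D) (hp : p ∣ D.index) : Apart (normalizer ((S : Subgroup K) : Set K)) D := by
  refine (apart_of_coatom hD fun g => ?_).symm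
  by_contra hc
  push Not at hc
  have h1 : Nat.card (S : Subgroup K) ∣ Nat.card D := by
    rw [← card_map_conj g]
    exact card_dvd_of_le (map_conj_le fun x hx => hc x (le_normalizer hx))
  obtain ⟨m, hm⟩ := h1
  have h2 : (S : Subgroup K).index = m * D.index := by
    have h3 := card_mul_index D
    rw [hm, ← card_mul_index (S : Subgroup K), mul_assoc] at h3
    exact (Nat.eq_of_mul_eq_mul_left Nat.card_pos h3).symm
  exact S.not_dvd_index (by rw [h2]; exact Dvd.dvd.mul_left hp m)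

theorem conj_normalizer {G : Type u} [Group G] {p : ℕ} (P : Sylow p G) {g x : G}
    (hx : x ∈ normalizer (((g • P : Sylow p G) : Subgroup G) : Set G)) :
    g⁻¹ * x * g ∈ normalizer ((P : Subgroup G) : Set G) := by
  rw [mem_normalizer_iff] at hx ⊢
  intro y
  have h4 := hx (g * y * g⁻¹)
  have e1 : (g * y * g⁻¹ ∈ (((g • P : Sylow p G) : Subgroup G) : Set G)) ↔ y ∈ (P : Subgroup G) := by
    rw [SetLike.mem_coe, Sylow.coe_subgroup_smul, mem_pointwise_smul_iff_inv_smul_mem]
    have : (MulAut.conj g)⁻¹ • (g * y * g⁻¹) = y := by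
      rw [← map_inv]
      show g⁻¹ * (g * y * g⁻¹) * g⁻¹⁻¹ = y
      group
    rw [this]
  have e2 : (x * (g * y * g⁻¹) * x⁻¹ ∈ (((g • P : Sylow p G) : Subgroup G) : Set G)) ↔
      g⁻¹ * x * g * y * (g⁻¹ * x * g)⁻¹ ∈ (P : Subgroup G) := by
    rw [SetLike.mem_coe, Sylow.coe_subgroup_smul, mem_pointwise_smul_iff_inv_smul_mem]
    have : (MulAut.conj g)⁻¹ • (x * (g * y * g⁻¹) * x⁻¹) = g⁻¹ * x * g * y * (g⁻¹ * x * g)⁻¹ := by
      rw [← map_inv]
      show g⁻¹ * (x * (g * y * g⁻¹) * x⁻¹) * g⁻¹⁻¹ = _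
      group
    rw [this]
  rw [SetLike.mem_coe] at e1 e2
  exact (e1.symm.trans h4).trans e2

/-- **`l + k` classes** -/
theorem sep_typ_add {p l : ℕ} [Fact p.Prime] {M : CoxeterMatrix (Fin l)} {K : Type u} [Group K] [Finite K]
    (hK : HasRGDT p M K) (S : Sylow p K) {k : ℕ} (D : Fin k → Subgroup K) (hne : ∀ i, D i ≠ ⊤)
    (hpw : ∀ i j, i < j → Apart (D i) (D j)) (hS : ∀ i, Apart (normalizer ((S : Subgroup K) : Set K)) (D i)) :
    Sep (l + k) K := by
  obtain ⟨A, h, T, n, X, hW, R, hX⟩ := hK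
  have hG := Cfsg.Agent.KFacts.RgdFilt.GG_eq_top (T := T) hX
  -- the Borel subgroup contains the normalizer of a Sylow subgroup
  set U : Subgroup K := RGD.Sup X (RGD.Pos M.toCoxeterSystem h) with hU
  have hpU : IsPGroup p ↥U := R.isPGroup_Upos
  have hndvd : ¬ p ∣ U.index := by
    have := KFacts.RgdSyl.not_dvd_relIndex R
    rwa [hG, Subgroup.relIndex_top_right] at this
  obtain ⟨P, hP⟩ : ∃ P : Sylow p K, (P : Subgroup K) = U := ⟨hpU.toSylow hndvd, rfl⟩
  have hN : normalizer ((P : Subgroup K) : Set K) ≤ RGD.B M.toCoxeterSystem h T X := by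
    intro g hg
    refine mem_of_conj_le R hG le_rfl fun x hx => ?_
    refine RGD.U_le_B ?_
    rw [hP] at hg
    exact (mem_normalizer_iff.1 hg x).1 hx
  obtain ⟨g, hg⟩ := MulAction.exists_smul_eq K P S
  have hD : ∀ (i : Fin (Fintype.card (Fin l))) (j : Fin k), Apart (mp M.toCoxeterSystem h T X i) (D j) := by
    intro i j
    refine ((hS j).symm.conj_right g⁻¹ fun x hx => ?_).symm
    rw [inv_inv]
    refine B_le_PJ (hN ?_)
    rw [← hg] at hx
    exact conj_normalizer P hx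
  have h1 := sep_append (mp_ne_top R hG) hne (fun i j hij => apart_mp R hG hij.ne) hpw hD
  rwa [Fintype.card_fin] at h1

/-- two not conjugate maximal subgroups -/
theorem apart_of_not_conj {G : Type u} [Group G] [Finite G] {A B : Subgroup G} (hA : IsCoatom A) (hB : IsCoatom B)
    (h : ∀ g : G, Subgroup.map (MulAut.conj g).toMonoidHom A ≠ B) : Apart A B := by
  refine apart_of_coatom hA fun g => ?_
  by_contra hc
  push Not at hc
  have h1 : Subgroup.map (MulAut.conj g).toMonoidHom B ≤ A := map_conj_le hc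
  have h2 : IsCoatom (Subgroup.map (MulAut.conj g).toMonoidHom B) :=
    (OrderIso.isCoatom_iff (MulAut.conj g).mapSubgroup B).2 hB
  have h3 : Subgroup.map (MulAut.conj g).toMonoidHom B = A := by
    rcases eq_or_lt_of_le h1 with h3 | h3
    · exact h3
    · exact absurd (h2.2 A h3) hA.1
  apply h g⁻¹
  ext x
  rw [mem_map_conj, inv_inv, ← h3, mem_map_conj]
  have : g⁻¹ * (g * x * g⁻¹) * g = x := by group
  rw [this]

/-- rank `l` and `k` not conjugate maximal subgroups of index divisible by `p` -/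
theorem sep_typ_coatoms {p l : ℕ} [hp : Fact p.Prime] {M : CoxeterMatrix (Fin l)} {K : Type u} [Group K] [Finite K]
    (hK : HasRGDT p M K) {k : ℕ} (D : Fin k → Subgroup K) (hco : ∀ i, IsCoatom (D i))
    (hnc : ∀ i j, i < j → ∀ g : K, Subgroup.map (MulAut.conj g).toMonoidHom (D i) ≠ D j)
    (hi : ∀ i, p ∣ (D i).index) : Sep (l + k) K := by
  obtain ⟨S⟩ : Nonempty (Sylow p K) := inferInstance
  exact sep_typ_add hK S D (fun i => (hco i).1) (fun i j hij => apart_of_not_conj (hco i) (hco j) (hnc i j hij))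
    fun i => apart_borel_of_coatom S (hco i) (hi i)

/-- rank `l`, `k` not conjugate maximal subgroups of index divisible by `p`, and one more subgroup `E` which is in no
conjugate of them and in no proper subgroup containing a Borel subgroup -/
theorem sep_typ_coatoms_succ {p l : ℕ} [hp : Fact p.Prime] {M : CoxeterMatrix (Fin l)} {K : Type u} [Group K] [Finite K]
    (hK : HasRGDT p M K) (S : Sylow p K) {k : ℕ} (D : Fin k → Subgroup K) (hco : ∀ i, IsCoatom (D i))
    (hnc : ∀ i j, i < j → ∀ g : K, Subgroup.map (MulAut.conj g).toMonoidHom (D i) ≠ D j)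
    (hi : ∀ i, p ∣ (D i).index) {E : Subgroup K} (hE : E ≠ ⊤)
    (hED : ∀ i, ∀ g : K, ∃ x ∈ E, g * x * g⁻¹ ∉ D i) (hES : Apart (normalizer ((S : Subgroup K) : Set K)) E) :
    MaxCls.Sep (l + (k + 1)) K := by
  refine sep_typ_add hK S (Fin.snoc (α := fun _ => Subgroup K) D E) (fun i => ?_) (fun i j hij => ?_) fun i => ?_
  · refine Fin.lastCases ?_ (fun i => ?_) i
    · rw [Fin.snoc_last]; exact hE
    · rw [Fin.snoc_castSucc]; exact (hco i).1
  · revert hij
    refine Fin.lastCases ?_ (fun j => ?_) j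
    · intro hij
      refine Fin.lastCases (fun hij => absurd hij (lt_irrefl _)) (fun i _ => ?_) i hij
      rw [Fin.snoc_castSucc, Fin.snoc_last]
      exact apart_of_coatom (hco i) (hED i)
    · intro hij
      refine Fin.lastCases (fun hij => ?_) (fun i hij => ?_) i hij
      · exact absurd (hij.trans (Fin.castSucc_lt_last j)) (lt_irrefl _)
      · rw [Fin.snoc_castSucc, Fin.snoc_castSucc]
        exact apart_of_not_conj (hco i) (hco j) (hnc i j (by simpa using hij))
  · refine Fin.lastCases ?_ (fun i => ?_) i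
    · rw [Fin.snoc_last]; exact hES
    · rw [Fin.snoc_castSucc]; exact apart_borel_of_coatom S (hco i) (hi i)

end Cfsg.Agent.H940.SepTyp
end
end
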