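import Mathlib
import Cfsg.Agent.H148.Oct.Quat_m3
import Cfsg.Agent.H62.PPChev
import Cfsg.Agent.GenExc.TwE
import Cfsg.Agent.H946.ExcNum_m3
import Cfsg.Agent.KFacts.RgdFilt
import Cfsg.Agent.S1035
import Cfsg.Agent.S1062
import Cfsg.Agent.S1066
import Cfsg.Agent.H950.MCThreeA
import Cfsg.Agent.H876.SingMax
import Cfsg.Agent.H876.NondegMax
import Cfsg.Agent.H876.FrameSmall
import Cfsg.Agent.LieClassical.SUBasic
import Cfsg.Agent.H812.D4.Fin
import Cfsg.Agent.Cit.HexD4
import Cfsg.Agent.KFacts.RgdSyl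
import Cfsg.Agent.ChevalleyStructure.TwD4Card
import Cfsg.Agent.Nodes.RGDTwD4
import Cfsg.Agent.S1067
import Cfsg.Agent.S1106
import Cfsg.Agent.H395.EPM.Perm_m3
import Cfsg.Agent.H964.NoHall.RowsM
import Cfsg.Agent.S1607
import Cfsg.Agent.S1608
import Cfsg.Agent.S1639
import Cfsg.Agent.S1566
import Cfsg.Agent.S0361
import Cfsg.Agent.S0360
import Cfsg.Agent.H940.EngData
import Cfsg.Agent.H715.Fpr.Row4_m3
import Cfsg.Agent.H322.Eng.CoThirteen_m3
import Cfsg.Agent.H689.SporCo12
import Cfsg.Agent.CoOneType.GenCrit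
import Cfsg.Agent.ConwayFacts.AutCo1
import Cfsg.Agent.H904.McLCent
import Cfsg.Agent.Schreier.McLaughlin
import Cfsg.Agent.H973.SepHN.ChkF_m3
import Cfsg.Agent.H904.HSIso
import Cfsg.Agent.Fischer.Fi22Order
import Cfsg.Agent.H940.MaxCls
import Cfsg.Agent.H950.MCGeom_mg_m3
import Cfsg.Agent.H761.SzCls
import Cfsg.Agent.H963.ReeFive
import Cfsg.Agent.H940.MCAssemble_m3
import Cfsg.Agent.S5774
import Cfsg.Agent.S5775
import Cfsg.Agent.S5776
import Cfsg.Agent.H933.TitsSep
import Cfsg.Agent.H148.Oct.SepG2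
import Cfsg.Agent.H867.Max.MTwentyFour
import Cfsg.Agent.H305.SepJ1
import Cfsg.Agent.H305.SepJ2_mg
import Cfsg.Agent.H305.SepJ3
import Cfsg.Agent.H940.RowJ4
import Cfsg.Agent.H966.Gen.CoTwo
import Cfsg.Agent.H970.Sep.RowCo3
import Cfsg.Agent.H147.Fpr.Suz
import Cfsg.Agent.H70.RowHe
import Cfsg.Agent.H147.Fpr.RuOdd
import Cfsg.Agent.H493.Sep.RowON
import Cfsg.Agent.H493.Sep.RowLy_m3
import Cfsg.Agent.H303.MaxTh
import Cfsg.Agent.H961.SepFi23
import Cfsg.Agent.H835.Mon.Row
import Cfsg.Agent.FastGrp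
import Cfsg.Agent.Prune
set_option linter.all false
prune_inst 0x7f00000000000000000000000000000000000000000000000000000000000000000000000000000000000000000000000000000000000000000000000000000000000000000000000000000000000000003fffffffffffffffffffffffffffbeffbdffffffff
open scoped Cfsg.Agent.FastGrp

-- part: H744/SepExc
section
/-!
# Five pairwise apart subgroups in `E₆, E₇, E₈, F₄, ²E₆` (helper744, for S5906, S5907)
-/

set_option autoImplicit false
set_option linter.unusedSectionVars false
set_option linter.unusedVariables false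

namespace Cfsg.Agent.H744.SepExc

open Cfsg.Agent.H940
open CoxeterSystem Cfsg.Agent.ChevalleyStructure.CoxeterGeom Cfsg.Agent.Tits.Roots Cfsg.Agent.Tits.Core
  Cfsg.Agent.Tits.RootComb Cfsg.Agent.Tits.Exchange Cfsg.Agent.Nodes.Reps Cfsg.Agent.Nodes.BNOf
  Cfsg.Agent.Nodes.StabComb Cfsg.Agent.Nodes.Bruhat Cfsg.Agent.Nodes.OppDec Cfsg.Agent.Nodes.LeviDec
  Cfsg.Agent.H436 Cfsg.Agent.H744.SepRgd

universe u

/-! ### the rank five and more: only parabolic subgroups -/

section Chev

open Cfsg.Lie Cfsg.Agent.ChevalleyStructure Cfsg.Agent.Nodes.RGDChev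

theorem sep_chev {D : ChevalleyDatum} {l : ℕ} {M : CoxeterMatrix (Fin l)} (hp : IsType D l M) (K : Type u)
    [Field K] [Finite K] : MaxCls.Sep l ↥(D.group K) := by
  obtain ⟨p, hpK⟩ := CharP.exists K
  have : Fact p.Prime := ⟨CharP.char_is_prime K p⟩
  have hW := finite_W hp M.toCoxeterSystem
  have R := rgd (K := K) hp M.toCoxeterSystem p
  have h1 := sep_of_rgd' R (Cfsg.Agent.KFacts.RgdFilt.GG_eq_top (G1_eq_top hp M.toCoxeterSystem))
  rwa [Fintype.card_fin] at h1

theorem e6 (F : Type) [Field F] [Fintype F] : MaxCls.Sep 5 ↥(chevE6.group F) :=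
  (sep_chev (D := chevE6) (l := 6) (M := CoxeterMatrix.E₆) (by simp [IsType, typeList]) F).mono (by norm_num)

theorem e7 (F : Type) [Field F] [Fintype F] : MaxCls.Sep 5 ↥(chevE7.group F) :=
  (sep_chev (D := chevE7) (l := 7) (M := CoxeterMatrix.E₇) (by simp [IsType, typeList]) F).mono (by norm_num)

theorem e8 (F : Type) [Field F] [Fintype F] : MaxCls.Sep 5 ↥(chevE8.group F) :=
  (sep_chev (D := chevE8) (l := 8) (M := CoxeterMatrix.E₈) (by simp [IsType, typeList]) F).mono (by norm_num)

end Chev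

/-! ### one more subgroup -/

section Tab

variable {W Y : Type*} [Group W] [Group Y] {r : ℕ} {M : CoxeterMatrix (Fin r)}
  {cs : CoxeterSystem M W} {A : Fin r → Fin r → ℤ} {h : IsCartan M A} {p : ℕ} {T : Subgroup Y} {n : Fin r → Y}
  {X : (Fin r → ℤ) → Subgroup Y}

/-- the exponent of `q` in the order of the unipotent part of the Levi subgroup of `J` -/
def ex (rts : List (Fin r → ℤ)) (wt : (Fin r → ℤ) → ℕ) (J : Finset (Fin r)) : ℕ :=
  ((rts.filter fun x => (∀ k, 0 ≤ x k) ∧ ∀ k, k ∉ J → x k = 0).map wt).sum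

/-- `J` is connected -/
def Cn (M : Fin r → Fin r → ℕ) (J : Finset (Fin r)) : Prop :=
  ∀ J₁ ∈ J.powerset, J₁.Nonempty → J₁ ≠ J → ∃ a ∈ J₁, ∃ b ∈ J, b ∉ J₁ ∧ M a b ≠ 2

instance (M : Fin r → Fin r → ℕ) (J : Finset (Fin r)) : Decidable (Cn M J) := by
  unfold Cn; infer_instance

theorem card_UJ (R : RGD cs h p T n X) [Finite W] {q : ℕ} {rts : List (Fin r → ℤ)} {wt : (Fin r → ℤ) → ℕ}
    (hnd : rts.Nodup) (hr : ∀ x, IsRoot cs h x ↔ x ∈ rts) (hX : ∀ x, IsRoot cs h x → Nat.card (X x) = q ^ wt x)
    (J : Finset (Fin r)) : Nat.card (RGD.Sup X (PosJ cs h (J : Set (Fin r)))) = q ^ ex rts wt J := by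
  classical
  set L := rts.filter fun x => (∀ k, 0 ≤ x k) ∧ ∀ k, k ∉ J → x k = 0 with hL
  have hs : ((L.toFinset : Finset (Fin r → ℤ)) : Set (Fin r → ℤ)) = PosJ cs h (J : Set (Fin r)) := by
    ext x
    rw [Finset.mem_coe, List.mem_toFinset, hL, List.mem_filter, ← hr]
    simp only [decide_eq_true_eq]
    exact Iff.rfl
  have h1 := Nodes.CardSup.card_sup R (s := L.toFinset) (by
    rw [hs]
    exact fun x hx => ⟨hx.1, hx.2.1⟩) (by
    rw [hs]
    exact fun x hx y hy z hz => ⟨hz.1, btwn_nonneg hz hx.2.1 hy.2.1, fun k hk =>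
      btwn_apply_zero hz (hx.2.2 k hk) (hy.2.2 k hk)⟩)
  rw [hs] at h1
  rw [h1]
  have h2 : ∏ x ∈ L.toFinset, Nat.card (X x) = ∏ x ∈ L.toFinset, q ^ wt x := by
    refine Finset.prod_congr rfl fun x hx => hX x ?_
    have : x ∈ PosJ cs h (J : Set (Fin r)) := by rw [← hs]; exact hx
    exact this.1
  rw [h2, Finset.prod_pow_eq_pow_sum]
  congr 1
  unfold ex
  rw [← hL]
  exact List.sum_toFinset wt (hnd.filter _)

/-- **the criterion** -/
theorem sep_of_tab (R : RGD cs h p T n X) [Finite W] [Finite Y] [Fact p.Prime] (hG : GG cs h T X = ⊤)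
    {q e u : ℕ} (hu : Prim q e u) (he : 2 ≤ e) (hq : 0 < q) (hpq : p ∣ q) (hT : ¬ u ∣ Nat.card T) (hY : u ∣ Nat.card Y) (hpY : p ∣ Nat.card Y)
    {rts : List (Fin r → ℤ)} {wt : (Fin r → ℤ) → ℕ} (hnd : rts.Nodup) (hr : ∀ x, IsRoot cs h x ↔ x ∈ rts)
    (hX : ∀ x, IsRoot cs h x → Nat.card (X x) = q ^ wt x)
    (hJ : ∀ J : Finset (Fin r), J.Nonempty → J ≠ Finset.univ → Cn (fun a b => M a b) J →
      (J.card % 2 = 0 ∧ ¬ e ∣ ex rts wt J) ∨ (J.card % 2 = 1 ∧ (¬ e ∣ 2 * ex rts wt J ∨ e ∣ ex rts wt J))) :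
    MaxCls.Sep (r + 1) Y := by
  classical
  have hup : u ≠ p := by
    rintro rfl
    exact hu.not_dvd hpq
  have : Fact u.Prime := ⟨hu.prime⟩
  obtain ⟨x, hx⟩ := exists_prime_orderOf_dvd_card' u hY
  have hcard : Nat.card (Subgroup.zpowers x) = u := by rw [Nat.card_zpowers, hx]
  have h1 := sep_succ_of_rgd' R hG (D := Subgroup.zpowers x) ?_ ?_
  · rwa [Fintype.card_fin] at h1
  · intro htop
    rw [htop, Subgroup.card_top] at hcard
    rw [hcard] at hpY
    exact hup ((Nat.prime_dvd_prime_iff_eq Fact.out hu.prime).1 hpY).symm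
  · intro g K hK hle
    refine H396.Crit.not_dvd_card R hu.prime hup hT ?_ hK hle (by rw [hcard])
    intro J hne huniv hconn hd
    rw [card_UJ R hnd hr hX] at hd
    rcases hJ J hne huniv (fun J₁ h1 => hconn J₁ (Finset.mem_powerset.1 h1)) with ⟨h2, h3⟩ | ⟨h2, h3⟩
    · have h4 : (-1 : ℤ) ^ J.card = 1 := Even.neg_one_pow (Nat.even_iff.2 h2)
      rw [h4] at hd
      apply hu.not_dvd_sub h3
      have h5 : ((q ^ ex rts wt J - 1 : ℕ) : ℤ) = ((q ^ ex rts wt J : ℕ) : ℤ) - 1 := by
        rw [Nat.cast_sub (Nat.one_le_pow _ _ hq), Nat.cast_one]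
      rw [← h5] at hd
      exact_mod_cast hd
    · have h4 : (-1 : ℤ) ^ J.card = -1 := Odd.neg_one_pow (Nat.odd_iff.2 h2)
      rw [h4, sub_neg_eq_add] at hd
      have hd' : u ∣ q ^ ex rts wt J + 1 := by exact_mod_cast hd
      rcases h3 with h3 | h3
      · exact hu.not_dvd_add h3 hd'
      · have h5 := hu.dvd h3
        have h6 : 1 ≤ q ^ ex rts wt J := Nat.one_le_pow _ _ hq
        have h7 : u ∣ (q ^ ex rts wt J + 1) - (q ^ ex rts wt J - 1) := Nat.dvd_sub hd' h5
        have h8 : (q ^ ex rts wt J + 1) - (q ^ ex rts wt J - 1) = 2 := by omega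
        rw [h8] at h7
        have h9 := hu.odd he
        have h10 := (Nat.prime_dvd_prime_iff_eq hu.prime Nat.prime_two).1 h7
        omega

end Tab

/-! ### `F₄` -/

section FFour

open Cfsg.Lie Cfsg.Agent.ChevalleyStructure Cfsg.Agent.Nodes.RGDChev

/-- the roots of `F₄` -/
def rtsF : List (Fin 4 → ℤ) := (List.range 48).map (vec chevF4 4)

theorem rtsF_nodup : rtsF.Nodup := by decide +kernel

theorem nroots_F4 : chevF4.nroots = 48 := by decide +kernel

theorem tabF : ∀ J : Finset (Fin 4), J.Nonempty → J ≠ Finset.univ → Cn (fun a b => CoxeterMatrix.F₄ a b) J →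
      (J.card % 2 = 0 ∧ ¬ 12 ∣ ex rtsF (fun _ => 1) J) ∨ (J.card % 2 = 1 ∧ (¬ 12 ∣ 2 * ex rtsF (fun _ => 1) J ∨ 12 ∣ ex rtsF (fun _ => 1) J)) := by
  decide +kernel

theorem f4 (F : Type) [Field F] [Fintype F] : MaxCls.Sep 5 ↥(chevF4.group F) := by
  obtain ⟨p, hpK⟩ := CharP.exists F
  have hpf : Fact p.Prime := ⟨CharP.char_is_prime F p⟩
  have hp : IsType chevF4 4 CoxeterMatrix.F₄ := by simp [IsType, typeList]
  have hW := finite_W hp CoxeterMatrix.F₄.toCoxeterSystem
  have R := rgd (K := F) hp CoxeterMatrix.F₄.toCoxeterSystem p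
  have hG := Cfsg.Agent.KFacts.RgdFilt.GG_eq_top (T := (chevF4.diagonalSubgroup F).subgroupOf (chevF4.group F))
    (G1_eq_top (K := F) hp CoxeterMatrix.F₄.toCoxeterSystem)
  have hq2 : 2 ≤ Fintype.card F := Fintype.one_lt_card
  obtain ⟨u, hu⟩ := exists_prim (q := Fintype.card F) (e := 12) hq2 (by norm_num) (by omega)
  have hpq : p ∣ Fintype.card F := by
    obtain ⟨n, -, hn⟩ := FiniteField.card F p
    rw [hn]
    exact dvd_pow_self p n.2.ne'
  have hcard := S1062.result (F := F) rfl
  have hTc : Nat.card ↥((chevF4.diagonalSubgroup F).subgroupOf (chevF4.group F)) ∣ (Fintype.card F - 1) ^ 4 := by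
    have h1 := S1035.result (F := F) rfl (chevF4, 1) (by simp only [_root_.List.mem_cons, _root_.Prod.mk.injEq, _root_.and_true, _root_.List.not_mem_nil, _root_.or_false, _root_.true_or, _root_.or_true])
    have h2 : chevF4.rank = 4 := by decide +kernel
    rw [one_mul] at h1
    have h3 : Nat.card ↥((chevF4.diagonalSubgroup F).subgroupOf (chevF4.group F)) ∣
        Nat.card ↥(chevF4.diagonalSubgroup F) := by
      have h4 := Subgroup.card_comap_dvd_of_injective (chevF4.diagonalSubgroup F)
        (chevF4.group F).subtype (Subgroup.subtype_injective _)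
      exact h4
    exact h3.trans (by rw [h1, h2])
  refine sep_of_tab R hG hu (by norm_num) (by omega) hpq ?_ ?_ ?_ rtsF_nodup (fun x => ?_) (wt := fun _ => 1) (fun x hx => ?_) tabF
  · intro h1
    have h2 := hu.prime.dvd_of_dvd_pow (h1.trans hTc)
    refine hu.not_dvd_sub (m := 1) (by norm_num) ?_
    rwa [pow_one]
  · rw [hcard]
    exact (hu.dvd (dvd_refl 12)).mul_left _
  · rw [hcard]
    exact Dvd.dvd.mul_right (Dvd.dvd.mul_right (Dvd.dvd.mul_right (Dvd.dvd.mul_right
      (hpq.trans (dvd_pow_self _ (by norm_num))) _) _) _) _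
  · rw [isRoot_iff hp]
    unfold rtsF
    rw [List.mem_map, nroots_F4]
    constructor
    · rintro ⟨r, h1, h2⟩
      exact ⟨r, List.mem_range.2 h1, h2⟩
    · rintro ⟨r, h1, h2⟩
      exact ⟨r, List.mem_range.1 h1, h2⟩
  · rw [pow_one]
    exact H62.PPChev.card_X hp _ hx

end FFour

/-! ### `²E₆` -/

section TwE

open Cfsg.Lie Cfsg.Agent.ChevalleyStructure Cfsg.Agent.Nodes.RGDTwE6 Cfsg.Agent.KFacts.TwESix.Comb

/-- the weights -/
def wtE (z : Fin 4 → ℤ) : ℕ := if bf z z = 4 then 1 else 2

theorem rtsE_nodup : rts.Nodup := by decide +kernel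

theorem tabE : ∀ J : Finset (Fin 4), J.Nonempty → J ≠ Finset.univ → Cn (fun a b => CoxeterMatrix.F₄ a b) J →
      (J.card % 2 = 0 ∧ ¬ 12 ∣ ex rts wtE J) ∨ (J.card % 2 = 1 ∧ (¬ 12 ∣ 2 * ex rts wtE J ∨ 12 ∣ ex rts wtE J)) := by
  decide +kernel

theorem te6 (K : Type) [Field K] [Fintype K] (q : ℕ) (hq : IsPrimePow q) (hK : Fintype.card K = q ^ 2) :
    MaxCls.Sep 5 ↥(twistedE6 K q) := by
  obtain ⟨φ, hφ, hqq⟩ := TwE6Basic.exists_frob hq hK
  obtain ⟨p, hpK⟩ := CharP.exists K
  have hpf : Fact p.Prime := ⟨CharP.char_is_prime K p⟩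
  have hpq : p ∣ q := by
    have h1 : p ∣ Fintype.card K := by
      obtain ⟨n, -, h⟩ := FiniteField.card K p
      rw [h]
      exact dvd_pow_self _ n.ne_zero
    rw [hK] at h1
    exact hpf.out.dvd_of_dvd_pow h1
  have hq2 : 2 ≤ q := hq.two_le
  have hW : Finite CoxeterMatrix.F₄.Group := finiteW CoxeterMatrix.F₄.toCoxeterSystem
  have R := rgd CoxeterMatrix.F₄.toCoxeterSystem hφ hqq p
  have hG := Cfsg.Agent.KFacts.RgdFilt.GG_eq_top (T := T K q) (G1_eq_top CoxeterMatrix.F₄.toCoxeterSystem hφ hqq)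
  obtain ⟨u, hu⟩ := exists_prim (q := q) (e := 12) hq2 (by norm_num) (by omega)
  have hcard := S1066.result (K := K) hq hK
  have hTc : Nat.card ↥(T K q) ∣ (Fintype.card K - 1) ^ 6 := by
    have h1 := S1035.result (F := K) rfl (chevE6, Nat.gcd 3 (Fintype.card K - 1)) (by simp only [_root_.List.mem_cons, _root_.Prod.mk.injEq, _root_.List.not_mem_nil, _root_.or_false, _root_.true_or, _root_.or_true])
    have h2 : chevE6.rank = 6 := by decide +kernel
    have h3 : Nat.card ↥(T K q) ∣ Nat.card ↥(chevE6.diagonalSubgroup K) := by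
      have h4 := Subgroup.card_comap_dvd_of_injective (chevE6.diagonalSubgroup K ⊓ twistedE6 K q)
        (twistedE6 K q).subtype (Subgroup.subtype_injective _)
      exact Dvd.dvd.trans h4 (Subgroup.card_dvd_of_le inf_le_left)
    have h5 : Nat.card ↥(chevE6.diagonalSubgroup K) ∣ (Fintype.card K - 1) ^ 6 := by
      have h6 : Nat.gcd 3 (Fintype.card K - 1) * Nat.card ↥(chevE6.diagonalSubgroup K) =
        (Fintype.card K - 1) ^ chevE6.rank := h1
      have h7 : (Fintype.card K - 1) ^ chevE6.rank = (Fintype.card K - 1) ^ 6 := congrArg _ h2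
      exact ⟨_, by rw [← h7, ← h6, mul_comm]⟩
    exact h3.trans h5
  have hu3 : ¬ u ∣ Nat.gcd 3 (q + 1) := by
    intro h1
    refine hu.not_dvd_add (m := 1) (by norm_num) ?_
    rw [pow_one]
    exact h1.trans (Nat.gcd_dvd_right _ _)
  have hp3 : ¬ p ∣ Nat.gcd 3 (q + 1) := by
    intro h1
    have h2 := h1.trans (Nat.gcd_dvd_right _ _)
    have h3 := (Nat.dvd_add_right hpq).1 h2
    exact hpf.out.one_lt.ne' (Nat.dvd_one.1 h3)
  refine sep_of_tab R hG hu (by norm_num) (by omega) hpq ?_ ?_ ?_ rtsE_nodup (fun x => mem_rts _) (wt := wtE)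
    (fun x hx => ?_) tabE
  · intro h1
    have h2 := hu.prime.dvd_of_dvd_pow (h1.trans hTc)
    rw [hK] at h2
    exact hu.not_dvd_sub (m := 2) (by norm_num) h2
  · have h1 : u ∣ Nat.gcd 3 (q + 1) * Nat.card ↥(twistedE6 K q) := by
      rw [hcard]
      exact (hu.dvd (dvd_refl 12)).mul_left _
    exact (hu.prime.dvd_mul.1 h1).resolve_left hu3
  · have h1 : p ∣ Nat.gcd 3 (q + 1) * Nat.card ↥(twistedE6 K q) := by
      rw [hcard]
      simp only [mul_assoc]
      exact Dvd.dvd.mul_right (hpq.trans (dvd_pow_self _ (by norm_num))) _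
    exact (hpf.out.dvd_mul.1 h1).resolve_left hp3
  · exact Cfsg.Agent.GenExc.TwE.card_X hφ hqq p hq2 hK hx

end TwE

end Cfsg.Agent.H744.SepExc
end

-- part: H234/SepPSU
section
/-!
# At least five classes of maximal subgroups in `PSU_n(q)`, `n ≥ 5` (helper234, for S5906, S5907)

Subspace stabilisers are maximal (`H876.sing_maximal`, `H876.nondeg_maximal`), and so is the stabiliser of an orthonormal
frame for `n = 5` (`H876.FrameMax.frame_maximal_all`).  Here: they are pairwise not conjugate.
-/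

set_option autoImplicit false
set_option linter.unusedSectionVars false

namespace Cfsg.Agent.H234.SepPSU

open Cfsg Cfsg.Geo Cfsg.Agent.H940.MaxCls Cfsg.Agent.H918 Cfsg.Agent.H950.MC Cfsg.Agent.H876
open Cfsg.Agent.LieClassical.HermBasic Cfsg.Agent.ClassicalGeometry.UnitTransv
open Cfsg.Agent.ClassicalGeometry.HermOrtho
open scoped Matrix MatrixGroups

section pre

variable {F : Type*} [Field F] {n : ℕ}

/-- the preimage of a subspace -/
def pre (g : GL (Fin n) F) (W : Submodule F (Fin n → F)) : Submodule F (Fin n → F) :=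
  W.comap (Matrix.toLin' (g : Matrix (Fin n) (Fin n) F))

theorem mem_pre {g : GL (Fin n) F} {W : Submodule F (Fin n → F)} {v : Fin n → F} :
    v ∈ pre g W ↔ (g : Matrix (Fin n) (Fin n) F) *ᵥ v ∈ W := by
  rw [pre, Submodule.mem_comap, Matrix.toLin'_apply]

theorem gl_mul_inv (g : GL (Fin n) F) (w : Fin n → F) :
    (g : Matrix (Fin n) (Fin n) F) *ᵥ (((g⁻¹ : GL (Fin n) F) : Matrix (Fin n) (Fin n) F) *ᵥ w) = w := by
  rw [Matrix.mulVec_mulVec, ← Units.val_mul, mul_inv_cancel, Units.val_one, Matrix.one_mulVec]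

theorem gl_inj (g : GL (Fin n) F) {x y : Fin n → F}
    (h : (g : Matrix (Fin n) (Fin n) F) *ᵥ x = (g : Matrix (Fin n) (Fin n) F) *ᵥ y) : x = y := by
  have h1 := congrArg (fun z => ((g⁻¹ : GL (Fin n) F) : Matrix (Fin n) (Fin n) F) *ᵥ z) h
  simp only [Matrix.mulVec_mulVec, ← Units.val_mul, inv_mul_cancel, Units.val_one, Matrix.one_mulVec] at h1
  exact h1

theorem finrank_pre (g : GL (Fin n) F) (W : Submodule F (Fin n → F)) :
    Module.finrank F (pre g W) = Module.finrank F W := by
  have h : (pre g W).map (Matrix.toLin' (g : Matrix (Fin n) (Fin n) F)) = W := by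
    apply le_antisymm
    · rintro _ ⟨x, hx, rfl⟩
      exact hx
    · intro w hw
      refine ⟨((g⁻¹ : GL (Fin n) F) : Matrix (Fin n) (Fin n) F) *ᵥ w, ?_, ?_⟩
      · rw [SetLike.mem_coe, mem_pre, gl_mul_inv]
        exact hw
      · rw [Matrix.toLin'_apply, gl_mul_inv]
  have h2 := (Submodule.equivMapOfInjective (Matrix.toLin' (g : Matrix (Fin n) (Fin n) F))
    (fun x y hxy => gl_inj g hxy) (pre g W)).finrank_eq
  rw [h] at h2
  exact h2

theorem stab_pre {g x : GL (Fin n) F} {W : Submodule F (Fin n → F)} (h : g * x * g⁻¹ ∈ subspaceStabilizer W) :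
    ∀ w ∈ pre g W, (x : Matrix (Fin n) (Fin n) F) *ᵥ w ∈ pre g W := by
  intro w hw
  rw [mem_pre] at hw ⊢
  have h1 := (mem_stab_iff.1 h _).1 hw
  rw [Matrix.mulVec_mulVec, ← Units.val_mul, inv_mul_cancel_right] at h1
  rwa [Matrix.mulVec_mulVec, ← Units.val_mul]

/-- `V` is invariant under `B` -/
def Inv (B : Subgroup (GL (Fin n) F)) (V : Submodule F (Fin n → F)) : Prop :=
  ∀ x ∈ B, ∀ v ∈ V, (x : Matrix (Fin n) (Fin n) F) *ᵥ v ∈ V

/-- the criterion -/
theorem apart_of {S B : Subgroup (GL (Fin n) F)} {W : Submodule F (Fin n → F)}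
    (hA : IsMaximalIn S (subspaceStabilizer W ⊓ S)) (h : ∀ g ∈ S, ¬ Inv B (pre g W)) :
    ApartIn S (subspaceStabilizer W ⊓ S) B := by
  refine apartIn_of_max hA fun g hg => ?_
  by_contra hcon
  push Not at hcon
  exact h g hg fun x hx => stab_pre (hcon x hx).1

end pre

section herm

variable {F : Type*} [Field F] [Fintype F] {n q : ℕ} (hF : Fintype.card F = q ^ 2)
include hF

omit [Fintype F] hF in
theorem sing_pre {g : GL (Fin n) F} (hg : g ∈ GU n F q) {W : Submodule F (Fin n → F)}
    (hW : IsTotallySingularFor (hermForm n F q) W) : IsTotallySingularFor (hermForm n F q) (pre g W) := by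
  intro u hu v hv
  rw [mem_pre] at hu hv
  rw [← herm_gl hg]
  exact hW _ hu _ hv

omit [Fintype F] hF in
theorem nd_pre {g : GL (Fin n) F} (hg : g ∈ GU n F q) {W : Submodule F (Fin n → F)}
    (hW : Nd q W) : Nd q (pre g W) := by
  intro u hu h
  rw [mem_pre] at hu
  have h1 : (g : Matrix (Fin n) (Fin n) F) *ᵥ u = 0 := by
    refine hW _ hu fun v hv => ?_
    have h2 := h (((g⁻¹ : GL (Fin n) F) : Matrix (Fin n) (Fin n) F) *ᵥ v) (by rw [mem_pre, gl_mul_inv]; exact hv)
    rwa [← herm_gl hg, gl_mul_inv] at h2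
  exact gl_inj g (by rw [h1, Matrix.mulVec_zero])

/-- a transvection group preserving `V` -/
theorem mem_or_perp {B : Subgroup (GL (Fin n) F)} {V : Submodule F (Fin n → F)} (hV : Inv B V) {x : Fin n → F}
    (hx : hermForm n F q x x = 0) (hB : ∀ (c : F) (hc : c + c ^ q = 0), uGL hF x c hx hc ∈ B) :
    x ∈ V ∨ ∀ v ∈ V, hermForm n F q v x = 0 := by
  by_contra hcon
  push Not at hcon
  obtain ⟨h1, v, hv, hvx⟩ := hcon
  obtain ⟨c, hc0, hc⟩ := exists_trace_zero_ne hF
  have h2 := hV _ (hB c hc) v hv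
  rw [uGL_mulVec] at h2
  exact h1 ((Submodule.smul_mem_iff V (mul_ne_zero hc0 hvx)).1 ((Submodule.add_mem_iff_right V hv).1 h2))

theorem uGL_stab_perp {W : Submodule F (Fin n → F)} {x : Fin n → F} (hx : hermForm n F q x x = 0)
    (h : ∀ w ∈ W, hermForm n F q w x = 0) (c : F) (hc : c + c ^ q = 0) :
    uGL hF x c hx hc ∈ subspaceStabilizer W ⊓ SUg n F q := by
  refine ⟨mem_stab_of_le fun w hw => ?_, uGL_mem hF hx hc⟩
  rw [uGL_mulVec, h w hw, mul_zero, zero_smul, add_zero]
  exact hw

theorem uGL_stab_mem {W : Submodule F (Fin n → F)} {x : Fin n → F} (hx : hermForm n F q x x = 0)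
    (h : x ∈ W) (c : F) (hc : c + c ^ q = 0) :
    uGL hF x c hx hc ∈ subspaceStabilizer W ⊓ SUg n F q := by
  refine ⟨mem_stab_of_le fun w hw => ?_, uGL_mem hF hx hc⟩
  rw [uGL_mulVec]
  exact W.add_mem hw (W.smul_mem _ h)

/-- a vector orthogonal to `W` and not to `v` -/
theorem exists_perp_ne {W : Submodule F (Fin n → F)} {v : Fin n → F} (hv : v ∉ W) :
    ∃ y, (∀ w ∈ W, hermForm n F q w y = 0) ∧ hermForm n F q v y ≠ 0 := by
  obtain ⟨ℓ, hℓ, hℓW⟩ := Submodule.exists_le_ker_of_notMem hv
  refine ⟨fun i => (ℓ (Pi.single i 1)) ^ q, ?_⟩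
  have hx0 : ∀ x, hermForm n F q x (fun i => (ℓ (Pi.single i 1)) ^ q) = ℓ x := by
    intro x
    rw [herm_def]
    simp only [pow_q_pow_q hF]
    conv_rhs => rw [← Finset.univ_sum_single x]
    rw [map_sum]
    refine Finset.sum_congr rfl fun i _ => ?_
    have : (Pi.single i (x i) : Fin n → F) = x i • Pi.single i 1 := by
      rw [← Pi.single_smul, smul_eq_mul, mul_one]
    rw [this, map_smul, smul_eq_mul]
  refine ⟨fun w hw => ?_, ?_⟩
  · rw [hx0]
    exact hℓW hw
  · rw [hx0]
    exact hℓ

/-- invariant totally singular subspaces of the stabiliser of a totally singular subspace -/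
theorem le_of_sing {W V : Submodule F (Fin n → F)} (hW : IsTotallySingularFor (hermForm n F q) W)
    (hV : IsTotallySingularFor (hermForm n F q) V) (h : Inv (subspaceStabilizer W ⊓ SUg n F q) V) : V ≤ W := by
  have h1 : ∀ w ∈ W, ∀ v ∈ V, hermForm n F q v w = 0 := by
    intro w hw v hv
    rcases mem_or_perp hF h (hW w hw w hw) (uGL_stab_mem hF _ hw) with h2 | h2
    · exact hV v hv w h2
    · exact h2 v hv
  intro v hv
  by_contra hvW
  obtain ⟨y, hyW, hyv⟩ := exists_perp_ne hF hvW
  have hyv' : hermForm n F q y v ≠ 0 := fun h => hyv (herm_eq_zero_swap hF h)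
  obtain ⟨μ, hμ⟩ := Sing.exists_iso_add hF (hV v hv v hv) hyv'
  have h3 : ∀ w ∈ W, hermForm n F q w (y + μ • v) = 0 := by
    intro w hw
    rw [herm_add_right hF, herm_smul_right, hyW w hw, herm_eq_zero_swap hF (h1 w hw v hv), mul_zero, add_zero]
  have h4 : hermForm n F q v (y + μ • v) ≠ 0 := by
    rw [herm_add_right hF, herm_smul_right, hV v hv v hv, mul_zero, add_zero]
    exact hyv
  rcases mem_or_perp hF h hμ (uGL_stab_perp hF _ h3) with h2 | h2
  · exact h4 (hV v hv _ h2)
  · exact h4 (h2 v hv)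

/-- a vector orthogonal to all isotropic vectors of a non-degenerate subspace of dimension at least two is orthogonal to
the subspace -/
theorem perp_of_iso {Y : Submodule F (Fin n → F)} (hY : Nd q Y) (h2 : 2 ≤ Module.finrank F Y) {v : Fin n → F}
    (h : ∀ x ∈ Y, hermForm n F q x x = 0 → hermForm n F q v x = 0) : ∀ x ∈ Y, hermForm n F q v x = 0 := by
  have h1 := forall_of_iso hF (X := hermPerp q ({v} : Set (Fin n → F))) hY h2 1 (by
    intro x hx hxx
    rw [Units.val_one, Matrix.one_mulVec, mem_hermPerp]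
    intro w hw
    rw [Set.mem_singleton_iff.1 hw]
    have := h x hx hxx
    exact herm_eq_zero_swap hF this)
  intro x hx
  have h3 := h1 x hx
  rw [Units.val_one, Matrix.one_mulVec, mem_hermPerp] at h3
  exact herm_eq_zero_swap hF (h3 v rfl)

/-- invariant subspaces of the stabiliser of a non-degenerate subspace -/
theorem perp_of_nd {W V : Submodule F (Fin n → F)} (hW : Nd q W)
    (hV : ∀ x ∈ V, hermForm n F q x x = 0 → ∀ v ∈ V, hermForm n F q v x = 0)
    (h : Inv (subspaceStabilizer W ⊓ SUg n F q) V) :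
    (2 ≤ Module.finrank F W → ∀ v ∈ V, ∀ w ∈ W, hermForm n F q v w = 0) ∧
    (2 ≤ Module.finrank F (hermPerp q (W : Set (Fin n → F)) : Submodule F (Fin n → F)) →
      ∀ v ∈ V, ∀ w ∈ (hermPerp q (W : Set (Fin n → F)) : Submodule F (Fin n → F)), hermForm n F q v w = 0) := by
  have hP := perpPair_of_nd hF hW
  constructor
  · intro h2 v hv
    refine perp_of_iso hF hW h2 fun x hx hxx => ?_
    rcases mem_or_perp hF h hxx (uGL_stab_mem hF hxx hx) with h3 | h3
    · exact hV x h3 hxx v hv
    · exact h3 v hv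
  · intro h2 v hv
    refine perp_of_iso hF hP.nd' h2 fun x hx hxx => ?_
    rcases mem_or_perp hF h hxx (uGL_stab_perp hF hxx fun w hw => hP.perp w hw x hx) with h3 | h3
    · exact hV x h3 hxx v hv
    · exact h3 v hv

/-- no totally singular invariant subspaces -/
theorem sing_of_nd {W V : Submodule F (Fin n → F)} (hW : Nd q W) (hWn : 2 * Module.finrank F W < n) (hn : 3 ≤ n)
    (hV : IsTotallySingularFor (hermForm n F q) V) (h : Inv (subspaceStabilizer W ⊓ SUg n F q) V) : V = ⊥ := by
  have hP := perpPair_of_nd hF hW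
  obtain ⟨h1, h2⟩ := perp_of_nd hF hW (fun x hx _ v hv => hV v hv x hx) h
  have hdimU : Module.finrank F W + Module.finrank F (hermPerp q (W : Set (Fin n → F)) : Submodule F (Fin n → F)) = n :=
    finrank_hermPerp_of_nondeg hF W hW
  have h3 := h2 (by omega)
  have h4 : V ≤ W := fun v hv => hP.mem v (h3 v hv)
  rw [Submodule.eq_bot_iff]
  intro v hv
  by_cases h5 : 2 ≤ Module.finrank F W
  · exact hW v (h4 hv) fun w hw => h1 h5 v hv w hw
  · by_contra hv0
    have h6 : Module.finrank F W = 1 := by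
      have h7 : Module.finrank F W ≠ 0 := by
        intro h0
        apply hv0
        have h8 := Submodule.finrank_eq_zero.1 h0
        have h9 := h4 hv
        rw [h8] at h9
        exact h9
      omega
    apply hv0
    refine hW v (h4 hv) fun y hy => ?_
    obtain ⟨c, hc⟩ := (finrank_eq_one_iff_of_nonzero' (⟨v, h4 hv⟩ : W)
      (fun h => hv0 (congrArg Subtype.val h))).1 h6 ⟨y, hy⟩
    have hc' : c • v = y := congrArg Subtype.val hc
    rw [← hc', herm_smul_right, hV v hv v hv, mul_zero]

/-- no invariant non-singular points if the dimension is at least two -/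
theorem point_of_nd {W V : Submodule F (Fin n → F)} (hW : Nd q W) (hW2 : 2 ≤ Module.finrank F W)
    (hWn : 2 * Module.finrank F W < n) (hV : Nd q V) (hV1 : Module.finrank F V = 1)
    (h : Inv (subspaceStabilizer W ⊓ SUg n F q) V) : False := by
  have hP := perpPair_of_nd hF hW
  have hiso : ∀ x ∈ V, hermForm n F q x x = 0 → x = 0 := by
    intro x hx hxx
    by_contra hx0
    apply hx0
    refine hV x hx fun y hy => ?_
    obtain ⟨c, hc⟩ := (finrank_eq_one_iff_of_nonzero' (⟨x, hx⟩ : V)
      (fun h => hx0 (congrArg Subtype.val h))).1 hV1 ⟨y, hy⟩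
    have hc' : c • x = y := congrArg Subtype.val hc
    rw [← hc', herm_smul_right, hxx, mul_zero]
  obtain ⟨h1, h2⟩ := perp_of_nd hF hW (fun x hx hxx v hv => by
    rw [hiso x hx hxx, herm_zero_right hF]) h
  have hdimU : Module.finrank F W + Module.finrank F (hermPerp q (W : Set (Fin n → F)) : Submodule F (Fin n → F)) = n :=
    finrank_hermPerp_of_nondeg hF W hW
  have h3 := h2 (by omega)
  have h5 := h1 hW2
  have hV0 : V = ⊥ := by
    rw [Submodule.eq_bot_iff]
    intro v hv
    exact hW v (hP.mem v (h3 v hv)) fun w hw => h5 v hv w hw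
  rw [hV0, finrank_bot] at hV1
  exact zero_ne_one hV1

end herm

end Cfsg.Agent.H234.SepPSU
end

-- part: H234/SepPSU2
section
/-!
# At least five classes of maximal subgroups in `PSU_n(q)`, `n ≥ 5` (helper234, for S5906, S5907)

`psu_five_ge5 : Fintype.card F = q ^ 2 → 5 ≤ n → Sep 5 (PSU n F q)`.
-/

set_option autoImplicit false
set_option linter.unusedSectionVars false

namespace Cfsg.Agent.H234.SepPSU

open Cfsg Cfsg.Geo Cfsg.Agent.H940.MaxCls Cfsg.Agent.H918 Cfsg.Agent.H950.MC Cfsg.Agent.H876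
open Cfsg.Agent.LieClassical.HermBasic Cfsg.Agent.ClassicalGeometry.UnitTransv
open Cfsg.Agent.ClassicalGeometry.HermOrtho Cfsg.Agent.LieClassical.SUBasic
open scoped Matrix MatrixGroups

variable {F : Type*} [Field F] [Fintype F] {n q : ℕ} (hF : Fintype.card F = q ^ 2)
include hF

/-! ### Existence -/

theorem exists_sing_sub (k : ℕ) (h : 2 * k ≤ n) : ∃ W : Submodule F (Fin n → F), Module.finrank F W = k ∧
    IsTotallySingularFor (hermForm n F q) W := by
  classical
  obtain ⟨a, ha⟩ := _root_.Cfsg.Agent.LieClassical.HermBasic.exists_norm_eq hF (c := (-1 : F)) (by rw [neg_pow_q hF, one_pow])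
  let e : Fin k → Fin n := fun i => ⟨2 * i.1, by have := i.2; omega⟩
  let f : Fin k → Fin n := fun i => ⟨2 * i.1 + 1, by have := i.2; omega⟩
  have he : ∀ i j, e i = e j ↔ i = j := by
    intro i j
    rw [Fin.ext_iff, Fin.ext_iff]
    show 2 * i.1 = 2 * j.1 ↔ _
    omega
  have hf : ∀ i j, f i = f j ↔ i = j := by
    intro i j
    rw [Fin.ext_iff, Fin.ext_iff]
    show 2 * i.1 + 1 = 2 * j.1 + 1 ↔ _
    omega
  have hef : ∀ i j, e i ≠ f j := by
    intro i j h1
    have h2 : 2 * i.1 = 2 * j.1 + 1 := congrArg Fin.val h1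
    omega
  let u : Fin k → Fin n → F := fun i => Pi.single (e i) 1 + a • Pi.single (f i) 1
  have hue : ∀ i j, u i (e j) = if i = j then 1 else 0 := by
    intro i j
    simp only [u, Pi.add_apply, Pi.smul_apply, smul_eq_mul]
    rw [Pi.single_eq_of_ne (hef j i), mul_zero, add_zero, Pi.single_apply]
    simp only [he, eq_comm]
  have huf : ∀ i j, u i (f j) = if i = j then a else 0 := by
    intro i j
    simp only [u, Pi.add_apply, Pi.smul_apply, smul_eq_mul]
    rw [Pi.single_eq_of_ne (hef i j).symm, zero_add, Pi.single_apply]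
    simp only [hf, eq_comm]
    split_ifs <;> simp
  have hli : LinearIndependent F u := by
    rw [Fintype.linearIndependent_iff]
    intro c hc i
    have h1 := congrFun hc (e i)
    rw [Finset.sum_apply] at h1
    simp only [Pi.smul_apply, smul_eq_mul, hue] at h1
    simpa only [_root_.mul_ite, _root_.mul_one, _root_.MulZeroClass.mul_zero, _root_.Finset.sum_ite_eq', _root_.Finset.mem_univ, ↓ _root_.reduceIte, _root_.Pi.zero_apply] using h1
  have hq0 : q ≠ 0 := by
    rintro rfl
    rw [zero_pow two_ne_zero] at hF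
    exact Fintype.card_ne_zero hF
  have hfo : ∀ i j, hermForm n F q (u i) (u j) = 0 := by
    intro i j
    show hermForm n F q (Pi.single (e i) 1 + a • Pi.single (f i) 1) (u j) = 0
    rw [herm_add_left, herm_smul_left, herm_single_left, herm_single_left, hue, huf]
    by_cases hij : j = i
    · subst hij
      rw [if_pos rfl, if_pos rfl]
      linear_combination ha + one_pow (M := F) q
    · rw [if_neg hij, if_neg hij, zero_pow hq0]
      ring
  refine ⟨Submodule.span F (Set.range u), ?_, ?_⟩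
  · rw [finrank_span_eq_card hli, Fintype.card_fin]
  · intro x hx y hy
    induction hx using Submodule.span_induction with
    | mem x hx =>
      obtain ⟨i, rfl⟩ := hx
      induction hy using Submodule.span_induction with
      | mem y hy => obtain ⟨j, rfl⟩ := hy; exact hfo i j
      | zero => exact herm_zero_right hF _
      | add y z _ _ h1 h2 => rw [herm_add_right hF, h1, h2, add_zero]
      | smul c y _ h1 => rw [herm_smul_right, h1, mul_zero]
    | zero => exact herm_zero_left _
    | add x z _ _ h1 h2 => rw [herm_add_left, h1, h2, add_zero]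
    | smul c x _ h1 => rw [herm_smul_left, h1, mul_zero]

theorem exists_nd_sub (k : ℕ) (h : k ≤ n) : ∃ W : Submodule F (Fin n → F), Module.finrank F W = k ∧
    IsNondegenerateOn (hermForm n F q) W := by
  classical
  let e : Fin k → Fin n := Fin.castLE h
  have he : Function.Injective e := Fin.castLE_injective h
  let u : Fin k → Fin n → F := fun i => Pi.single (e i) 1
  have hli : LinearIndependent F u := by
    rw [Fintype.linearIndependent_iff]
    intro c hc i
    have h1 := congrFun hc (e i)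
    rw [Finset.sum_apply] at h1
    simp only [u, Pi.smul_apply, smul_eq_mul, Pi.single_apply, he.eq_iff] at h1
    simpa only [_root_.mul_ite, _root_.mul_one, _root_.MulZeroClass.mul_zero, _root_.Finset.sum_ite_eq, _root_.Finset.mem_univ, ↓ _root_.reduceIte, _root_.Pi.zero_apply] using h1
  refine ⟨Submodule.span F (Set.range u), ?_, ?_⟩
  · rw [finrank_span_eq_card hli, Fintype.card_fin]
  · intro w hw hw0
    have h1 : ∃ i, w (e i) ≠ 0 := by
      by_contra hcon
      push Not at hcon
      have h2 : ∀ j : Fin n, j ∉ Set.range e → w j = 0 := by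
        intro j hj
        have h3 : Submodule.span F (Set.range u) ≤ LinearMap.ker (LinearMap.proj j : (Fin n → F) →ₗ[F] F) := by
          rw [Submodule.span_le]
          rintro _ ⟨i, rfl⟩
          exact Pi.single_eq_of_ne (fun h => hj ⟨i, h.symm⟩) _
        exact h3 hw
      apply hw0
      funext j
      by_cases hj : j ∈ Set.range e
      · obtain ⟨i, rfl⟩ := hj
        exact hcon i
      · exact h2 j hj
    obtain ⟨i, hi⟩ := h1
    have h2 : u i ∈ Submodule.span F (Set.range u) := Submodule.subset_span ⟨i, rfl⟩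
    have h3 : hermForm n F q w (u i) ≠ 0 := by
      rw [herm_single_right hF]
      simpa using hi
    exact ⟨⟨u i, h2, fun h4 => h3 (herm_eq_zero_swap hF h4)⟩, ⟨u i, h2, h3⟩⟩

/-! ### The standard frame -/

/-- the standard frame -/
def frame (F : Type*) [Field F] (n : ℕ) : Fin n → Submodule F (Fin n → F) := fun i => F ∙ (Pi.single i 1 : Fin n → F)

theorem frame_decomp (hn : 2 ≤ n) : IsNondegenerateMDecomposition (hermForm n F q) 1 (frame F n) := by
  classical
  have hh : ∀ i j : Fin n, hermForm n F q (Pi.single i 1) (Pi.single j 1) = if i = j then 1 else 0 := by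
    intro i j
    have hq0 : q ≠ 0 := by
      rintro rfl
      rw [zero_pow two_ne_zero] at hF
      exact Fintype.card_ne_zero hF
    rw [herm_single_left, Pi.single_apply, one_mul]
    split_ifs <;> simp [hq0]
  have hne : ∀ i : Fin n, (Pi.single i 1 : Fin n → F) ≠ 0 := by
    intro i h
    have := hh i i
    rw [h, herm_zero_left, if_pos rfl] at this
    exact zero_ne_one this
  have hli : LinearIndependent F (fun i : Fin n => (Pi.single i 1 : Fin n → F)) := by
    rw [Fintype.linearIndependent_iff]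
    intro g hg i
    have h1 : hermForm n F q (∑ i, g i • (Pi.single i 1 : Fin n → F)) (Pi.single i 1) = g i := by
      rw [herm_sum_left]
      simp_rw [herm_smul_left, hh]
      simp only [_root_.mul_ite, _root_.mul_one, _root_.MulZeroClass.mul_zero, _root_.Finset.sum_ite_eq', _root_.Finset.mem_univ, ↓ _root_.reduceIte]
    rw [← h1, hg, herm_zero_left]
  refine ⟨⟨hn, by norm_num, fun i => finrank_span_singleton (hne i), hli.iSupIndep_span_singleton, ?_⟩,
    ?_, ?_⟩
  · show iSup (fun i => Submodule.span F {(Pi.single i 1 : Fin n → F)}) = ⊤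
    rw [← Submodule.span_range_eq_iSup]
    exact hli.span_eq_top_of_card_eq_finrank' (by simp only [_root_.Fintype.card_fin, _root_.Module.finrank_fintype_fun_eq_card])
  · intro i w hw hw0
    have hw' := Submodule.mem_span_singleton.1 hw
    obtain ⟨a, rfl⟩ := hw'
    have ha : a ≠ 0 := by rintro rfl; simp at hw0
    have h1 : hermForm n F q (a • (Pi.single i 1 : Fin n → F)) (a • (Pi.single i 1 : Fin n → F)) ≠ 0 := by
      rw [herm_smul_left, herm_smul_right, hh, if_pos rfl, mul_one]
      exact mul_ne_zero ha (pow_ne_zero _ ha)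
    exact ⟨⟨_, hw, h1⟩, ⟨_, hw, h1⟩⟩
  · intro i j hij u hu v hv
    obtain ⟨a, rfl⟩ := Submodule.mem_span_singleton.1 hu
    obtain ⟨b, rfl⟩ := Submodule.mem_span_singleton.1 hv
    rw [herm_smul_left, herm_smul_right, hh, if_neg hij, mul_zero, mul_zero]

/-- the group of the frame is irreducible -/
theorem frame_irr (hn : 3 ≤ n) {V : Submodule F (Fin n → F)} (hV0 : V ≠ ⊥)
    (h : Inv (decompositionStabilizer (frame F n) ⊓ SUg n F q) V) : V = ⊤ := by
  classical
  obtain ⟨l, hl, hl1⟩ := exists_norm_one hF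
  have hl0 : l ≠ 0 := by
    rintro rfl
    rw [zero_pow (Nat.succ_ne_zero q)] at hl
    exact zero_ne_one hl
  -- the elements of the diagonal
  have hdiag : ∀ (a : Fin n → F) (hd : ∏ i, a i = 1) (ha : ∀ i, a i ^ (q + 1) = 1), ∀ v ∈ V, (fun i => a i * v i) ∈ V := by
    intro a hd ha v hv
    have ha0 : ∀ i, a i ≠ 0 := by
      intro i h0
      have := ha i
      rw [h0, zero_pow (Nat.succ_ne_zero q)] at this
      exact zero_ne_one this
    have h1 := h (suHom n F q (suDiag q a hd ha)) ⟨⟨1, fun i => ?_⟩, suHom_mem _⟩ v hv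
    · have h2 : ((suHom n F q (suDiag q a hd ha) : GL (Fin n) F) : Matrix (Fin n) (Fin n) F) *ᵥ v = fun i => a i * v i := by
        rw [coe_suHom]
        show Matrix.diagonal a *ᵥ v = _
        funext i
        rw [Matrix.mulVec_diagonal]
      rwa [h2] at h1
    · show (frame F n i).map (Matrix.toLin' ((suHom n F q (suDiag q a hd ha) : GL (Fin n) F) :
        Matrix (Fin n) (Fin n) F)) = frame F n i
      refine map_mulVec_eq_of_le fun x hx => ?_
      obtain ⟨b, rfl⟩ := Submodule.mem_span_singleton.1 hx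
      rw [coe_suHom]
      have h2 : (Matrix.diagonal a) *ᵥ (b • (Pi.single i 1 : Fin n → F)) = a i • (b • (Pi.single i 1 : Fin n → F)) := by
        funext j
        rw [Matrix.mulVec_diagonal]
        by_cases hj : j = i
        · subst hj; simp
        · simp [hj]
      have h3 : (Matrix.diagonal a) *ᵥ (b • (Pi.single i 1 : Fin n → F)) ∈ frame F n i := by
        rw [h2]
        exact Submodule.smul_mem _ _ hx
      exact h3
  have hperm : ∀ (σ : Equiv.Perm (Fin n)), Equiv.Perm.sign σ = 1 → ∀ v ∈ V, (fun i => v (σ i)) ∈ V := by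
    intro σ hσ v hv
    have h1 := h (suHom n F q (suPerm q σ hσ)) ⟨⟨σ⁻¹, fun i => ?_⟩, suHom_mem _⟩ v hv
    · have h2 : ((suHom n F q (suPerm q σ hσ) : GL (Fin n) F) : Matrix (Fin n) (Fin n) F) *ᵥ v = fun i => v (σ i) := by
        rw [coe_suHom]
        show (σ.permMatrix F) *ᵥ v = _
        rw [Matrix.permMatrix_mulVec]
        rfl
      rwa [h2] at h1
    · have h2 : ((suHom n F q (suPerm q σ hσ) : GL (Fin n) F) : Matrix (Fin n) (Fin n) F) *ᵥ (Pi.single i 1) =
          Pi.single (σ⁻¹ i) 1 := by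
        rw [coe_suHom]
        show (σ.permMatrix F) *ᵥ _ = _
        rw [Matrix.permMatrix_mulVec]
        funext j
        show (Pi.single i 1 : Fin n → F) (σ j) = _
        rw [Pi.single_apply, Pi.single_apply]
        have : (σ j = i) ↔ (j = σ⁻¹ i) := by
          constructor
          · rintro rfl; simp
          · rintro rfl; simp
        simp only [this]
      rw [frame, frame, Submodule.map_span, Set.image_singleton, Matrix.toLin'_apply, h2]
  obtain ⟨v, hv, hv0⟩ := Submodule.exists_mem_ne_zero_of_ne_bot hV0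
  obtain ⟨i, hi⟩ := Function.ne_iff.1 hv0
  -- isolate a coordinate
  have hthird : ∀ i j : Fin n, ∃ k, k ≠ i ∧ k ≠ j := by
    intro i j
    by_contra hcon
    push Not at hcon
    have h1 : (Finset.univ : Finset (Fin n)) ⊆ {i, j} := by
      intro k _
      rw [Finset.mem_insert, Finset.mem_singleton]
      by_cases hk : k = i
      · exact Or.inl hk
      · exact Or.inr (hcon k hk)
    have h2 := Finset.card_le_card h1
    rw [Finset.card_univ, Fintype.card_fin] at h2
    have h3 := Finset.card_le_two (a := i) (b := j)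
    omega
  have hpair : ∀ i j : Fin n, i ≠ j → ∀ v ∈ V, (fun m => (if m = i then l - 1 else if m = j then l⁻¹ - 1 else 0) * v m) ∈ V := by
    intro i j hij v hv
    have h1 := hdiag (fun m => if m = i then l else if m = j then l⁻¹ else 1) (by
        rw [Finset.prod_eq_mul i j hij]
        · rw [if_pos rfl, if_neg hij.symm, if_pos rfl, mul_inv_cancel₀ hl0]
        · intro c _ hc
          rw [if_neg hc.1, if_neg hc.2]
        · intro h; exact absurd (Finset.mem_univ _) h
        · intro h; exact absurd (Finset.mem_univ _) h) (by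
        intro m
        split_ifs
        · exact hl
        · rw [inv_pow, hl, inv_one]
        · exact one_pow _) v hv
    have h2 := V.sub_mem h1 hv
    have h3 : (fun m => (if m = i then l - 1 else if m = j then l⁻¹ - 1 else 0) * v m) =
        (fun m => (if m = i then l else if m = j then l⁻¹ else 1) * v m) - v := by
      funext m
      rw [Pi.sub_apply]
      split_ifs <;> ring
    rw [h3]
    exact h2
  have hsingle : ∀ i, v i ≠ 0 → (Pi.single i 1 : Fin n → F) ∈ V := by
    intro i hi
    obtain ⟨j, hj, -⟩ := hthird i i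
    obtain ⟨k, hk, hkj⟩ := hthird i j
    have h1 := hpair i j hj.symm _ (hpair i k hk.symm v hv)
    have h2 : (fun m => (if m = i then l - 1 else if m = j then l⁻¹ - 1 else 0) *
        ((if m = i then l - 1 else if m = k then l⁻¹ - 1 else 0) * v m)) =
        ((l - 1) ^ 2 * v i) • (Pi.single i 1 : Fin n → F) := by
      funext m
      rw [Pi.smul_apply, smul_eq_mul]
      by_cases hm : m = i
      · subst hm
        rw [if_pos rfl, if_pos rfl, Pi.single_eq_same]; ring
      · rw [if_neg hm, if_neg hm, Pi.single_eq_of_ne hm]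
        by_cases hmj : m = j
        · subst hmj
          rw [if_neg hkj.symm]; ring
        · rw [if_neg hmj]; ring
    rw [h2] at h1
    exact (Submodule.smul_mem_iff V (mul_ne_zero (pow_ne_zero 2 (sub_ne_zero.2 hl1)) hi)).1 h1
  have hall : ∀ j, (Pi.single j 1 : Fin n → F) ∈ V := by
    intro j
    by_cases hij : i = j
    · subst hij; exact hsingle i hi
    · obtain ⟨k, hk, hkj⟩ := hthird i j
      have h1 := hperm (Equiv.swap i j * Equiv.swap i k) (by
        rw [Equiv.Perm.sign_mul, Equiv.Perm.sign_swap hij, Equiv.Perm.sign_swap hk.symm]; decide) _ (hsingle i hi)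
      have h2 : (fun m => (Pi.single i 1 : Fin n → F) ((Equiv.swap i j * Equiv.swap i k) m)) = Pi.single j 1 := by
        funext m
        rw [Pi.single_apply, Pi.single_apply]
        have h3 : (Equiv.swap i j * Equiv.swap i k) m = i ↔ m = j := by
          rw [Equiv.Perm.mul_apply]
          constructor
          · intro h4
            have h5 : Equiv.swap i k m = j := by
              have := congrArg (Equiv.swap i j) h4
              rwa [Equiv.swap_apply_self, Equiv.swap_apply_left] at this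
            have h6 := congrArg (Equiv.swap i k) h5
            rwa [Equiv.swap_apply_self, Equiv.swap_apply_of_ne_of_ne (Ne.symm hij) hkj.symm] at h6
          · rintro rfl
            rw [Equiv.swap_apply_of_ne_of_ne (Ne.symm hij) hkj.symm, Equiv.swap_apply_right]
        simp only [h3]
      rw [h2] at h1
      exact h1
  rw [eq_top_iff]
  intro x _
  rw [← Finset.univ_sum_single x]
  refine V.sum_mem fun j _ => ?_
  have : (Pi.single j (x j) : Fin n → F) = x j • Pi.single j 1 := by
    rw [← Pi.single_smul, smul_eq_mul, mul_one]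
  rw [this]
  exact V.smul_mem _ (hall j)

/-- **`PSU_n(q)`, `n ≥ 5`, has at least five classes of maximal subgroups** -/
theorem psu_five_ge5 (hn : 5 ≤ n) : Sep 5 (PSU n F q) := by
  have h32 : ¬ (n = 3 ∧ q = 2) := fun h => by omega
  obtain ⟨P1, hP1, hP1s⟩ := exists_sing_sub hF (n := n) 1 (by omega)
  obtain ⟨P2, hP2, hP2s⟩ := exists_sing_sub hF (n := n) 2 (by omega)
  obtain ⟨N1, hN1, hN1s⟩ := exists_nd_sub hF (n := n) 1 (by omega)
  obtain ⟨N2, hN2, hN2s⟩ := exists_nd_sub hF (n := n) 2 (by omega)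
  have hne : ∀ {W : Submodule F (Fin n → F)}, Module.finrank F W ≠ 0 → W ≠ ⊥ := by
    rintro W h rfl
    exact h (finrank_bot F _)
  have mP1 := Sing.sing_maximal n q hF (by omega) h32 P1 (hne (by omega)) hP1s
  have mP2 := Sing.sing_maximal n q hF (by omega) h32 P2 (hne (by omega)) hP2s
  have mN1 := nondeg_maximal n q hF (by omega) h32 N1 (hne (by omega)) hN1s (by omega)
  have mN2 := nondeg_maximal n q hF (by omega) h32 N2 (hne (by omega)) hN2s (by omega)
  have nd1 : Nd q N1 := nd_of_geo hN1s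
  have nd2 : Nd q N2 := nd_of_geo hN2s
  -- not conjugate
  have sing_sing : ∀ {W V : Submodule F (Fin n → F)}, IsTotallySingularFor (hermForm n F q) W →
      IsTotallySingularFor (hermForm n F q) V → Module.finrank F W < Module.finrank F V →
      IsMaximalIn (SUg n F q) (subspaceStabilizer V ⊓ SUg n F q) →
      ApartIn (SUg n F q) (subspaceStabilizer W ⊓ SUg n F q) (subspaceStabilizer V ⊓ SUg n F q) := by
    intro W V hW hV hlt hm
    refine (apart_of hm fun g hg h => ?_).symm
    have h1 := Submodule.finrank_mono (le_of_sing hF hW (sing_pre hg.1 hV) h)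
    rw [finrank_pre] at h1
    omega
  have sing_nd : ∀ {W V : Submodule F (Fin n → F)}, IsTotallySingularFor (hermForm n F q) W → W ≠ ⊥ →
      Nd q V → 2 * Module.finrank F V < n →
      IsMaximalIn (SUg n F q) (subspaceStabilizer W ⊓ SUg n F q) →
      ApartIn (SUg n F q) (subspaceStabilizer W ⊓ SUg n F q) (subspaceStabilizer V ⊓ SUg n F q) := by
    intro W V hW hW0 hV hlt hm
    refine apart_of hm fun g hg h => ?_
    have h1 := sing_of_nd hF hV hlt (by omega) (sing_pre hg.1 hW) h
    have h2 := finrank_pre g W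
    rw [h1, finrank_bot] at h2
    exact hW0 (Submodule.finrank_eq_zero.1 h2.symm)
  have aP12 := sing_sing hP1s hP2s (by omega) mP2
  have aPN11 := sing_nd hP1s (hne (by omega)) nd1 (by omega) mP1
  have aPN12 := sing_nd hP1s (hne (by omega)) nd2 (by omega) mP1
  have aPN21 := sing_nd hP2s (hne (by omega)) nd1 (by omega) mP2
  have aPN22 := sing_nd hP2s (hne (by omega)) nd2 (by omega) mP2
  have aN12 : ApartIn (SUg n F q) (subspaceStabilizer N1 ⊓ SUg n F q) (subspaceStabilizer N2 ⊓ SUg n F q) := by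
    refine apart_of mN1 fun g hg h => ?_
    exact point_of_nd hF nd2 (by omega) (by omega) (nd_pre hg.1 nd1) (by rw [finrank_pre]; exact hN1) h
  by_cases hn5 : n = 5
  · have mE := FrameMax.frame_maximal_all hF (by omega) (fun h => by omega) (frame F n) (frame_decomp hF (by omega))
    have irr : ∀ {W : Submodule F (Fin n → F)}, W ≠ ⊥ → Module.finrank F W < n →
        IsMaximalIn (SUg n F q) (subspaceStabilizer W ⊓ SUg n F q) →
        ApartIn (SUg n F q) (subspaceStabilizer W ⊓ SUg n F q)
          (decompositionStabilizer (frame F n) ⊓ SUg n F q) := by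
      intro W hW0 hWn hm
      refine apart_of hm fun g hg h => ?_
      have h2 := finrank_pre g W
      have h3 : pre g W ≠ ⊥ := by
        intro h0
        rw [h0, finrank_bot] at h2
        exact hW0 (Submodule.finrank_eq_zero.1 h2.symm)
      rw [frame_irr hF (by omega) h3 h, finrank_top, Module.finrank_fin_fun] at h2
      omega
    exact sep_psu_five hF (by omega) h32 inf_le_right inf_le_right inf_le_right inf_le_right inf_le_right
      mP1.1.ne mP2.1.ne mN1.1.ne mN2.1.ne mE.1.ne aP12 aPN11 aPN12 (irr (hne (by omega)) (by omega) mP1)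
      aPN21 aPN22 (irr (hne (by omega)) (by omega) mP2) aN12 (irr (hne (by omega)) (by omega) mN1)
      (irr (hne (by omega)) (by omega) mN2)
  · obtain ⟨P3, hP3, hP3s⟩ := exists_sing_sub hF (n := n) 3 (by omega)
    have mP3 := Sing.sing_maximal n q hF (by omega) h32 P3 (hne (by omega)) hP3s
    exact sep_psu_five hF (by omega) h32 inf_le_right inf_le_right inf_le_right inf_le_right inf_le_right
      mP1.1.ne mP2.1.ne mP3.1.ne mN1.1.ne mN2.1.ne aP12 (sing_sing hP1s hP3s (by omega) mP3) aPN11 aPN12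
      (sing_sing hP2s hP3s (by omega) mP3) aPN21 aPN22 (sing_nd hP3s (hne (by omega)) nd1 (by omega) mP3)
      (sing_nd hP3s (hne (by omega)) nd2 (by omega) mP3) aN12

end Cfsg.Agent.H234.SepPSU
end

-- part: H812/D4/Row
section
/-!
# Five pairwise apart subgroups of `³D₄(q)` (helper812, for S5906, S5907)
-/

set_option autoImplicit false

namespace Cfsg.Agent.H812.D4.Row

open CoxeterSystem Cfsg.Agent.ChevalleyStructure.CoxeterGeom Cfsg.Agent.Tits.Roots Cfsg.Agent.Tits.Core
  Cfsg.Agent.Tits.RootComb Cfsg.Agent.Tits.Exchange Cfsg.Agent.Nodes.Reps Cfsg.Agent.Nodes.BNOf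
  Cfsg.Agent.Nodes.StabComb Cfsg.Agent.Nodes.Bruhat Cfsg.Agent.Nodes.OppDec Cfsg.Agent.Nodes.LeviDec
  Cfsg.Agent.H436 Cfsg.Agent.H744.SepRgd
open Cfsg.Lie Cfsg.Agent.ChevalleyStructure Cfsg.Agent.Nodes.RGDTwD4
open Cfsg.Agent.Nodes.RGDTwGen Cfsg.Agent.Nodes.RGDChev Cfsg.Agent.Nodes.RGDFold
open Cfsg.Agent.H940

section

variable {I W : Type*} [Fintype I] [DecidableEq I] [Group W] {M : CoxeterMatrix I}
  {cs : CoxeterSystem M W} {A : I → I → ℤ} {h : IsCartan M A}

theorem PosJ_one [Finite W] (i : I) : PosJ cs h {i} = {sr i} := by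
  ext x
  rw [Set.mem_singleton_iff]
  constructor
  · intro hx
    by_contra hne
    obtain ⟨k, hk, h1⟩ := exists_coeff hx.1 hx.2.1 hne
    have := hx.2.2 k hk
    omega
  · rintro rfl
    exact sr_mem_PosJ rfl

end

variable {K : Type} [Field K] [Fintype K] {q : ℕ} {φ : K →+* K}

theorem card_X (hφ : ∀ x, φ x = x ^ q) (hq : 1 < q) (hK : Fintype.card K = q ^ 3) (i : Fin 2) :
    Nat.card ↥(X φ q (sr i)) = if i = 0 then q else q ^ 3 := by
  have hle := D4Fixed.twisted_le_fix hK hφ
  have key : ∀ (S : Subgroup (GL chevD4.Idx K)), R chevD4 hp K J (D4Fixed.sig φ) (sr i) = S ⊓ D4Fixed.fix φ →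
      Nat.card ↥(X φ q (sr i)) = Nat.card {x : GL chevD4.Idx K // x ∈ (S : Set (GL chevD4.Idx K)) ∧
        x ∈ twistedD4 K q} := by
    intro S hS
    unfold X
    rw [hS]
    refine Nat.card_congr
      { toFun := fun x => ⟨x.1.1, (Subgroup.mem_inf.1 (Subgroup.mem_subgroupOf.1 x.2)).1, x.1.2⟩
        invFun := fun x => ⟨⟨x.1, x.2.2⟩, Subgroup.mem_subgroupOf.2 (Subgroup.mem_inf.2 ⟨x.2.1, hle x.2.2⟩)⟩
        left_inv := fun x => rfl
        right_inv := fun x => rfl }
  fin_cases i
  · exact (key _ (R0 φ)).trans (TwD4Card.card_X0 hq hK hφ hle)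
  · exact (key _ (R1 φ)).trans (TwD4Card.card_X1 hK hφ hle)

theorem fin2 : ∀ J : Finset (Fin 2), J.Nonempty → J ≠ Finset.univ → ∃ i : Fin 2, J = {i} := by decide

/-- **the row `³D₄(q)` of S5906 and S5907** -/
theorem d4 (K : Type) [Field K] [Fintype K] (q : ℕ) (hq : IsPrimePow q) (hK : Fintype.card K = q ^ 3) :
    MaxCls.Sep 5 ↥(twistedD4 K q) := by
  obtain ⟨σ, hσ, ⟨c⟩⟩ := Cit.HexD4.exists_d4 hK
  obtain ⟨φ, hφ⟩ := D4Fixed.exists_frob hq hK
  have hfinG : Finite ↥(twistedD4 K q) := inferInstance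
  obtain ⟨p, hcp⟩ := CharP.exists K
  have hp' : Fact p.Prime := ⟨CharP.char_is_prime K p⟩
  have h2 : 2 ≤ q := hq.two_le
  have hq' := hq
  obtain ⟨r, f, hr, hf, hrf⟩ := hq'
  have hr' : r.Prime := hr.nat_prime
  have hpr : p = r := by
    obtain ⟨n, hpp, hn⟩ := FiniteField.card K p
    have h3 : p ∣ r := by
      have h4 : p ∣ Fintype.card K := by rw [hn]; exact dvd_pow_self p n.pos.ne'
      rw [hK, ← hrf, ← pow_mul] at h4
      exact hpp.dvd_of_dvd_pow h4
    exact (Nat.prime_dvd_prime_iff_eq hpp hr').1 h3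
  subst hpr
  -- the fixed field
  have hF : Nat.card ↥(Cit.HexBase.fx σ) = q :=
    D4U.card_fix_field (φ := (σ : K →+* K)) hq.one_lt hK fun x => hσ x
  have hE : Nat.card K = Nat.card ↥(Cit.HexBase.fx σ) ^ 3 := by
    rw [hF, Nat.card_eq_fintype_card, hK]
  have hne : ∃ y : K, σ y ≠ y := by
    by_contra hcon
    push Not at hcon
    have h1 : Cit.HexBase.fx σ = ⊤ := by
      rw [eq_top_iff]
      intro x _
      exact hcon x
    rw [h1] at hE hF
    have h3 : Nat.card ↥(⊤ : Subfield K) = Nat.card K := Nat.card_congr (Subfield.topEquiv (K := K)).toEquiv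
    rw [h3] at hF
    rw [Nat.card_eq_fintype_card, hK] at hF
    have : q ^ 1 < q ^ 3 := Nat.pow_lt_pow_right (by omega) (by norm_num)
    rw [pow_one] at this
    omega
  -- the root datum
  have hfin : Finite CoxeterMatrix.G₂.Group := Nodes.RGDFold.finite_W (hp := hp)
    CoxeterMatrix.G₂.toCoxeterSystem isCartan foldData
  have R := _root_.Cfsg.Agent.Nodes.RGDTwD4.rgd CoxeterMatrix.G₂.toCoxeterSystem hK hφ p
  have hG := Cfsg.Agent.KFacts.RgdFilt.GG_eq_top (T := T K q) (_root_.Cfsg.Agent.Nodes.RGDTwD4.G1_eq_top CoxeterMatrix.G₂.toCoxeterSystem hK hφ)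
  obtain ⟨u, hu⟩ := exists_prim (q := q) (e := 12) h2 (by norm_num) (by omega)
  have hpq : p ∣ q := by rw [← hrf]; exact dvd_pow_self p hf.ne'
  have hup : u ≠ p := by
    rintro rfl
    exact hu.not_dvd hpq
  have hcard := S1067.result hq hK
  have hT : Nat.card ↥(T K q) = (q - 1) ^ 2 * (q ^ 2 + q + 1) := by
    rw [← S1106.result hq hK]
    exact Nat.card_congr (Subgroup.subgroupOfEquivOfLe inf_le_right).toEquiv
  have huY : u ∣ Nat.card ↥(twistedD4 K q) := by
    have h3 := hu.dvd (dvd_refl 12)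
    have h4 : q ^ 12 - 1 ∣ (q ^ 2 - 1) * (q ^ 8 + q ^ 4 + 1) * (q ^ 2 + 1) := by
      refine Dvd.intro 1 ?_
      obtain ⟨x, rfl⟩ : ∃ x, q = x + 1 := ⟨q - 1, by omega⟩
      have e1 : (x + 1) ^ 2 - 1 = x * (x + 2) := by
        apply Nat.sub_eq_of_eq_add; ring
      have e2 : (x + 1) ^ 12 - 1 = x * (x + 2) * ((x + 1) ^ 8 + (x + 1) ^ 4 + 1) * ((x + 1) ^ 2 + 1) := by
        apply Nat.sub_eq_of_eq_add; ring
      rw [e1, e2, mul_one]
    have h5 := h3.trans h4
    rcases hu.prime.dvd_mul.1 h5 with h6 | h6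
    · rw [hcard]
      rcases hu.prime.dvd_mul.1 h6 with h7 | h7
      · exact absurd h7 (hu.not_dvd_sub (by norm_num))
      · exact Dvd.dvd.mul_left h7 _
    · exact absurd h6 (hu.not_dvd_add (m := 2) (by norm_num))
  have hpY : p ∣ Nat.card ↥(twistedD4 K q) := by
    rw [hcard]
    simp only [mul_assoc]
    exact Dvd.dvd.mul_right (hpq.trans (dvd_pow_self _ (by norm_num))) _
  have : Fact u.Prime := ⟨hu.prime⟩
  obtain ⟨x, hx⟩ := exists_prime_orderOf_dvd_card' u huY
  have hcx : Nat.card (Subgroup.zpowers x) = u := by rw [Nat.card_zpowers, hx]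
  have hD : Subgroup.zpowers x ≠ ⊤ := by
    intro htop
    rw [htop, Subgroup.card_top] at hcx
    rw [hcx] at hpY
    exact hup ((Nat.prime_dvd_prime_iff_eq Fact.out hu.prime).1 hpY).symm
  have hDP : ∀ (g : ↥(twistedD4 K q)) (J : Set (Fin 2)), J ≠ Set.univ →
      ¬ (cj g (Subgroup.zpowers x) ≤ PJ CoxeterMatrix.G₂.toCoxeterSystem isCartan (T K q) (X φ q) J) := by
    intro g J hJ hle
    refine H396.Crit.not_dvd_card R hu.prime hup ?_ ?_ hJ hle (by rw [hcx])
    · rw [hT]
      intro h3
      rcases hu.prime.dvd_mul.1 h3 with h4 | h4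
      · have h5 := hu.prime.dvd_of_dvd_pow h4
        exact hu.not_dvd_sub (m := 1) (by norm_num) (by rwa [pow_one])
      · refine hu.not_dvd_sub (m := 3) (by norm_num) (h4.trans (Dvd.intro_left (q - 1) ?_))
        obtain ⟨m, rfl⟩ : ∃ m, q = m + 1 := ⟨q - 1, by omega⟩
        rw [Nat.add_sub_cancel]
        have : (m + 1) ^ 3 = m * ((m + 1) ^ 2 + (m + 1) + 1) + 1 := by ring
        rw [this, Nat.add_sub_cancel]
    · intro J hne huniv _ hd
      obtain ⟨i, rfl⟩ := fin2 J hne huniv
      have h3 : RGD.Sup (X φ q) (PosJ CoxeterMatrix.G₂.toCoxeterSystem isCartan (({i} : Finset (Fin 2)) : Set (Fin 2))) =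
          X φ q (sr i) := by
        rw [Finset.coe_singleton, PosJ_one]
        apply le_antisymm
        · exact RGD.Sup_le fun x hx => by rw [Set.mem_singleton_iff.1 hx]
        · exact RGD.le_Sup rfl
      rw [h3, card_X hφ (by omega) hK, Finset.card_singleton, pow_one, sub_neg_eq_add] at hd
      by_cases hi : i = 0
      · rw [if_pos hi] at hd
        refine hu.not_dvd_add (m := 1) (by norm_num) ?_
        rw [pow_one]
        exact_mod_cast hd
      · rw [if_neg hi] at hd
        refine hu.not_dvd_add (m := 3) (by norm_num) ?_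
        exact_mod_cast hd
  -- the parabolic subgroups
  have hidx : ∀ J : Set (Fin 2), ¬ p ∣ (PJ CoxeterMatrix.G₂.toCoxeterSystem isCartan (T K q) (X φ q) J).index := by
    intro J hd
    have h3 : ¬ p ∣ (RGD.Sup (X φ q) (RGD.Pos CoxeterMatrix.G₂.toCoxeterSystem isCartan)).index := by
      have := KFacts.RgdSyl.not_dvd_relIndex R
      rwa [hG, Subgroup.relIndex_top_right] at this
    have h4 : RGD.Sup (X φ q) (RGD.Pos CoxeterMatrix.G₂.toCoxeterSystem isCartan) ≤
        PJ CoxeterMatrix.G₂.toCoxeterSystem isCartan (T K q) (X φ q) J := RGD.U_le_B.trans B_le_PJ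
    exact h3 (hd.trans (Subgroup.index_dvd_of_le h4))
  have hn0 : ∀ i : Fin 2, ({i} : Set (Fin 2)) ≠ Set.univ := by
    intro i h3
    have h4 : (1 - i : Fin 2) ∈ ({i} : Set (Fin 2)) := by rw [h3]; trivial
    rw [Set.mem_singleton_iff] at h4
    clear h3
    revert h4
    revert i
    decide
  have hn : ∀ i : Fin 2, PJ CoxeterMatrix.G₂.toCoxeterSystem isCartan (T K q) (X φ q) {i} ≠ ⊤ := fun i h3 =>
    hn0 i ((PJ_eq_top_iff R hG).1 h3)
  have h12 := apart_PJ R hG (J := {0}) (K := {1}) (by
    ext i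
    (revert i; simp only [_root_.Fin.forall_fin_succ, Fin.isValue, _root_.Set.union_singleton, _root_.Set.mem_insert_iff, _root_.Set.mem_singleton_iff, _root_.Set.mem_univ, _root_.iff_true, _root_.zero_ne_one, _root_.or_true, _root_.Fin.succ_ne_zero, _root_.or_false, _root_.Fin.succ_zero_eq_one, _root_.IsEmpty.forall_iff, _root_.and_self]))
  refine sep_five_hex c hE hne (p := p) (n := f) (by rw [hF, hrf]) ?_ (r := u) (by rw [hF]; exact hu) (hn 0) (hn 1) hD h12
    (apart_PJ_of_not_le R hG hDP) (apart_PJ_of_not_le R hG hDP) (hidx _) (hidx _) (by rw [hcx])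
  rw [hF, hcard]
  ring

end Cfsg.Agent.H812.D4.Row
end

-- part: H867/Max/MTwentyThree
section
/-!
# Five classes of maximal subgroups of the Mathieu group of degree 23

The stabilisers of a point, a heptad, an octad and a dodecad (indices 23, 253, 506, 1288) are
maximal, and a subgroup of order 23 lies in none of them.
-/

set_option autoImplicit false

open scoped Pointwise

namespace Cfsg.Agent.H867.Max.MTwentyThree

open Cfsg MulAction Cfsg.Agent.H940.MaxCls Cfsg.Agent.H867.Max.Sub Cfsg.Agent.H867.Max.Oct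

theorem card_G : Nat.card Spor.M23 = 10200960 := Cfsg.Agent.SporadicA.MathieuRecog.card_M23

theorem fin_G : Finite Spor.M23 := Nat.finite_of_card_ne_zero (by rw [card_G]; norm_num)

theorem point : IsCoatom (stabilizer Spor.M23 (some 0 : GolayPt)) ∧
    (stabilizer Spor.M23 (some 0 : GolayPt)).index = 23 := by
  have := fin_G
  have h := coatom_of_classes (G := Spor.M23) (o := (some 0 : GolayPt)) (O := {x | x ≠ none})
    (t := fun _ => 0) (L := [(0, 22)]) (Set.toFinite _) card_G ?_ ?_ (by decide) ?_ ?_ ?_ (by decide)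
  · exact ⟨h.1, h.2⟩
  · intro g h
    have h1 : (g : Equiv.Perm GolayPt) (some 0) = (g : Equiv.Perm GolayPt) none := by
      rw [none_of_23 g]; exact h
    exact absurd ((g : Equiv.Perm GolayPt).injective h1) (by simp)
  · intro x _ _
    simp
  · intro e he
    rw [List.mem_singleton] at he
    subst he
    have : {x : GolayPt | x ∈ {x : GolayPt | x ≠ none} ∧ x ≠ some 0 ∧ 0 = (0, 22).1} =
        ((Finset.univ.filter fun x : GolayPt => x ≠ none ∧ x ≠ some 0 : Finset GolayPt) : Set GolayPt) := by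
      ext x; simp
    rw [this, Set.ncard_coe_finset]
    decide
  · intro x hx y hy hxo hyo _
    obtain ⟨g, hg, g1, g2, g3⟩ := map3 (a := none) (b := some 0) (c := x) (a' := none) (b' := some 0)
      (c' := y) (by simp) (Ne.symm hx) (Ne.symm hxo) (by simp) (Ne.symm hy) (Ne.symm hyo)
    exact ⟨mk23 g hg g1, g2, g3⟩
  · obtain ⟨g, hg, g1, g2, -⟩ := map3 (a := none) (b := some 0) (c := some 1) (a' := none)
      (b' := some 1) (c' := some 0) (by simp) (by simp) (by decide) (by simp) (by simp) (by decide)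
    refine ⟨mk23 g hg g1, fun h => ?_⟩
    have h1 : g (some 0) = some 0 := h
    rw [g2] at h1
    exact absurd h1 (by decide)

theorem heptad {o : Finset GolayPt} (ho : o ∈ octads) (hx : none ∈ o) :
    IsCoatom (stabilizer Spor.M23 o) ∧ (stabilizer Spor.M23 o).index = 253 := by
  have := fin_G
  have h8 := card8 ho
  obtain ⟨n2, n4, tr⟩ := Cfsg.Agent.S1607.result none o ho hx
  have h := coatom_of_classes (G := Spor.M23) (o := o) (O := {x | x ∈ octads ∧ none ∈ x})
    (t := fun x => (o ∩ x).card) (L := [(2, 112), (4, 140)]) (Set.toFinite _) card_G ?_ ?_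
    (by decide) ?_ ?_ (move23 (by omega) (by omega)) (by decide)
  · exact ⟨h.1, h.2⟩
  · intro g
    exact ⟨smul_octad (M24_of_23 g) ho, (mem_smul_of_fix (none_of_23 g)).2 hx⟩
  · rintro x ⟨h1, h2⟩ hne
    have h3 : (o ∩ x).card ≠ 0 := by
      rw [Finset.card_ne_zero]
      exact ⟨none, Finset.mem_inter.2 ⟨hx, h2⟩⟩
    rcases inter_octad ho h1 hne with h | h | h
    · exact absurd h h3
    · simp [h]
    · simp [h]
  · intro e he
    have key : ∀ k : ℕ, k ≠ 8 → {x : Finset GolayPt | x ∈ {x : Finset GolayPt | x ∈ octads ∧ none ∈ x} ∧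
        x ≠ o ∧ (o ∩ x).card = k} = {o' : Finset GolayPt | o' ∈ octads ∧ none ∈ o' ∧ (o ∩ o').card = k} := by
      intro k hk
      ext x
      constructor
      · rintro ⟨⟨h1, h2⟩, -, h3⟩
        exact ⟨h1, h2, h3⟩
      · rintro ⟨h1, h2, h3⟩
        refine ⟨⟨h1, h2⟩, ?_, h3⟩
        rintro rfl
        rw [Finset.inter_self, h8] at h3
        exact hk h3.symm
    simp only [List.mem_cons, List.not_mem_nil, or_false] at he
    rcases he with rfl | rfl
    · rw [key 2 (by norm_num)]; exact n2
    · rw [key 4 (by norm_num)]; exact n4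
  · rintro x ⟨h1, h2⟩ y ⟨h3, h4⟩ _ _ hxy
    obtain ⟨g, hg, g1, g2, g3⟩ := tr x y h1 h3 h2 h4 hxy
    exact ⟨mk23 g hg g1, g2, g3⟩

theorem dodecad {d : Finset GolayPt} (hd : d ∈ dodecads) (hx : none ∈ d) :
    IsCoatom (stabilizer Spor.M23 d) ∧ (stabilizer Spor.M23 d).index = 1288 := by
  have := fin_G
  have h12 : d.card = 12 := hd.2
  obtain ⟨n4, n8, n6, tr⟩ := Cfsg.Agent.S1639.result none d hd hx
  have eq12 : ∀ e ∈ dodecads, (d ∩ e).card = 12 → e = d := by
    intro e he h
    have h1 : e.card = 12 := he.2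
    have h2 : d ∩ e = d := Finset.eq_of_subset_of_card_le Finset.inter_subset_left (by omega)
    have h3 : d ∩ e = e := Finset.eq_of_subset_of_card_le Finset.inter_subset_right (by omega)
    rw [← h3, h2]
  have h := coatom_of_classes (G := Spor.M23) (o := d) (O := {x | x ∈ dodecads ∧ none ∈ x})
    (t := fun x => (d ∩ x).card) (L := [(4, 165), (8, 330), (6, 792)]) (Set.toFinite _) card_G ?_ ?_
    (by decide) ?_ ?_ (move23 (by omega) (by omega)) (by decide)
  · exact ⟨h.1, h.2⟩
  · intro g
    refine ⟨⟨?_, ?_⟩, (mem_smul_of_fix (none_of_23 g)).2 hx⟩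
    · exact (Cfsg.Agent.S1566.smul_mem_dodecads ⟨g, M24_of_23 g⟩ hd).1
    · exact (Cfsg.Agent.S1566.smul_mem_dodecads ⟨g, M24_of_23 g⟩ hd).2
  · rintro x ⟨h1, h2⟩ hne
    have h3 : (d ∩ x).card ≠ 0 := by
      rw [Finset.card_ne_zero]
      exact ⟨none, Finset.mem_inter.2 ⟨hx, h2⟩⟩
    rcases Cfsg.Agent.SporadicStructure.DodecadRank.inter_cases hd h1 with h | h | h | h | h
    · exact absurd h h3
    · simp [h]
    · simp [h]
    · simp [h]
    · exact absurd (eq12 x h1 h) hne
  · intro e he
    have key : ∀ k : ℕ, k ≠ 12 → {x : Finset GolayPt | x ∈ {x : Finset GolayPt | x ∈ dodecads ∧ none ∈ x} ∧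
        x ≠ d ∧ (d ∩ x).card = k} = {d' : Finset GolayPt | d' ∈ dodecads ∧ none ∈ d' ∧ (d ∩ d').card = k} := by
      intro k hk
      ext x
      constructor
      · rintro ⟨⟨h1, h2⟩, -, h3⟩
        exact ⟨h1, h2, h3⟩
      · rintro ⟨h1, h2, h3⟩
        refine ⟨⟨h1, h2⟩, ?_, h3⟩
        rintro rfl
        rw [Finset.inter_self, h12] at h3
        exact hk h3.symm
    simp only [List.mem_cons, List.not_mem_nil, or_false] at he
    rcases he with rfl | rfl | rfl
    · rw [key 4 (by norm_num)]; exact n4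
    · rw [key 8 (by norm_num)]; exact n8
    · rw [key 6 (by norm_num)]; exact n6
  · rintro x ⟨h1, h2⟩ y ⟨h3, h4⟩ _ _ hxy
    obtain ⟨g, hg, g1, g2, g3⟩ := tr x y h1 h3 h2 h4 hxy
    exact ⟨mk23 g hg g1, g2, g3⟩

/-- octads avoiding the point, the index is known -/
theorem octad {o : Finset GolayPt} (ho : o ∈ octads) (hx : none ∉ o) :
    IsCoatom (stabilizer Spor.M23 o) ∧ (stabilizer Spor.M23 o).index = 506 := by
  have := fin_G
  have h8 := card8 ho
  have hidx := Cfsg.Agent.H964.NoHall.m23_index ho hx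
  obtain ⟨n0, n4, n2, tr⟩ := Cfsg.Agent.S1608.result none o ho hx
  refine ⟨?_, hidx⟩
  have hO : ∀ g : Spor.M23, g • o ∈ {x : Finset GolayPt | x ∈ octads ∧ none ∉ x} := fun g =>
    ⟨smul_octad (M24_of_23 g) ho, fun h => hx ((mem_smul_of_fix (none_of_23 g)).1 h)⟩
  have key : ∀ k : ℕ, k ≠ 8 → {x : Finset GolayPt | x ∈ {x : Finset GolayPt | x ∈ octads ∧ none ∉ x} ∧
      x ≠ o ∧ (o ∩ x).card = k} = {o' : Finset GolayPt | o' ∈ octads ∧ none ∉ o' ∧ (o ∩ o').card = k} := by
    intro k hk
    ext x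
    constructor
    · rintro ⟨⟨h1, h2⟩, -, h3⟩
      exact ⟨h1, h2, h3⟩
    · rintro ⟨h1, h2, h3⟩
      refine ⟨⟨h1, h2⟩, ?_, h3⟩
      rintro rfl
      rw [Finset.inter_self, h8] at h3
      exact hk h3.symm
  constructor
  · intro h
    rw [h, Subgroup.index_top] at hidx
    norm_num at hidx
  · intro K hK
    obtain ⟨L', hL', h1⟩ := orbit_size (G := Spor.M23) (o := o)
      (O := {x | x ∈ octads ∧ none ∉ x}) (Set.toFinite _) (t := fun x => (o ∩ x).card)
      (L := [(0, 15), (4, 210), (2, 280)]) hO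
      (by
        rintro x ⟨h1, _⟩ hne
        rcases inter_octad ho h1 hne with h | h | h <;> simp [h])
      (by decide)
      (by
        intro e he
        simp only [List.mem_cons, List.not_mem_nil, or_false] at he
        rcases he with rfl | rfl | rfl
        · rw [key 0 (by norm_num)]; exact n0
        · rw [key 4 (by norm_num)]; exact n4
        · rw [key 2 (by norm_num)]; exact n2)
      (by
        rintro x ⟨h1, h2⟩ y ⟨h3, h4⟩ _ _ hxy
        obtain ⟨g, hg, g1, g2, g3⟩ := tr x y h1 h3 h2 h4 hxy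
        exact ⟨mk23 g hg g1, g2, g3⟩)
      hK.le
    have h2 := Subgroup.relIndex_mul_index hK.le
    rw [relIndex_eq, h1, hidx] at h2
    have h3 : (1 + (L'.map Prod.snd).sum) ∣ 506 := ⟨_, h2.symm⟩
    have hc : ∀ L' ∈ List.sublists [((0 : ℕ), (15 : ℕ)), (4, 210), (2, 280)],
        (1 + (L'.map Prod.snd).sum) ∣ 506 →
          1 + (L'.map Prod.snd).sum = 1 ∨ 1 + (L'.map Prod.snd).sum = 506 := by decide
    rcases hc L' hL' h3 with h4 | h4
    · exfalso
      obtain ⟨k, hkK, hk⟩ := SetLike.exists_of_lt hK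
      rw [h4, Set.ncard_eq_one] at h1
      obtain ⟨a, ha⟩ := h1
      have h5 : o ∈ orbit K o := mem_orbit_self o
      have h6 : k • o ∈ orbit K o := ⟨⟨k, hkK⟩, rfl⟩
      rw [ha, Set.mem_singleton_iff] at h5 h6
      exact hk (h6.trans h5.symm)
    · rw [h4] at h2
      rw [← Subgroup.index_eq_one]
      omega

/-- **The row `M23`.** -/
theorem sep : Sep 5 Spor.M23 := by
  have := fin_G
  have : Fact (Nat.Prime 23) := ⟨by norm_num⟩
  have hne : octads.Nonempty := Set.nonempty_of_ncard_ne_zero (by rw [Cfsg.Agent.S0360.result]; norm_num)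
  -- an octad through the point and one avoiding it
  obtain ⟨o₀, ho₀⟩ := hne
  have h8 := card8 ho₀
  have hsh : ∀ a b : GolayPt, ∃ g : Equiv.Perm GolayPt, g ∈ M24 ∧ g a = b := by
    intro a b
    obtain ⟨g, hg⟩ := Cfsg.Agent.SporadicStructure.M23Index253.exists_map Cfsg.Agent.S0366.result
      (by norm_num : 1 ≤ 5) ![a] ![b] (fun i j _ => Subsingleton.elim i j)
      (fun i j _ => Subsingleton.elim i j)
    exact ⟨g, g.2, hg 0⟩
  obtain ⟨⟨c, hc, -⟩, d, hd, -⟩ := exists_in_out (s := o₀) (F := ∅) (by rw [h8]; decide) (by rw [h8]; decide)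
  obtain ⟨g, hg, hgc⟩ := hsh c none
  obtain ⟨g', hg', hgd⟩ := hsh d none
  have ho : g • o₀ ∈ octads := smul_octad hg ho₀
  have hx : none ∈ g • o₀ := (mem_smul_map hgc).2 hc
  have ho' : g' • o₀ ∈ octads := smul_octad hg' ho₀
  have hx' : none ∉ g' • o₀ := fun h => hd ((mem_smul_map hgd).1 h)
  -- a dodecad through the point
  obtain ⟨e₀, he₀⟩ : ∃ e, e ∈ dodecads := Set.nonempty_of_ncard_ne_zero (by rw [Cfsg.Agent.S0361.result]; norm_num)
  obtain ⟨⟨a, ha, -⟩, -⟩ := exists_in_out (s := e₀) (F := ∅) (by rw [he₀.2]; decide) (by rw [he₀.2]; decide)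
  obtain ⟨k, hk, hka⟩ := hsh a none
  have he : k • e₀ ∈ dodecads := Cfsg.Agent.S1566.smul_mem_dodecads ⟨k, hk⟩ he₀
  have hxe : none ∈ k • e₀ := (mem_smul_map hka).2 ha
  obtain ⟨c1, i1⟩ := point
  obtain ⟨c2, i2⟩ := heptad ho hx
  obtain ⟨c3, i3⟩ := octad ho' hx'
  obtain ⟨c4, i4⟩ := dodecad he hxe
  obtain ⟨x, hxo⟩ := exists_prime_orderOf_dvd_card' (G := Spor.M23) 23 (by rw [card_G]; norm_num)
  have hR : Nat.card (Subgroup.zpowers x) = 23 := by rw [Nat.card_zpowers, hxo]
  have hRt : Subgroup.zpowers x ≠ ⊤ := by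
    intro h
    rw [h, Subgroup.card_top, card_G] at hR
    norm_num at hR
  exact sep_five c1.1 c2.1 c3.1 c4.1 hRt
    (apart_of_index c1 c2 i1 i2 (by norm_num)) (apart_of_index c1 c3 i1 i3 (by norm_num))
    (apart_of_index c1 c4 i1 i4 (by norm_num)) (_root_.Cfsg.Agent.H867.Max.Sub.apart_of_card card_G c1 i1 hR (by norm_num))
    (apart_of_index c2 c3 i2 i3 (by norm_num)) (apart_of_index c2 c4 i2 i4 (by norm_num))
    (_root_.Cfsg.Agent.H867.Max.Sub.apart_of_card card_G c2 i2 hR (by norm_num)) (apart_of_index c3 c4 i3 i4 (by norm_num))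
    (_root_.Cfsg.Agent.H867.Max.Sub.apart_of_card card_G c3 i3 hR (by norm_num)) (_root_.Cfsg.Agent.H867.Max.Sub.apart_of_card card_G c4 i4 hR (by norm_num))

end Cfsg.Agent.H867.Max.MTwentyThree
end

-- part: H322/Eng/RowCo1
section
/-!
# Row `Co1` of S5906/S5907 (helper322)

The subgroups: the normalizers of the Sylow subgroups for 13, 11, 3, the subgroup `Co2` and the maximal subgroup `2^11:M24`.
-/

set_option autoImplicit false

namespace Cfsg.Agent.H322.RowCo1

open Subgroup Cfsg.Agent.OrdDiv Cfsg.Agent.H940 Cfsg.Agent.H940.Eng Cfsg.Agent.H940.Eng.D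
open Cfsg.Agent.H940.MaxCls

abbrev G : Type := Cfsg.Spor.Co1

theorem card : Nat.card G = n_co1 := H55.CoOneBd.card_co1
theorem simple : IsSimpleGroup G := Cfsg.Agent.S0399.result.1
theorem fin : Finite G := Nat.finite_of_card_ne_zero (by rw [card]; decide)

theorem nab : ¬ ∀ a b : G, a * b = b * a := by
  have := fin
  have := simple
  intro h
  obtain ⟨x, hx⟩ := @exists_prime_orderOf_dvd_card' G _ _ 2 ⟨Nat.prime_two⟩ (by rw [card]; decide)
  have hn : (zpowers x).Normal := ⟨fun n hn g => by rw [h g n, mul_inv_cancel_right]; exact hn⟩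
  rcases hn.eq_bot_or_eq_top with h1 | h1
  · have h2 := Nat.card_zpowers x
    rw [h1, hx, card_bot] at h2
    omega
  · have h2 := Nat.card_zpowers x
    rw [h1, hx, card_top, card] at h2
    exact absurd h2 (by decide)

theorem zp {R : Subgroup G} {r : ℕ} (hr : r.Prime) (hR : Nat.card R = r) : ∃ s : G, orderOf s = r ∧
    (centralizer (R : Set G) : Subgroup G) = centralizer ({s} : Set G) := by
  have := Fact.mk hr
  have := fin
  obtain ⟨x, hx⟩ := exists_prime_orderOf_dvd_card' (G := ↥R) r (by rw [hR])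
  have h1 : zpowers (x : G) = R := by
    apply eq_of_le_of_card_ge
    · rw [zpowers_le]; exact x.2
    · rw [Nat.card_zpowers, Subgroup.orderOf_coe, hx, hR]
  refine ⟨x, by rw [Subgroup.orderOf_coe, hx], ?_⟩
  have h2 : (centralizer ((zpowers (x : G) : Subgroup G) : Set G) : Subgroup G) = centralizer ({(x : G)} : Set G) := by
    rw [zpowers_eq_closure, centralizer_closure]
  rw [← h2, h1]

theorem c11 {R : Subgroup G} (hR : Nat.card R = 11) :
    Nat.card (centralizer (R : Set G)) ∣ prodl [(2, 1), (3, 1), (11, 1)] := by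
  obtain ⟨s, hs, hc⟩ := zp (by norm_num) hR
  obtain ⟨g, hg⟩ := H800.ME.CoFacts.conj_s hs
  rw [hc, ← H55.CoOneBd.card_cent_conj (isConj_iff.2 ⟨g, hg⟩), H800.ME.CoFacts.card_cent]
  decide

theorem c23 {R : Subgroup G} (hR : Nat.card R = 23) :
    Nat.card (centralizer (R : Set G)) ∣ prodl [(2, 1), (23, 1)] := by
  have := fin
  obtain ⟨s, hs, hc⟩ := zp (by norm_num) hR
  obtain ⟨a, rfl, ha, hao⟩ := H55.CoOneBd.exists_lift (by norm_num) (by norm_num) hs
  have hfin := CpAutBig.CoZero.finite_co0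
  have h1 := H604.Cop.Conway.card_cent_co0 hao
  have h2 := Nat.le_of_dvd Nat.card_pos (H55.CoOneBd.card_cent_dvd (by decide) ha)
  rw [hc]
  have h3 := h2.trans h1
  have h4 : 23 ∣ Nat.card ↥(centralizer ({(QuotientGroup.mk a : Cfsg.Spor.Co1)} : Set Cfsg.Spor.Co1)) := by
    rw [← hs, ← Subgroup.orderOf_mk (QuotientGroup.mk a : Cfsg.Spor.Co1) (mem_centralizer_singleton_iff.2 rfl)]
    exact _root_.orderOf_dvd_natCard _
  have h5 : 0 < Nat.card ↥(centralizer ({(QuotientGroup.mk a : Cfsg.Spor.Co1)} : Set Cfsg.Spor.Co1)) := Nat.card_pos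
  have h6 : prodl [(2, 1), (23, 1)] = 46 := by decide
  rw [h6]
  obtain ⟨k, hk⟩ := h4
  rw [hk] at h3 h5 ⊢
  have hk' : k = 1 ∨ k = 2 := by omega
  rcases hk' with rfl | rfl <;> norm_num

theorem c13 {R : Subgroup G} (hR : Nat.card R = 13) :
    Nat.card (centralizer (R : Set G)) ∣ prodl [(2, 3), (3, 9), (13, 1)] := by
  obtain ⟨s, hs, hc⟩ := zp (by norm_num) hR
  rw [hc]
  exact (CoThirteen.card_dvd hs).trans (by decide)

/-- the local data -/
def loc : List LD := [⟨11, 66, [(2, 2), (3, 1), (5, 1), (11, 1)]⟩, ⟨13, 682344, [(2, 4), (3, 9), (13, 1)]⟩,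
  ⟨23, 23, [(11, 1), (23, 1)]⟩]

theorem ctx (B : Base) : Ctx G l_co1 n_co1 o_co1 loc where
  fin := fin
  simple := simple
  card := card
  val := v_co1
  nodup := nd_co1
  ords := ords_co1 B
  loc := by
    have := fin
    have := simple
    intro ld hld
    simp only [loc, List.mem_cons, List.not_mem_nil, or_false] at hld
    rcases hld with rfl | rfl | rfl
    · obtain ⟨R, hR⟩ := exists_card_eq (G := G) (r := 11) (by decide +kernel) (by rw [card]; decide +kernel)
      exact loc_of_cent nab card (by decide +kernel) (by decide +kernel) (by decide +kernel) hR (c11 hR)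
        (by decide +kernel) (by decide +kernel)
    · obtain ⟨R, hR⟩ := exists_card_eq (G := G) (r := 13) (by decide +kernel) (by rw [card]; decide +kernel)
      exact loc_of_cent nab card (by decide +kernel) (by decide +kernel) (by decide +kernel) hR (c13 hR)
        (by decide +kernel) (by decide +kernel)
    · obtain ⟨R, hR⟩ := exists_card_eq (G := G) (r := 23) (by decide +kernel) (by rw [card]; decide +kernel)
      exact loc_of_cent nab card (by decide +kernel) (by decide +kernel) (by decide +kernel) hR (c23 hR)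
        (by decide +kernel) (by decide +kernel)

/-! ### the subgroup `2^11:M24` -/

theorem exists_m24 : ∃ M : Subgroup G, IsCoatom M ∧ Nat.card M = 501397585920 := by
  have hfin := CpAutBig.CoZero.finite_co0
  have := fin
  have hsurj : Function.Surjective (QuotientGroup.mk' (center Cfsg.Co0)) := QuotientGroup.mk'_surjective _
  have hker : (QuotientGroup.mk' (center Cfsg.Co0)).ker ≤ center Cfsg.Co0 := (QuotientGroup.ker_mk' _).le
  have hperf : commutator Cfsg.Co0 = ⊤ := ConwayFacts.AutCo1.commutator_Co0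
  have hN := CoOneType.GenCrit.isCoatom_N
  have h1 := _root_.Cfsg.Agent.H940.MaxCls.isCoatom_map hsurj hker hperf hN
  refine ⟨_, h1, ?_⟩
  have h2 := index_map_eq SporadicA.Co1Simple.N hsurj (ker_le_of_isCoatom hsurj hker hperf hN)
  rw [CoOneType.FrameFix.index_N] at h2
  have h3 := card_mul_index (SporadicA.Co1Simple.N.map (QuotientGroup.mk' (center Cfsg.Co0)))
  rw [h2] at h3
  have h4 : Nat.card (Cfsg.Co0 ⧸ center Cfsg.Co0) = 4157776806543360000 := card
  rw [h4] at h3
  apply Nat.eq_of_mul_eq_mul_right (by norm_num : 0 < 8292375)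
  rw [h3]

set_option maxHeartbeats 4000000 in
/-- the row `Co1` -/
theorem five (B : Base) : Sep 5 G := by
  have c := ctx B
  have := c.fin
  have := c.simple
  have hc := card
  obtain ⟨R11, h11⟩ := exists_card_eq (G := G) (r := 11) (by decide +kernel) (by rw [hc]; decide +kernel)
  obtain ⟨R13, h13⟩ := exists_card_eq (G := G) (r := 13) (by decide +kernel) (by rw [hc]; decide +kernel)
  have : Fact (Nat.Prime 3) := ⟨Nat.prime_three⟩
  obtain ⟨P⟩ : Nonempty (Sylow 3 G) := inferInstance
  have hPc : Nat.card (P : Subgroup G) = 3 ^ 9 := by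
    rw [Sylow.card_eq_multiplicity, hc]
    have : (n_co1).factorization 3 = 9 := by
      rw [← val_eq Nat.prime_three 9 n_co1 (by decide +kernel) (by
        have h := Nat.factorization_lt (n := n_co1) 3 (by decide +kernel)
        by_contra hlt
        push Not at hlt
        have h1 : 3 ^ (9 + 1) ∣ n_co1 := (pow_dvd_pow _ hlt).trans (Nat.ordProj_dvd _ _)
        exact absurd h1 (by decide +kernel))]
      decide +kernel
    rw [this]
  obtain ⟨ψ, hψ⟩ := H689.exists_co2_hom
  have hco2 : Nat.card ψ.range = 42305421312000 := by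
    rw [← NotCT.Orders.co2 ⟨MulEquiv.refl Cfsg.Spor.Co2⟩]
    exact (Nat.card_congr (MonoidHom.ofInjective hψ).toEquiv).symm
  obtain ⟨M, hM, hMc⟩ := exists_m24
  have f11 : ∀ p ∈ [11], Full p (normalizer (R11 : Set G)) := by
    intro p hp; rw [List.mem_singleton.1 hp]
    exact full_of_card hc (by decide +kernel) (by decide +kernel) h11
  have f13 : ∀ p ∈ [13], Full p (normalizer (R13 : Set G)) := by
    intro p hp; rw [List.mem_singleton.1 hp]
    exact full_of_card hc (by decide +kernel) (by decide +kernel) h13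
  have f3 : ∀ p ∈ [3], Full p ((normalizer ((P : Subgroup G) : Set G) :)) := by
    intro p hp; rw [List.mem_singleton.1 hp]
    exact full_normalizer Nat.prime_three P
  have fn : ∀ {A : Subgroup G}, ∀ p ∈ ([] : List ℕ), Full p A := fun p hp => absurd hp List.not_mem_nil
  have d11 : 11 ∣ Nat.card (normalizer (R11 : Set G)) := h11 ▸ card_dvd_of_le Subgroup.le_normalizer
  have d13 : 13 ∣ Nat.card (normalizer (R13 : Set G)) := h13 ▸ card_dvd_of_le Subgroup.le_normalizer
  have d3 : 3 ^ 9 ∣ Nat.card (normalizer ((P : Subgroup G) : Set G)) := hPc ▸ card_dvd_of_le Subgroup.le_normalizer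
  have dc := hco2.symm.dvd
  have nt : ∀ {K : Subgroup G}, K ≠ ⊥ → K ≠ ⊤ → normalizer (K : Set G) ≠ ⊤ := by
    intro K h1 h2 h3
    rcases (normalizer_eq_top_iff.1 h3).eq_bot_or_eq_top with h | h
    · exact h1 h
    · exact h2 h
  have nt' : ∀ {K : Subgroup G} {k : ℕ}, Nat.card K = k → (k != 1) = true → (k != n_co1) = true →
      normalizer (K : Set G) ≠ ⊤ := by
    intro K k h1 h2 h3
    rw [bne_iff_ne] at h2 h3
    refine nt ?_ ?_
    · rintro rfl
      rw [card_bot] at h1
      exact h2 h1.symm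
    · rintro rfl
      rw [card_top, hc] at h1
      exact h3 h1.symm
  have nc : ψ.range ≠ ⊤ := by
    intro h
    rw [h, card_top, hc] at hco2
    exact absurd hco2 (by decide +kernel)
  have hMi : M.index = 8292375 := by
    have h := card_mul_index M
    rw [hMc, hc] at h
    apply Nat.eq_of_mul_eq_mul_left (by norm_num : 0 < 501397585920)
    rw [h]
    decide +kernel
  exact sep_five (nt' h13 (by decide +kernel) (by decide +kernel)) (nt' h11 (by decide +kernel) (by decide +kernel)) nc hM.1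
    (nt' hPc (by decide +kernel) (by decide +kernel))
    (c.apart d13 d11 [(2, 21), (3, 9), (5, 4), (7, 2), (23, 1)] _ _ 60 f13 f11
      (Cfsg.Agent.H940.EngF.chk_fast (by decide +kernel)))
    (c.apart d13 dc [(2, 3), (3, 3), (5, 1), (7, 1)] _ _ 60 f13 fn
      (Cfsg.Agent.H940.EngF.chk_fast (by decide +kernel)))
    (apart_of_coatom_dvd hM d13 (by rw [hMc]; decide +kernel)).symm
    (c.apart d13 d3 [(2, 21), (5, 4), (7, 2), (11, 1), (23, 1)] _ _ 60 f13 f3
      (Cfsg.Agent.H940.EngF.chk_fast (by decide +kernel)))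
    (c.apart d11 dc [(2, 3), (3, 3), (5, 1), (7, 1), (13, 1)] _ _ 60 f11 fn
      (Cfsg.Agent.H940.EngF.chk_fast (by decide +kernel)))
    (apart_of_coatom_full hM (f11 11 (by simp)) (by rw [hMi]; decide +kernel)).symm
    (c.apart d11 d3 [(2, 21), (5, 4), (7, 2), (13, 1), (23, 1)] _ _ 60 f11 f3
      (Cfsg.Agent.H940.EngF.chk_fast (by decide +kernel)))
    (apart_of_coatom_dvd hM dc (by rw [hMc]; decide +kernel)).symm
    (c.apart dc d3 [(2, 3), (5, 1), (7, 1), (13, 1)] _ _ 60 fn f3
      (Cfsg.Agent.H940.EngF.chk_fast (by decide +kernel)))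
    (apart_of_coatom_dvd hM d3 (by rw [hMc]; decide +kernel))

end Cfsg.Agent.H322.RowCo1
end

-- part: H38/RowMcL
section
/-!
# Row `McL` of S5906/S5907 (helper38)

The normalizers of the Sylow subgroups for 5, 7, 11, the point stabilizer `U4(3)` (maximal: rank 3 on 275 points) and the
stabilizer of an edge of the McLaughlin graph (order 58320, maximal: orbits 2, 30, 162, 81).
-/

set_option autoImplicit false

namespace Cfsg.Agent.H38.RowMcL

open Subgroup Equiv Cfsg.Agent.OrdDiv Cfsg.Agent.H940 Cfsg.Agent.H940.Eng Cfsg.Agent.H940.Eng.D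
open Cfsg.Agent.H940.MaxCls Cfsg.Agent.SporadicA.PermTab Cfsg.Agent.H904.McLCent Cfsg.Agent.McLType.Gens
open Cfsg.Agent.H38.OrbKit

abbrev G : Type := Cfsg.Spor.McL

theorem iso : Cfsg.Spor.IsoMcL G := ⟨MulEquiv.refl _⟩
theorem card : Nat.card G = n_mcl := card_L iso
theorem fin : Finite G := Nat.finite_of_card_ne_zero (by rw [card]; decide)
theorem simple : IsSimpleGroup G := Cfsg.Agent.Schreier.McLaughlin.isSimple_mcl

/-- the local data -/
def loc : List LD := [⟨7, 14, [(2, 1), (3, 1), (7, 1)]⟩, ⟨11, 11, [(5, 1), (11, 1)]⟩]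

theorem ctx (B : Base) : Ctx G l_mcl n_mcl o_mcl loc where
  fin := fin
  simple := simple
  card := card
  val := v_mcl
  nodup := nd_mcl
  ords := ords_mcl B
  loc := by
    intro ld hld
    simp only [loc, List.mem_cons, List.not_mem_nil, or_false] at hld
    rcases hld with rfl | rfl
    · exact loc_of_eq card (by decide +kernel) (by decide +kernel) (by decide +kernel) fun R hR => by
        obtain ⟨h1, h2⟩ := seven iso R hR
        rw [h2]
        exact ⟨h1, by decide⟩
    · exact loc_of_eq card (by decide +kernel) (by decide +kernel) (by decide +kernel) fun R hR => by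
        obtain ⟨h1, h2⟩ := eleven iso R hR
        rw [h1, h2]; decide

/-! ### the tables -/

/-- tables in the stabilizer of `{0, 6}` -/
def ts : ℕ := 0x448728fb1ec36c768ba12a298260f91b027c2183d1e8100240471ea3006409a1fe330860f7184444880fd1a02a87c0cd1683a0868b91d6364228bd150384878e61a63b06208a1be12c528ab2142487010609225c520ca1e4354478b81f83705f8e7084270579031dc2cc570e419e3c4548fe1363386383c13a4205b0a20703881c8dd17634449886110304220d217c38c628fa08c438778ac10e3cc4c8d420e0ec630a01e030c580da1203588583a1462341f8961163244c04a1643a82088e1622841f06f1060d03b8330221f81b0090b81e038873102058128370c80603d8270ce0b80602d03c0082d81f0a00c40e87a058090158170d20140a8790b417c1802305e06c0c82100e08819084008034081051bc32c449002022d47489e2122306b902128214820b715a244538bc100180100750e8144330700ba1542b0720ec020140130b20a44107c0d4148368140d013c3f8120d802c370630fa1842b80e04c0043285301e0d42f0540540703101a09a0002706b00616005006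
def tg : ℕ := 0x3ac878f62223d03f0731803207107a0f01905c8662060c4760b61ca3f87e8c31f60dc3c8e31ee4407a90e1e6308788f01d03a8419012243b8258ef0662087f8741f0424400bd1be378638be14c0645005c04c06c218a515411c458ab1362884d0251182282b90a1ba1f03f8751f83c83290b17e370700bc0c41ec828b816e4002109c0ac2840a88f09e1540984c1a034c3703409436c6a04805e338590d90e20a4360b419e3344c81d0120904a8380080441e02d1601ac170cb1a23281405d03c218018841da398408e118a4343e8c61744207c9070ee18c620e42181844f8170b42a40b09d11c060280320ce410609060ec2ec390600b6138440d80be1bc1b02c1922cc5702b01a0f42886915e178028ac1d229c0a0a41a41182280e1aa2d41a82207403c290910400fc1c8941f4164208a81ce1a081027146234480580a80684f08906035c660960421001183b03e21c4c00b1ac0a86d06a0e01b45884915a0484901007c110298020380284b80100e0182689310a03004000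
def th : ℕ := 0x38c879121e23208504213e3d0780bb142234459041543804e8b61da3147e8c314c39c5c0eb1ee3e07a90d1583fc888e21de12c7908c1ec390750e81ba29c610e9220424810e10823787d09b1f62704509016e42c5d10720611c5c8c617c3984d0dc2022804f07e0661543f86210820c3281b02e094188610ea09c2c87904c1f4398190c01e01905a09c1f02a04c15c34c5a83919c36c5904807c1286a0981ac244658961981184c8ca1603681e83b074248648220120283486c06c0741500100e17c018fc1ca288608bd1fc438800ab0863107c8a5148224840ee1522f0600bf11e430440ec11c28c830150ce198408500341e8390560b613c0b04010c25c688b10782cc6804415e2544282e01a14c028f30e82080a07708a334690ad0601b81a82d0081a8290290380841a00b18e4146f8a806e1604007b0301902e0680261d82b8631aa35c678b407e3604983809221c6c8940e20a01200f0e00201601f01c1340880c05e0ac2f0020401ac3785d03c018090230a204036800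
/-- orbit certificates -/
def oL : ℕ := 0x1042285308c10c1984306812c2a84306a0f42582c07a0941e8450960b42284007c0f41d8440941101d04408c10c2104408a0f81a83e0781041504608a0f8220390881341d83e0640d0250460601142203c0720d01c84508412c1a04b0841382503d0941082183c09810c1b03608a0f01c0390781141b03e0760cc2303e08c1141f04508c1101b04b07a0d82284108c0e81704508c0d81f04e05c1282303e078114218430940e81e8350880f0100410720f42103c0880ec1e84c0781081884608c0f40d8420680f01502e0600c4268360620e0180430520cc1a03607c0a4218480740b01e83e07a0b82102208a0b01a0450620f815848078128230430741082402606c0f81a03507404c0c03207a1282103a0441081f0440881181c8430761101f03d0980740884208a1142704208a1101c03d07a0680a83e0760f41d833066118228330700c81d84305a0b01d83d04a1141a0400781181e83b0800d41d8380801001a84203a0d41d03d090114218480840901d03b0180d424000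
def oU0 : ℕ := 0x1fffffffffffffffffffffffffffffffffffffffffffffffffffffffffffffffffffffffffffffffffffffffffffffffffffffffffffffffffffffffffffffffffffffffffffffffffffffffffffffffffffffffffffffffffffffffffffffffffffffffffffffffffffffffffffffffffffffffffffffffffffffffffffffffffffffffffffffffffffffffffffffffffffffffffffffffffffffffffffffffffffffffffffffffffffffffffffffffffffffffffffffffffffffffffffffffffffffffffffffffffffffffffffffffffffffffffffffffffffffffffffffffffffffffffffffffffffffffffffffffffffffffffffffffffffffffffffffffffffffffffffffffffffffffffffffffffffffffffffffffffffffffffffffffffffffffffffffffffffffffffffffffffffffffffffffffffffffffffffffffffffffffffffffffffffffffffffffffffffffffffffffffffffffffffffffffffffffffffffffffffffffffffffffffffffffffffffffffff800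
def oU1 : ℕ := 0xa4160320560b40882b03a0d41a02bfffffc1801c049ffffffff057ffc1202003a073ff8220540b00d030ffe09411022059ffc08fff04bfffff82504606814fff0560d7fffffffe08815fff021ffc11021ffe087fffff0440f00c833ffe0a3fffffffe0abff82805408fff815048087ff818043ffffffff057ffc147fffffffc0effffffffffffffffe04ffffff04a06806fff04a057ff82dffe0cfff82504bfffffffffffffc0e014fffffffffffffe073ff819fffffffffff03608bfffffffe073ff82a02406bfffffffe053ff815ffe063fffff013ffc0cfff03bffc11828ffe063ffffffffffffffff05402bfffffffe077fffff045fffff823055ffc147fffffffc08fffffffffffffffffffffffffffe0afff833061ffc0d7ffffe0abff81bffffffffffffffffffffff0480a3fffff049fffffffffffffc0dfffffffffffffffffffffffffffe023ffffffffffc0e7ff047ffffffff041fffffffffffffc127ffffffffffffffffffffffffffe003ffffffffffffffff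
def oU2 : ℕ := 0x1ffffffffffffffffffffffffffffff042077fffffffe0d41582dffe0b7ffffffffffc12ffffffffffffff059ffffffffffe0abff81affe0901afffffffffff82cfffffc1682a06bfffff822ffe083fffff069ffc16020fffffffffff04bffc10028043ffc0e7fffffffc127fffffffc147ffffe07415824ffe093ff82d05808bff82303208c12018033ffc0c82bffffffff828fffffc117ff057ffc0efffffe074108210520affffff0400b01a02d047ffc14fff0460640e81dfffffc18011037ffc1e7fffffffc1a82c04bffc057ff047ffc12010ffe087ff82bffe0a3fffff047ffc100240340b008035fffffc12012047ffc16018ffe04409fffffe063ff82c036063ff8200360f01e0250360341182c077ffc127ffffe097ff82104bffc127ff0460ec2202204208416822fffffc1201affe0ec1d81b038077ff82004a0900a8200380900c01804bffc0c02306a023ff818ffe0500d01dffe0800e01c03604bff81506a08c0c8180280440800b029ffc0e814088094007ff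
def oE0 : ℕ := 0x1ffffffffffffffffffffffffffffffffffffffffffffffffffffffffffffffffffffffffffffffffffffffffffffffffffffffffffffffffffffffffffffffffffffffffffffffffffffffffffffffffffffffffffffffffffffffffffffffffffffffffffffffffffffffffffffffffffffffffffffffffffffffffffffffffffffffffffffffffffffffffffffffffffffffffffffffffffffffffffffffffffffffffffffffffffffffffffffffffffffffffffffffffffffffffffffffffffffffffffffffffffffffffffffffffffffffffffffffffffffffffffffffffffffffffffffffffffffffffffffffffffffffffffffffffffffffffffffffffffffffffffffffffffffffffffffffffffffffffffffffffffffffffffffffffffffffffffffffffffffffffffffffffffffffffffffffffffffffffffffffffffffffffffffffffffffffffffffffffffffffffffffffffffffffffffffffffffffffffffffffffffffffffffffffffe023fffffffffffff800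
def oE1 : ℕ := 0xc81402806204804fffffe047ffffffffffffffff031ffffffff035ffc087ff041fffff8300500c418012ffe088197fffffffc087ff075fffffffffffffc10fff051fffffffffffffffffff031fffffffffffffffffff045fffffffffffffffffffffffffff80afffffffffffffe08bffffffffffffffffffffffffffffffffffffffffffffffffffffffffffffffe0a7fffffffe063fffffffffffffffffffffffffffffffffffffffffffffffffffffffffffffffffffffffffffffffffffffffffffff033ffffffffffe003ffffffffffffffffffffffffffffffffffffffffffffffffffffffffffffffffffffffffffffffffffffffffffffffffffffffffffffffffffffffffffffffffffffffffffffffffffffffffffffffffffffffffffffffffffffffffffffffffffffffffffffffffffffffffffffffffffffffffffffffffffffffffffffffffffffffffffffffffffffffffffffffffffffffffffffffffffffffffffffffffffffffffffffffffffffffffff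
def oE2 : ℕ := 0x1ffffffffffffffff831045ffc1802a05408011040ffe0e811030ffe08bff829ffe0c018ffffffffffffff041fffff83a0500e3ff829ffe108200310640c3ff838ffe0c014032ffe14014020ffe0841c02affe04019029ffe0c40801a0640a01882a0540a3fffff0620440c022045ffc140220700a41cfff0420a811030ffe0c819022050063ff811ffe04bff831035ffc10039065ffc11038ffe0a010832035ffc0c0220640a00c028012064147ffffe0c3ff820015ffc1482a0320c7fffffffe0abff818ffe0c819031043ffc140080620a81402a071ffc14841055ffc108280240a7ff821fffffc107ff05010018829ffe063ff82a043fffff8310300480d7ffffe0800cfffffe0cbff820ffffffff82a0940c3ff8380500e01d7ff0640c3ff832fffffc1cffffffffc1d7ff070087ff830073ffc1d029ffe08014ffffffffffffff041ffc18810ffe0cbffffffffffc147ff033ffc0d7ff063fffffffffffffc1c7ffffffffffffffffffc007ffffffffffffffffffffffff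
def oE3 : ℕ := 0x1ffffffffffffffffffffffffffffffffffffffffffffffffffffffffffffffffffffffffffffffffffffffffffffffffffffffffffffffffffffffffffffffffffffffffffff075fffffffffffffffffff051fffffffffffffffffffffffffffffffffffc0c7ffffffffffffffffffffffffffffffff832fffffffffff051fffffffffffffc18fff021ffc157ffffffffffffffffffffffff043ffffffffffe083ffffffffffffffffffffffff822051ffc117ffffe08bffffffffffc0d00a055ffc187fffffffffffffffffffffffffffffffffffffe063fffffffe0c3ffffffffffc097ff0520abff830fffffffffff045ffc147ffffe06008fffffffffff828043fffff820035ffc1d7ff0320840cffffffffc107ffffffffff828fffffc18fff0500a7ff82903408bff822fffffc147ffffe0cbfffff031fffff83104004014821ffe0c3fffff043ffc0c021054083ff810ffe067ff828ffe04814029064023ff8200440a810028032063ff809041ffc0902a0720a8007ff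

theorem inTs : InG K0 ts := InG.word (L := [e_y, e_x, e_w, e_y]) (fun P hP => inAll P (by
  simp only [List.mem_cons, List.not_mem_nil, or_false] at hP
  simp only [e7, List.mem_cons, List.not_mem_nil, or_false]
  tauto)) (by decide +kernel)

theorem inTg : InG K0 tg := InG.word (L := [e_b, e_x]) (fun P hP => inAll P (by
  simp only [List.mem_cons, List.not_mem_nil, or_false] at hP
  simp only [e7, List.mem_cons, List.not_mem_nil, or_false]
  tauto)) (by decide +kernel)

theorem inTh : InG K0 th := InG.word (L := [e_a, e_g, e_a, e_x, e_g]) (fun P hP => inAll P (by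
  simp only [List.mem_cons, List.not_mem_nil, or_false] at hP
  simp only [e7, List.mem_cons, List.not_mem_nil, or_false]
  tauto)) (by decide +kernel)

/-! ### the colors -/

def cU (j : Fin 275) : Fin 3 := if j = 0 then 0 else if bitM 275 adjM 0 j = 1 then 1 else 2
def szU : Fin 3 → ℕ := ![1, 112, 162]
def cE (j : Fin 275) : Fin 4 :=
  if j = 0 ∨ j = 6 then 0 else if bitM 275 adjM 0 j + bitM 275 adjM 6 j = 2 then 1
  else if bitM 275 adjM 0 j + bitM 275 adjM 6 j = 1 then 2 else 3
def szE : Fin 4 → ℕ := ![2, 30, 162, 81]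

theorem hszU : ∀ m, (Finset.univ.filter fun j => cU j = m).card = szU m := by decide +kernel
theorem hszE : ∀ m, (Finset.univ.filter fun j => cE j = m).card = szE m := by decide +kernel

/-! ### the subgroups -/

variable {θ : G →* Perm (Fin 275)}

theorem rel (R : _root_.Cfsg.Agent.H904.McLCent.Rep G θ) (g : G) (i j : Fin 275) : bitM 275 adjM (θ g i) (θ g j) = bitM 275 adjM i j := by
  have h1 : θ g ∈ K0 := by rw [← R.range]; exact ⟨g, rfl⟩
  exact K0_le h1 i j

theorem trans (R : _root_.Cfsg.Agent.H904.McLCent.Rep G θ) (j : Fin 275) : ∃ g ∈ (⊤ : Subgroup G), θ g 0 = j := by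
  have hT : ∀ P ∈ e7, InG θ.range P := fun P hP => by rw [R.range]; exact inAll P hP
  obtain ⟨_, ⟨g, rfl⟩, h⟩ := orb_of_chk (x := 0) (P0 := e_a) (L := e7) (C := oL) (hT _ (by simp [e7])) hT
    (by decide +kernel) j (by revert j; decide +kernel)
  exact ⟨g, mem_top g, h⟩

theorem patU (R : _root_.Cfsg.Agent.H904.McLCent.Rep G θ) : Pat θ (st θ 0) cU := by
  have hT : ∀ P ∈ [e_a, e_b, e_c, e_x, e_w, e_g], InG ((st θ 0).map θ) P := by
    intro P hP
    have h1 : InG θ.range P := by
      rw [R.range]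
      apply inAll
      simp only [List.mem_cons, List.not_mem_nil, or_false] at hP
      simp only [e7, List.mem_cons, List.not_mem_nil, or_false]
      tauto
    refine inMap_st h1 ?_
    clear h1
    revert P
    decide +kernel
  exact pat_of_chk (hT e_a (by simp)) hT ![0, 6, 1] ![oU0, oU1, oU2] (by decide +kernel) (by decide +kernel)

theorem patE (R : _root_.Cfsg.Agent.H904.McLCent.Rep G θ) : Pat θ (pst θ 0 6) cE := by
  have hT : ∀ P ∈ [ts, tg, th], InG ((pst θ 0 6).map θ) P := by
    intro P hP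
    have h1 : InG θ.range P := by
      rw [R.range]
      simp only [List.mem_cons, List.not_mem_nil, or_false] at hP
      rcases hP with rfl | rfl | rfl
      · exact inTs
      · exact inTg
      · exact inTh
    refine inMap_pst h1 ?_
    clear h1
    revert P
    decide +kernel
  exact pat_of_chk (hT ts (by simp)) hT ![0, 126, 9, 1] ![oE0, oE1, oE2, oE3] (by decide +kernel) (by decide +kernel)

theorem card_U (R : _root_.Cfsg.Agent.H904.McLCent.Rep G θ) : Nat.card (st θ 0) = 3265920 := by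
  have h1 := card_of_trans (θ := θ) (K := ⊤) (i₀ := 0) (trans R)
  rw [card_top, card, top_inf_eq] at h1
  have h2 : n_mcl = 275 * 3265920 := by decide
  omega

theorem card_U6 (R : _root_.Cfsg.Agent.H904.McLCent.Rep G θ) : Nat.card ↥(st θ 0 ⊓ st θ 6) = 29160 := by
  have h1 := (patU R).card_exact (sz := szU) (fun h hh j => ?_) hszU 6
  · rw [card_U R, show szU (cU 6) = 112 by decide +kernel] at h1
    omega
  · have e0 : θ h 0 = 0 := hh
    have h2 : θ h j = 0 ↔ j = 0 := by
      constructor
      · intro h3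
        exact (θ h).injective (by rw [h3, e0])
      · rintro rfl
        exact e0
    have h3 := rel R h 0 j
    rw [e0] at h3
    unfold cU
    simp only [h2]
    rw [show bitM 275 adjM 0 ((θ h j : Fin 275) : ℕ) = bitM 275 adjM 0 (j : ℕ) from h3]

theorem card_E0 (R : _root_.Cfsg.Agent.H904.McLCent.Rep G θ) : Nat.card ↥(pst θ 0 6 ⊓ st θ 0) = 29160 := by
  rw [pst_inf_st (by decide), card_U6 R]

/-- the `E`-orbit of `0` -/
theorem card_E (R : _root_.Cfsg.Agent.H904.McLCent.Rep G θ) : Nat.card (pst θ 0 6) = 58320 := by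
  have h1 := card_eq (θ := θ) (pst θ 0 6) 0
  rw [card_E0 R] at h1
  have h2 : orb θ (pst θ 0 6) 0 = {0, 6} := by
    ext j
    rw [mem_orb, Finset.mem_insert, Finset.mem_singleton]
    constructor
    · rintro ⟨g, hg, rfl⟩
      rcases mem_pst.1 hg with h | h
      · exact Or.inl h.1
      · exact Or.inr h.1
    · intro hj
      exact patE R 0 j (by rcases hj with rfl | rfl <;> decide)
  rw [h2] at h1
  rw [h1]
  decide

theorem coU (R : _root_.Cfsg.Agent.H904.McLCent.Rep G θ) : IsCoatom (st θ 0) := by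
  haveI := fin
  refine coatom_of (patU R) hszU 0 card (a := 3265920) ?_ ?_ ?_ ?_ ?_
  · rw [inf_idem, card_U R]
  · intro h
    have h1 := card_U R
    rw [h, card_top, card] at h1
    exact absurd h1 (by decide)
  · intro g hg
    have h1 := hg 0 rfl
    rw [mem_st]
    by_contra h2
    have h3 : cU (θ g 0) ≠ cU 0 := by
      generalize θ g 0 = v at h2
      revert v
      decide +kernel
    exact h3 h1
  · decide +kernel
  · intro K hK ht
    have h1 := card_of_trans ht
    have h2 : K ⊓ st θ 0 = st θ 0 := inf_eq_right.2 hK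
    rw [h2, card_U R] at h1
    rw [← card_eq_iff_eq_top, h1, card]
    decide

theorem coE (B : Base) (R : _root_.Cfsg.Agent.H904.McLCent.Rep G θ) : IsCoatom (pst θ 0 6) := by
  haveI := fin
  refine coatom_of (patE R) hszE 0 card (a := 29160) ?_ ?_ ?_ ?_ ?_
  · rw [card_E0 R]
  · intro h
    have h1 := card_E R
    rw [h, card_top, card] at h1
    exact absurd h1 (by decide)
  · intro g hg
    have key : ∀ v : Fin 275, cE v = cE 0 → v = 0 ∨ v = 6 := by decide +kernel
    have h1 := key _ (hg 0 rfl)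
    have h2 := key _ (hg 6 (by decide))
    rw [mem_pst]
    rcases h1 with h1 | h1 <;> rcases h2 with h2 | h2
    · exact absurd ((θ g).injective (h1.trans h2.symm)) (by decide)
    · exact Or.inl ⟨h1, h2⟩
    · exact Or.inr ⟨h1, h2⟩
    · exact absurd ((θ g).injective (h1.trans h2.symm)) (by decide)
  · decide +kernel
  · intro K hK ht
    have h1 := card_of_trans ht
    have h2 : 29160 ∣ Nat.card ↥(K ⊓ st θ 0) := by
      rw [← card_E0 R]
      exact card_dvd_of_le (inf_le_inf_right _ hK)
    have h3 : 8019000 ∣ Nat.card K := by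
      rw [h1]
      exact Nat.mul_dvd_mul_left 275 h2
    have h4 : 58320 ∣ Nat.card K := by
      rw [← card_E R]
      exact card_dvd_of_le hK
    have h5 := (ctx B).over [(2, 3), (7, 1)] [] [] 60 (by decide +kernel) h4 h3 (by simp)
    rcases h5 with h5 | h5
    · exact h5
    · exact absurd h5 List.not_mem_nil

theorem card_P5 [Finite G] [Fact (Nat.Prime 5)] (P5 : Sylow 5 G) : Nat.card P5 = 125 := by
  rw [P5.card_eq_multiplicity, card]
  have : n_mcl.factorization 5 = 3 := by
    rw [show n_mcl = 5 ^ 3 * 7185024 by decide, Nat.factorization_mul (by norm_num) (by norm_num),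
      Nat.factorization_pow, Finsupp.add_apply, Finsupp.smul_apply, (Fact.out : Nat.Prime 5).factorization_self,
      Nat.factorization_eq_zero_of_not_dvd (by norm_num)]
    rfl
  rw [this]
  norm_num

/-- the row `McL` -/
theorem five (B : Base) : Sep 5 G := by
  have c := ctx B
  haveI := c.fin
  haveI := c.simple
  have hc := card
  obtain ⟨θ, R⟩ := exists_rep iso
  obtain ⟨R7, h7⟩ := exists_card_eq (G := G) (r := 7) (by decide +kernel) (by rw [hc]; decide +kernel)
  obtain ⟨R11, h11⟩ := exists_card_eq (G := G) (r := 11) (by decide +kernel) (by rw [hc]; decide +kernel)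
  have c7 := (seven iso R7 h7).2
  have c11 := (eleven iso R11 h11).2
  have p5 : Nat.Prime 5 := by norm_num
  haveI := Fact.mk p5
  obtain ⟨P5⟩ : Nonempty (Sylow 5 G) := inferInstance
  have hP5 : 125 ∣ (Nat.card (normalizer ((P5 : Subgroup G) : Set G)) :) := by
    have h1 := card_P5 P5
    rw [← h1]
    exact card_dvd_of_le le_normalizer
  have ne : ∀ {A : Subgroup G} {k : ℕ}, Nat.card A = k → (k != n_mcl) = true → A ≠ ⊤ := by
    intro A k h1 h2 h3
    rw [h3, card_top, hc] at h1
    rw [bne_iff_ne] at h2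
    exact h2 h1.symm
  have ne5 : normalizer ((P5 : Subgroup G) : Set G) ≠ ⊤ := by
    intro h
    have hn : (P5 : Subgroup G).Normal := normalizer_eq_top_iff.1 h
    have h1 := card_P5 P5
    rcases hn.eq_bot_or_eq_top with h2 | h2
    · have h3 : Nat.card (P5 : Subgroup G) = 125 := h1
      rw [h2, card_bot] at h3
      exact absurd h3 (by norm_num)
    · have h3 : Nat.card (P5 : Subgroup G) = 125 := h1
      rw [h2, card_top, hc] at h3
      exact absurd h3 (by decide)
  have f5 : ∀ p ∈ [5], Full p (normalizer ((P5 : Subgroup G) : Set G)) := by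
    intro p hp; rw [List.mem_singleton.1 hp]
    exact full_normalizer p5 P5
  have f7 : ∀ p ∈ [7], Full p (normalizer (R7 : Set G)) := by
    intro p hp; rw [List.mem_singleton.1 hp]
    exact full_of_card hc (by decide +kernel) (by decide +kernel) h7
  have f11 : ∀ p ∈ [11], Full p (normalizer (R11 : Set G)) := by
    intro p hp; rw [List.mem_singleton.1 hp]
    exact full_of_card hc (by decide +kernel) (by decide +kernel) h11
  have kU := coU R
  have kE := coE B R
  have cU := card_U R
  have cE := card_E R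
  have iU : (st θ 0).index = 275 := by
    have h1 := (st θ 0).card_mul_index
    rw [cU, hc] at h1
    have h2 : n_mcl = 3265920 * 275 := by decide
    omega
  exact sep_five ne5 (ne c7 (by decide +kernel)) (ne c11 (by decide +kernel)) kU.1 kE.1
    (c.apart hP5 c7.symm.dvd [(2, 6), (3, 5), (11, 1)] _ _ 60 f5 f7 (by decide +kernel))
    (c.apart hP5 c11.symm.dvd [(2, 7), (3, 6), (7, 1)] _ _ 60 f5 f11 (by decide +kernel))
    (apart_of_coatom_dvd kU hP5 (by rw [cU]; decide)).symm
    (apart_of_coatom_dvd kE hP5 (by rw [cE]; decide)).symm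
    (c.apart c7.symm.dvd c11.symm.dvd [(2, 6), (3, 5), (5, 2)] _ _ 60 f7 f11 (by decide +kernel))
    (apart_of_coatom_full kU (f7 7 (by simp)) (by rw [iU]; decide)).symm
    (apart_of_coatom_dvd kE c7.symm.dvd (by rw [cE]; decide)).symm
    (apart_of_coatom_dvd kU c11.symm.dvd (by rw [cU]; decide)).symm
    (apart_of_coatom_dvd kE c11.symm.dvd (by rw [cE]; decide)).symm
    (apart_of_coatoms kU kE (by rw [cU, cE]; decide))

end Cfsg.Agent.H38.RowMcL
end

-- part: H38/RowHS
section
/-!
# Row `HS` of S5906/S5907 (helper38)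

In the action on the 100 vertices of the Higman-Sims graph: the point stabilizer `M22`, the stabilizers of an edge and of
a non-edge (all three maximal), a subgroup with orbits `8, 28, 64` (in `4^3:L3(2)`), and the normalizer of a Sylow
5-subgroup.
-/

set_option autoImplicit false

namespace Cfsg.Agent.H38.RowHS

open Subgroup Equiv Cfsg.Agent.OrdDiv Cfsg.Agent.H940 Cfsg.Agent.H940.Eng Cfsg.Agent.H940.Eng.D
open Cfsg.Agent.H940.MaxCls Cfsg.Agent.SporadicA.PermTab Cfsg.Agent.H904.HSCent Cfsg.Agent.HN Cfsg.Agent.HN.HS100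
open Cfsg.Agent.H38.OrbKit

abbrev G : Type := Cfsg.Spor.HS

theorem iso : Cfsg.Spor.IsoHS G := ⟨MulEquiv.refl _⟩
theorem card : Nat.card G = n_hs := KFacts.HS.card iso
theorem fin : Finite G := Nat.finite_of_card_ne_zero (by rw [card]; decide)
theorem simple : IsSimpleGroup G := by
  obtain ⟨⟨e⟩, h⟩ := HN.AutHS.nonempty_Q
  have : Nontrivial G := e.toEquiv.symm.nontrivial
  exact IsSimpleGroup.isSimpleGroup_of_surjective e.toMonoidHom e.surjective

/-- the local data -/
def loc : List LD := [⟨7, 14, [(2, 1), (3, 1), (7, 1)]⟩, ⟨11, 11, [(5, 1), (11, 1)]⟩]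

theorem ctx (B : Base) : Ctx G l_hs n_hs o_hs loc where
  fin := fin
  simple := simple
  card := card
  val := v_hs
  nodup := nd_hs
  ords := ords_hs B
  loc := by
    intro ld hld
    simp only [loc, List.mem_cons, List.not_mem_nil, or_false] at hld
    rcases hld with rfl | rfl
    · exact loc_of_eq card (by decide +kernel) (by decide +kernel) (by decide +kernel) fun R hR => by
        obtain ⟨h1, h2⟩ := H904.TwoHS.seven iso R hR
        rw [h2]
        exact ⟨h1, by decide⟩
    · exact loc_of_eq card (by decide +kernel) (by decide +kernel) (by decide +kernel) fun R hR => by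
        obtain ⟨x, -, H⟩ := H904.TwoHS.eleven iso
        obtain ⟨h1, h2⟩ := H R hR
        rw [h1, h2]; decide

/-! ### the tables -/

/-- two generators of the stabilizer of 0 -/
def t1 : ℕ := 0xa40dc250170be020140160b61440603a0ae1302a05007e0743001f06a1601905305e184058060c60b80983d0860780d03e0ac1741583c058090068220b2110198340421780380304a06c1d81106c0602584008c0701484e0920e02780a0aa0542382604e048080390b40640784101c0501685c084004150620040800284d0621201800401208c22800
def t2 : ℕ := 0x5a03c0283a06e0542b02f0240b02581002802c120380980942301e0600742c81c02c108248480aa09c0705b0461401483e0500a80b85d0a21502006001415c3084408217c0384f0b80f4110450120e40604307614c2900407e07c170200c61281882600606c158060421342f00106a0d00d0580c4168010330780c80401909c060098470220341b000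
def tq : ℕ := 0x520800f04f0b2040218320280b8108500820981101508001c120520941702f85302c0c01e0390760ac1985a09218413818004130028280260101185505e16c0d03d03603c2c02d03a024300120ae1200c85d08c0703104701605c0185e09c0202a03f0580d01d03e0220d81b84b0a21141c02503e110068420540280700c0620181a86309a15800800
def tsE : ℕ := 0xc00f83081d0861301a80e07818c1404e04400c1781200a1442382905c0901f84d0921281283402e0302e0010be0c82a0210bc1640685b05a1600800408c0602004804e0541880f0a00cc0883b0260582a86209e0280103a03415c2e81c0820c02d02006e02c2283d0a40e40402308807c1602a0120641b01b0280980f04200e0002b0380a612c15806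
def tsN : ℕ := 0x9a0b01a03703e0741d81e0a81781d04c0941441e05f0a40f81404302c1883001106015c1100b0ac1702284f0aa0bc0485804805c0785007e0c81c8490c6118258610560b40e01204e0a42c8080060a80a84702801c1085d090008208040b60d80603107a0b80d8010a60140d04201a0d4200330320380985a00c0001284e04c08c220200200e00c00a
def tf1 : ℕ := 0xc40e83084e05e1782603c07a0a00e8580921102a84f0580ec2905005c0f8060370b41181a0220260d42d8120be07c0b04d07e1802280d0a218c0b8470ba050250570081041881e0861500402b0a60441484b00a0842c8480160900d80f0060701283004c0381b01a00c0c8198190701580082d0120602e04000e028100100460e40001508400815027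
def tf2 : ℕ := 0xa40741103b07a0e81404305e0f8060080920940f0030b00dc3002e0aa0fc2f0050641181a06103e0b00805f02c15018851098024138560c60cc0882401615c250190b816c090500780041a84b01a13c1b04409c11c168060800c02104502e1201582103803c1480404c1642680a07008c0985a0c4174100180820500d0070a60e4000150360a80100e
def ta1 : ℕ := 0x3a1643085a0be134200190b6180310240ae14c2801f0ac11c0b8550660e82f03f04a128010480a406c0702b0860540905d0980a01b03c022138150380180f41083409e0201880905209c1602d0880e41783e05c098258580160881a8200a803c3181c08c0502e00d0a20402101a0021041d81603c1140c0370460281803200e0180180400a12409800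
def ta2 : ℕ := 0x44188098540141780585c0681140b0580020f0020600381481384a09e0c42582609a140248480480ec2d01207e0780602a0860e41085608c0e01f03a0640500285b0520dc2703005e05c0f80e010100198230a21301284705018c1e82005a1080385302200c0481805c1640a8360c21100d81001e0b0068410ba17c0c82b03a0181a8550340082b800
/-- orbit certificates -/
def oL : ℕ := 0x740c8200380740e81c8300740c8190310740c81c82a0640e8188390620c41502a0600c81c8380540c01402a0620a4110310600a4150320520a01502a0540c4180310440a414029050084150220540a8148220440a4100290520a0108200440681082805208411022034084100210340640d02104006010819030048090190300280881002202404000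
def oU0 : ℕ := 0xffffffffffffffffffffffffffffffffffffffffffffffffffffffffffffffffffffffffffffffffffffffffffffffffffffffffffffffffffffffffffffffffffffffffffffffffffffffffffffffffffffffffffffffffffffffffffffffffffffffffffffffffffffffffffffffffffffffffffffffffffffffffffffffffffffffffffffffff800
def oU1 : ℕ := 0xffffffffffffffffc0cffffffffffffffffe047fffff041ffffffffffffffff828fffffc08028fffffffffff043fffff828030083ff821fffffc087fffffffffffffffffffffffffffffffffffffe067ff829ffe0a7fffff031ffffffffffffffff830ffffffff818fffffffffffffffffffffffffffc04fff011ffffffffffe087fffffffe003fffff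
def oU2 : ℕ := 0x62124108300920e3ff8380320841c049023ffc24040ffe1201c83906012420fff0720a3fffff0700c408821ffe0e0107fffffffc147ff040127ff839080064148290521002c0300820c414019041ffc1cfff053ffc20049ffe1041c0500720c4207ff06206014fff0500c02080902004010840080023ff831ffe124100310a3ffc0c841051ffc007ff
def oE0 : ℕ := 0xfffffffffffffffffffffffffffffffffffffffffffffffffffffffffffffffffffffffffffffffffffffffffffffffffffffffffffffffffffffffffffffffffffffffffffffffffffffffffffffffffffffffffffffffffffffffffffffffffffffffffffffffffffffffffffffffffffffffffffffffffffffffffffffffe023fffffffffffff800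
def oE1 : ℕ := 0xffe087fffff04006410fff053ffc14fffffe083fffff061fffffffffffffc08018031ffc08021fffffffffff033fffff82801208418830fffffc0c7ffffe0c418028ffffffffffffffffffffffffe0a3ff829ffe064047ff063ffc10818ffffffff811ffe0c3ff829ffe083ff821ffffffff811fffffc1c7ff050083ffffffffffc147ff032003fffff
def oE2 : ℕ := 0x73ffc1c831ffffffff818ffe0a7ff828073ffc20830ffe0c014039050087fffffffe0c7fffff04208410008ffe0c018ffffffffffffff0320c3ff849051ffffffff0600a41882807208418020031ffc18fff053fffff829ffe0e7fffff0520c0187ff053ffc147ff063ffc18fff0200a4147ff040047ff830fffffc0c839073fffff841fffffc007ff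
def oN0 : ℕ := 0xffffffffffffffffffffffffffffffffffffffffffffffffffffffffffffffffffffffffffffffffffffffffffffffffffffffffffffffffffffffffffffffffffffffffffffffffffffffffffffffffffffffffffffffffffffffffffffffffffffffffffffffffffffffffffffffffffffffffffffffffffffe023ffffffffffffffffffffffff800
def oN1 : ℕ := 0xffffffffffffffffffffffffffffffffffffffffffffffffffffffffffffffffffffffffff810ffffffffffffffffffffffffffffffffffffffc0cffffffffffffffffffffffffffffffffffffffe067ffffffffffffffff023fffffffffffffffffffffffffffffffffffffffffffffffffffffffffffffff011ffffffffffe003ffffffffffffffff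
def oN2 : ℕ := 0xffffffffffffffffc20fffffffffff828ffe12418fff0320c028839ffffffff820fffffc187ff0a1ffffffff073fffff8110920a7ff8400a1fffff838ffffffffffffffffc18ffffffffffffffffffffff849ffe107ff848ffe0a7fffffffffffff838ffffffff808043ffffffff0b3ffc0c7fffffffc307fffffffffffff073ffffffffffe100007ff
def oN3 : ℕ := 0x500c414831032087ff8280500a008fff053fffff820fffffffffff0500c410fff0520a7fffffffe0440c831ffe0a010ffffffffc20fffffe0a3fffff05206018030020083ff8210400840c029011ffc1c7ff033ffc087fffffffc0482906008014fff0620a018fffffe08418831ffe087ff8180700e7ff830fffffc0c039fffffc1c030001ffffffff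
def oF0 : ℕ := 0xfffffffffffffffffffffffffffffffff061fffffffffffffffffffffffffffffffffffc147ffffffffffffffffffffffffffffffffffffffffffffffffe043ff821fffffffffffffffffffffffffffc0cfffffffffffffffffffffffffffffffffffffffffc0c7ffffffffff809ffffffffffffffffffffffffe003fffffffffffffffffffffffffff
def oF1 : ℕ := 0xfffffc14ffffffffffffffffffffffffffffffc18818ffffffff811021ffffffffffffffff828063ffffffffffe087fffffffffffffffffffffc08829fffffffffffffffffff819ffe027fffffffe043fffffffe0c3ff821ffe08414fff0520a3ff820053ffffffff041ffffffff061ffc047ffffffffffffffffffffffffffe063fffff050064007ff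
def oF2 : ℕ := 0x62103ff8280421040c0310400e020851ffe0c3fffff0800a4187ffffe08420011062123fffffffe10414029051ffc1c0390320c00c8390700e3fffff041ffc287ff0720a420fff061ffc28039083fffff831021ffc247ff083fffff831fffffc24fffffe0a3ff830ffe0c0207ffffe0e3ff8410700841c839083ffc18848093ffc04048ffffffff800
/-- the 8-set and the 28-set -/
def mS : ℕ := 0x8002000050020002100400
def mT : ℕ := 0x20031818403014456d88a004e

theorem inT1 : InG Q t1 := word_of (L := [tX, tY, tX, tY, tX, tW]) (mem3 inX inY inW) (by simp) (by decide +kernel)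
theorem inT2 : InG Q t2 := word_of (L := [tY, tX, tY, tW, tX, tW, tX]) (mem3 inX inY inW) (by simp only [_root_.List.cons_subset, _root_.List.mem_cons, _root_.List.not_mem_nil, _root_.or_false, _root_.true_or, _root_.or_true, _root_.List.nil_subset, _root_.List.subset_cons_of_subset, _root_.and_self]) (by decide +kernel)
theorem inTq : InG Q tq := word_of (L := [t1, t2, t1]) (mem2 inT1 inT2) (by simp) (by decide +kernel)
theorem inTsE : InG Q tsE := word_of (L := [tY, tY, tY, tY, tW]) (mem3 inX inY inW) (by simp) (by decide +kernel)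
theorem inTsN : InG Q tsN := word_of (L := [tX, tY, tX, tY]) (mem3 inX inY inW) (by simp) (by decide +kernel)
theorem inTf1 : InG Q tf1 := word_of (L := [tW, tW]) (mem3 inX inY inW) (by simp) (by decide +kernel)
theorem inTf2 : InG Q tf2 := word_of (L := [tY, tX, tY, tW]) (mem3 inX inY inW) (by simp) (by decide +kernel)
theorem inTa1 : InG Q ta1 := word_of (L := [t1, t1]) (mem2 inT1 inT2) (by simp) (by decide +kernel)
theorem inTa2 : InG Q ta2 := word_of (L := [t2, t2]) (mem2 inT1 inT2) (by simp) (by decide +kernel)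

/-! ### the colors -/

def cU (j : Fin 100) : Fin 3 := if j = 0 then 0 else if bitM 100 adjA 0 j = 1 then 1 else 2
def szU : Fin 3 → ℕ := ![1, 22, 77]
def cE (j : Fin 100) : Fin 3 :=
  if j = 0 ∨ j = 6 then 0 else if bitM 100 adjA 0 j + bitM 100 adjA 6 j = 1 then 1 else 2
def szE : Fin 3 → ℕ := ![2, 42, 56]
def cN (j : Fin 100) : Fin 4 :=
  if j = 0 ∨ j = 10 then 0 else if bitM 100 adjA 0 j + bitM 100 adjA 10 j = 2 then 1
  else if bitM 100 adjA 0 j + bitM 100 adjA 10 j = 1 then 2 else 3
def szN : Fin 4 → ℕ := ![2, 6, 32, 60]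
def cF (j : Fin 100) : Fin 3 := if Nat.testBit mS j then 0 else if Nat.testBit mT j then 1 else 2
def szF : Fin 3 → ℕ := ![8, 28, 64]

theorem hszU : ∀ m, (Finset.univ.filter fun j => cU j = m).card = szU m := by decide +kernel
theorem hszE : ∀ m, (Finset.univ.filter fun j => cE j = m).card = szE m := by decide +kernel
theorem hszN : ∀ m, (Finset.univ.filter fun j => cN j = m).card = szN m := by decide +kernel
theorem hszF : ∀ m, (Finset.univ.filter fun j => cF j = m).card = szF m := by decide +kernel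

/-! ### the subgroups -/

variable {D : KFacts.HS.Mod G} {θ : G →* Perm (Fin 100)}

theorem rel (R : _root_.Cfsg.Agent.H904.HSCent.Rep G D θ) (g : G) (i j : Fin 100) : bitM 100 adjA (θ g i) (θ g j) = bitM 100 adjA i j := by
  have h1 : θ g ∈ Q := by rw [← R.range]; exact ⟨g, rfl⟩
  exact Q_le h1 i j

theorem inR (R : _root_.Cfsg.Agent.H904.HSCent.Rep G D θ) {P : ℕ} (h : InG Q P) : InG θ.range P := by rw [R.range]; exact h

theorem trans (R : _root_.Cfsg.Agent.H904.HSCent.Rep G D θ) (j : Fin 100) : ∃ g ∈ (⊤ : Subgroup G), θ g 0 = j := by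
  have hT : ∀ P ∈ [tX, tY, tW], InG θ.range P := fun P hP => inR R (mem3 inX inY inW P hP)
  obtain ⟨_, ⟨g, rfl⟩, h⟩ := orb_of_chk (x := 0) (P0 := tX) (L := [tX, tY, tW]) (C := oL) (hT _ (by simp)) hT
    (by decide +kernel) j (by revert j; decide +kernel)
  exact ⟨g, mem_top g, h⟩

theorem patU (R : _root_.Cfsg.Agent.H904.HSCent.Rep G D θ) : Pat θ (st θ 0) cU := by
  have hT : ∀ P ∈ [t1, t2], InG ((st θ 0).map θ) P :=
    mem2 (inMap_st (inR R inT1) (by decide +kernel)) (inMap_st (inR R inT2) (by decide +kernel))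
  exact pat_of_chk (hT t1 (by simp)) hT ![0, 2, 1] ![oU0, oU1, oU2] (by decide +kernel) (by decide +kernel)

theorem patE (R : _root_.Cfsg.Agent.H904.HSCent.Rep G D θ) : Pat θ (pst θ 0 6) cE := by
  have hT : ∀ P ∈ [tsE, tq], InG ((pst θ 0 6).map θ) P :=
    mem2 (inMap_pst (inR R inTsE) (by decide +kernel)) (inMap_pst (inR R inTq) (by decide +kernel))
  exact pat_of_chk (hT tsE (by simp)) hT ![0, 2, 1] ![oE0, oE1, oE2] (by decide +kernel) (by decide +kernel)

theorem patN (R : _root_.Cfsg.Agent.H904.HSCent.Rep G D θ) : Pat θ (pst θ 0 10) cN := by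
  have hT : ∀ P ∈ [tsN, tq], InG ((pst θ 0 10).map θ) P :=
    mem2 (inMap_pst (inR R inTsN) (by decide +kernel)) (inMap_pst (inR R inTq) (by decide +kernel))
  exact pat_of_chk (hT tsN (by simp)) hT ![0, 6, 1, 3] ![oN0, oN1, oN2, oN3] (by decide +kernel) (by decide +kernel)

theorem patF (R : _root_.Cfsg.Agent.H904.HSCent.Rep G D θ) : Pat θ (pcol θ cF) cF := by
  have hT : ∀ P ∈ [tf1, tf2], InG ((pcol θ cF).map θ) P :=
    mem2 (inMap_pcol (inR R inTf1) (by decide +kernel)) (inMap_pcol (inR R inTf2) (by decide +kernel))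
  exact pat_of_chk (hT tf1 (by simp)) hT ![10, 1, 0] ![oF0, oF1, oF2] (by decide +kernel) (by decide +kernel)

theorem card_U (R : _root_.Cfsg.Agent.H904.HSCent.Rep G D θ) : Nat.card (st θ 0) = 443520 := by
  have h1 := card_of_trans (θ := θ) (K := ⊤) (i₀ := 0) (trans R)
  rw [card_top, card, top_inf_eq] at h1
  have h2 : n_hs = 100 * 443520 := by decide
  omega

theorem inv_U (R : _root_.Cfsg.Agent.H904.HSCent.Rep G D θ) : ∀ h ∈ st θ 0, ∀ j, cU (θ h j) = cU j := by
  intro h hh j
  have e0 : θ h 0 = 0 := hh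
  have h2 : θ h j = 0 ↔ j = 0 := by
    constructor
    · intro h3
      exact (θ h).injective (by rw [h3, e0])
    · rintro rfl
      exact e0
  have h3 := rel R h 0 j
  rw [e0] at h3
  unfold cU
  simp only [h2]
  rw [show bitM 100 adjA 0 ((θ h j : Fin 100) : ℕ) = bitM 100 adjA 0 (j : ℕ) from h3]

theorem card_U6 (R : _root_.Cfsg.Agent.H904.HSCent.Rep G D θ) : Nat.card ↥(st θ 0 ⊓ st θ 6) = 20160 := by
  have h1 := (patU R).card_exact (sz := szU) (inv_U R) hszU 6
  rw [card_U R, show szU (cU 6) = 22 by decide +kernel] at h1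
  omega

theorem card_U10 (R : _root_.Cfsg.Agent.H904.HSCent.Rep G D θ) : Nat.card ↥(st θ 0 ⊓ st θ 10) = 5760 := by
  have h1 := (patU R).card_exact (sz := szU) (inv_U R) hszU 10
  rw [card_U R, show szU (cU 10) = 77 by decide +kernel] at h1
  omega

theorem card_pst {b : Fin 100} {a : ℕ} (h : Nat.card ↥(st θ 0 ⊓ st θ b) = a) (hb : (0 : Fin 100) ≠ b)
    (hP : ∃ g ∈ pst θ 0 b, θ g 0 = b) : Nat.card (pst θ 0 b) = 2 * a := by
  have h1 := card_eq (θ := θ) (pst θ 0 b) 0
  rw [pst_inf_st hb, h] at h1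
  have h2 : orb θ (pst θ 0 b) 0 = {0, b} := by
    ext j
    rw [mem_orb, Finset.mem_insert, Finset.mem_singleton]
    constructor
    · rintro ⟨g, hg, rfl⟩
      rcases mem_pst.1 hg with h | h
      · exact Or.inl h.1
      · exact Or.inr h.1
    · rintro (rfl | rfl)
      · exact ⟨1, _root_.OneMemClass.one_mem _, by rw [map_one]; rfl⟩
      · exact hP
  rw [h2, Finset.card_pair hb] at h1
  exact h1

theorem card_E (R : _root_.Cfsg.Agent.H904.HSCent.Rep G D θ) : Nat.card (pst θ 0 6) = 40320 :=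
  card_pst (card_U6 R) (by decide) (patE R 0 6 (by decide))

theorem card_N (R : _root_.Cfsg.Agent.H904.HSCent.Rep G D θ) : Nat.card (pst θ 0 10) = 11520 :=
  card_pst (card_U10 R) (by decide) (patN R 0 10 (by decide))

theorem dvd_F (R : _root_.Cfsg.Agent.H904.HSCent.Rep G D θ) : 448 ∣ Nat.card (pcol θ cF) := by
  have hinv : ∀ h ∈ pcol θ cF, ∀ j, cF (θ h j) = cF j := fun h hh => hh
  have h1 := (patF R).card_exact (sz := szF) hinv hszF 0
  have h2 := (patF R).card_exact (sz := szF) hinv hszF 1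
  rw [show szF (cF 0) = 64 by decide +kernel] at h1
  rw [show szF (cF 1) = 28 by decide +kernel] at h2
  have h3 : 64 ∣ Nat.card (pcol θ cF) := ⟨_, h1⟩
  have h4 : 28 ∣ Nat.card (pcol θ cF) := ⟨_, h2⟩
  exact Nat.lcm_dvd h3 h4

theorem ne_top_of_card {A : Subgroup G} {k : ℕ} (h1 : Nat.card A = k) (h2 : (k != n_hs) = true) : A ≠ ⊤ := by
  intro h3
  rw [h3, card_top, card] at h1
  rw [bne_iff_ne] at h2
  exact h2 h1.symm

theorem coU (R : _root_.Cfsg.Agent.H904.HSCent.Rep G D θ) : IsCoatom (st θ 0) := by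
  haveI := fin
  refine coatom_of (patU R) hszU 0 card (a := 443520) ?_ (ne_top_of_card (card_U R) (by decide)) ?_ ?_ ?_
  · rw [inf_idem, card_U R]
  · intro g hg
    have h1 := hg 0 rfl
    rw [mem_st]
    by_contra h2
    have h3 : cU (θ g 0) ≠ cU 0 := by
      generalize θ g 0 = v at h2
      revert v
      decide +kernel
    exact h3 h1
  · decide +kernel
  · intro K hK ht
    have h1 := card_of_trans ht
    have h2 : K ⊓ st θ 0 = st θ 0 := inf_eq_right.2 hK
    rw [h2, card_U R] at h1
    rw [← card_eq_iff_eq_top, h1, card]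
    decide

theorem fix_pst {b : Fin 100} (hb : (0 : Fin 100) ≠ b) {k : ℕ} {c : Fin 100 → Fin k}
    (key : ∀ v : Fin 100, c v = c 0 → v = 0 ∨ v = b) (hcb : c b = c 0) (g : G)
    (hg : ∀ j, c j = c 0 → c (θ g j) = c 0) : g ∈ pst θ 0 b := by
  have h1 := key _ (hg 0 rfl)
  have h2 := key _ (hg b hcb)
  rw [mem_pst]
  rcases h1 with h1 | h1 <;> rcases h2 with h2 | h2
  · exact absurd ((θ g).injective (h1.trans h2.symm)) hb
  · exact Or.inl ⟨h1, h2⟩
  · exact Or.inr ⟨h1, h2⟩
  · exact absurd ((θ g).injective (h1.trans h2.symm)) hb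

/-- an element given by a table -/
theorem tab_mem {A : Subgroup G} {P : ℕ} (h : InG (A.map θ) P) : ∃ g ∈ A, ∀ i : Fin 100, ((θ g i : Fin 100) : ℕ) = lk P i := by
  obtain ⟨_, ⟨g, hg, rfl⟩, h2⟩ := h
  exact ⟨g, hg, h2⟩

theorem coE (B : Base) (R : _root_.Cfsg.Agent.H904.HSCent.Rep G D θ) : IsCoatom (pst θ 0 6) := by
  haveI := fin
  refine coatom_of' (patE R) hszE 0 (a := 20160) ?_ (ne_top_of_card (card_E R) (by decide))
    (fix_pst (by decide) (by decide +kernel) (by decide)) ?_
  · rw [pst_inf_st (by decide), card_U6 R]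
  · intro K hK J hJ hJ1 hJ2 hJ3
    have hcases : ∀ J : Finset (Fin 3), cE 0 ∈ J → J ≠ {cE 0} → (∑ m ∈ J, szE m) * 20160 ∣ 44352000 →
        J = {0, 1} ∨ J = Finset.univ := by decide +kernel
    have hd : (∑ m ∈ J, szE m) * 20160 ∣ 44352000 := by
      refine hJ3.trans ?_
      have := card_subgroup_dvd_card K
      rwa [card] at this
    rcases hcases J hJ hJ1 hd with rfl | rfl
    · have h1 : 887040 ∣ Nat.card K := by
        refine dvd_trans ?_ hJ3
        decide
      have h5 := (ctx B).over [(2, 1), (5, 2)] [] [] 60 (by decide +kernel) h1 h1 (by simp)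
      rcases h5 with h5 | h5
      · exact h5
      · exact absurd h5 List.not_mem_nil
    · have h1 : 2016000 ∣ Nat.card K := by
        refine dvd_trans ?_ hJ3
        decide
      have h5 := (ctx B).over [(2, 1), (11, 1)] [22] [] 60 (by decide +kernel) h1 h1 (by simp)
      rcases h5 with h5 | h5
      · exact h5
      · exfalso
        have hcK : Nat.card K = 2016000 := by
          have h6 := card_mul_index K
          rw [List.mem_singleton.1 h5, card] at h6
          have : n_hs = 2016000 * 22 := by decide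
          omega
        have ht : ∀ j, ∃ g ∈ K, θ g 0 = j := fun j => mem_orb.1 ((hJ2 j).2 (Finset.mem_univ _))
        have hle : st θ 0 ⊓ st θ 6 ≤ K ⊓ st θ 0 := by
          rw [← pst_inf_st (by decide)]
          exact inf_le_inf_right _ hK
        have hK0 : K ⊓ st θ 0 = st θ 0 ⊓ st θ 6 := by
          symm
          apply eq_of_le_of_card_ge hle
          have h6 := card_of_trans ht
          rw [card_U6 R]
          omega
        obtain ⟨d, hd, hd1, hd2⟩ := block_aux (R := bitM 100 adjA) (rel R) (x := 0) (b := 6) (y := 13) (by decide) ht hK0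
          (by
            obtain ⟨a, ha, ha'⟩ := tab_mem (θ := θ) (inMap_inf (inMap_inf (inMap_st (inR R inTa2) (i := 0) (by decide +kernel))
              (inMap_st (inR R inTa2) (i := 6) (by decide +kernel)) R.inj)
              (inMap_st (inR R inTa2) (i := 13) (by decide +kernel)) R.inj)
            obtain ⟨q, hq, hq'⟩ := tab_mem (θ := θ) (inMap_inf (inMap_inf (inMap_st (inR R inTq) (i := 0) (by decide +kernel))
              (inMap_st (inR R inTq) (i := 6) (by decide +kernel)) R.inj)
              (inMap_st (inR R inTq) (i := 13) (by decide +kernel)) R.inj)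
            intro v hv
            have h1 := ha' v
            rw [hv a ha] at h1
            have h2 := hq' v
            rw [hv q hq] at h2
            clear hv
            revert v
            decide +kernel)
        rcases hd with rfl | rfl
        · have ht' := trans_of (j := 13) ht
          have h6 := card_of_trans ht
          have h7 := card_of_trans ht'
          have h8 : K ⊓ st θ 13 ≤ K ⊓ st θ 0 := le_inf inf_le_left hd2
          have h9 : K ⊓ st θ 13 = K ⊓ st θ 0 := eq_of_le_of_card_ge h8 (by omega)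
          obtain ⟨m, hm, hm'⟩ := tab_mem (θ := θ) (inMap_inf (inMap_st (inR R inTa1) (i := 0) (by decide +kernel))
              (inMap_st (inR R inTa1) (i := 6) (by decide +kernel)) R.inj)
          rw [← hK0, ← h9] at hm
          have h10 : θ m 13 = 13 := hm.2
          have h11 := hm' 13
          rw [h10] at h11
          exact absurd h11 (by decide +kernel)
        · exact absurd hd1 (by decide +kernel)

theorem coN (B : Base) (R : _root_.Cfsg.Agent.H904.HSCent.Rep G D θ) : IsCoatom (pst θ 0 10) := by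
  haveI := fin
  refine coatom_of' (patN R) hszN 0 (a := 5760) ?_ (ne_top_of_card (card_N R) (by decide))
    (fix_pst (by decide) (by decide +kernel) (by decide)) ?_
  · rw [pst_inf_st (by decide), card_U10 R]
  · intro K hK J hJ hJ1 hJ2 hJ3
    have hcases : ∀ J : Finset (Fin 4), cN 0 ∈ J → J ≠ {cN 0} → (∑ m ∈ J, szN m) * 5760 ∣ 44352000 →
        J = Finset.univ := by decide +kernel
    have hd : (∑ m ∈ J, szN m) * 5760 ∣ 44352000 := by
      refine hJ3.trans ?_
      have := card_subgroup_dvd_card K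
      rwa [card] at this
    obtain rfl := hcases J hJ hJ1 hd
    have h1 : 576000 ∣ Nat.card K := by
      refine dvd_trans ?_ hJ3
      decide
    have h5 := (ctx B).over [(7, 1), (11, 1)] [77] [] 60 (by decide +kernel) h1 h1 (by simp)
    rcases h5 with h5 | h5
    · exact h5
    · exfalso
      have hcK : Nat.card K = 576000 := by
        have h6 := card_mul_index K
        rw [List.mem_singleton.1 h5, card] at h6
        have : n_hs = 576000 * 77 := by decide
        omega
      have ht : ∀ j, ∃ g ∈ K, θ g 0 = j := fun j => mem_orb.1 ((hJ2 j).2 (Finset.mem_univ _))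
      have hle : st θ 0 ⊓ st θ 10 ≤ K ⊓ st θ 0 := by
        rw [← pst_inf_st (by decide)]
        exact inf_le_inf_right _ hK
      have hK0 : K ⊓ st θ 0 = st θ 0 ⊓ st θ 10 := by
        symm
        apply eq_of_le_of_card_ge hle
        have h6 := card_of_trans ht
        rw [card_U10 R]
        omega
      obtain ⟨d, hd, hd1, hd2⟩ := block_aux (R := bitM 100 adjA) (rel R) (x := 0) (b := 10) (y := 6) (by decide) ht hK0
        (by
          obtain ⟨a, ha, ha'⟩ := tab_mem (θ := θ) (inMap_inf (inMap_inf (inMap_st (inR R inTa1) (i := 0) (by decide +kernel))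
            (inMap_st (inR R inTa1) (i := 10) (by decide +kernel)) R.inj)
            (inMap_st (inR R inTa1) (i := 6) (by decide +kernel)) R.inj)
          obtain ⟨q, hq, hq'⟩ := tab_mem (θ := θ) (inMap_inf (inMap_inf (inMap_st (inR R inTq) (i := 0) (by decide +kernel))
            (inMap_st (inR R inTq) (i := 10) (by decide +kernel)) R.inj)
            (inMap_st (inR R inTq) (i := 6) (by decide +kernel)) R.inj)
          intro v hv
          have h1 := ha' v
          rw [hv a ha] at h1
          have h2 := hq' v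
          rw [hv q hq] at h2
          clear hv
          revert v
          decide +kernel)
      rcases hd with rfl | rfl
      · exact absurd hd1 (by decide +kernel)
      · exact absurd hd1 (by decide +kernel)

theorem card_P5 [Finite G] [Fact (Nat.Prime 5)] (P5 : Sylow 5 G) : Nat.card P5 = 125 := by
  rw [P5.card_eq_multiplicity, card]
  have : n_hs.factorization 5 = 3 := by
    rw [show n_hs = 5 ^ 3 * 354816 by decide, Nat.factorization_mul (by norm_num) (by norm_num),
      Nat.factorization_pow, Finsupp.add_apply, Finsupp.smul_apply, (Fact.out : Nat.Prime 5).factorization_self,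
      Nat.factorization_eq_zero_of_not_dvd (by norm_num)]
    rfl
  rw [this]
  norm_num

/-- every color class of `cF` has three members -/
theorem three_F : ∀ m : Fin 3, ∃ a b c : Fin 100, cF a = m ∧ cF b = m ∧ cF c = m ∧ a ≠ b ∧ a ≠ c ∧ b ≠ c := by
  have h0 : cF 10 = 0 ∧ cF 20 = 0 ∧ cF 25 = 0 := by decide +kernel
  have h1 : cF 1 = 1 ∧ cF 2 = 1 ∧ cF 3 = 1 := by decide +kernel
  have h2 : cF 0 = 2 ∧ cF 4 = 2 ∧ cF 5 = 2 := by decide +kernel
  intro m
  fin_cases m
  · exact ⟨10, 20, 25, h0.1, h0.2.1, h0.2.2, by decide, by decide, by decide⟩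
  · exact ⟨1, 2, 3, h1.1, h1.2.1, h1.2.2, by decide, by decide, by decide⟩
  · exact ⟨0, 4, 5, h2.1, h2.2.1, h2.2.2, by decide, by decide, by decide⟩

theorem large_F (v u : Fin 100) : ∃ w, cF v = cF w ∧ w ≠ v ∧ w ≠ u := by
  obtain ⟨a, b, c, ha, hb, hc, hab, hac, hbc⟩ := three_F (cF v)
  by_cases h1 : a ≠ v ∧ a ≠ u
  · exact ⟨a, ha.symm, h1⟩
  by_cases h2 : b ≠ v ∧ b ≠ u
  · exact ⟨b, hb.symm, h2⟩
  refine ⟨c, hc.symm, ?_, ?_⟩
  · rintro rfl
    have h3 : a = u := by
      by_contra h
      exact h1 ⟨hac, h⟩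
    have h4 : b = u := by
      by_contra h
      exact h2 ⟨hbc, h⟩
    exact hab (h3.trans h4.symm)
  · rintro rfl
    have h3 : a = v := by
      by_contra h
      exact h1 ⟨h, hac⟩
    have h4 : b = v := by
      by_contra h
      exact h2 ⟨h, hbc⟩
    exact hab (h3.trans h4.symm)

/-- the row `HS` -/
theorem five (B : Base) : Sep 5 G := by
  have c := ctx B
  haveI := c.fin
  haveI := c.simple
  have hc := card
  obtain ⟨D, θ, R⟩ := exists_rep iso
  have p5 : Nat.Prime 5 := by norm_num
  haveI := Fact.mk p5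
  obtain ⟨P5⟩ : Nonempty (Sylow 5 G) := inferInstance
  have hP5 : 125 ∣ (Nat.card (normalizer ((P5 : Subgroup G) : Set G)) :) := by
    have h1 := card_P5 P5
    rw [← h1]
    exact card_dvd_of_le le_normalizer
  have ne5 : normalizer ((P5 : Subgroup G) : Set G) ≠ ⊤ := by
    intro h
    have hn : (P5 : Subgroup G).Normal := normalizer_eq_top_iff.1 h
    have h1 := card_P5 P5
    rcases hn.eq_bot_or_eq_top with h2 | h2
    · have h3 : Nat.card (P5 : Subgroup G) = 125 := h1
      rw [h2, card_bot] at h3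
      exact absurd h3 (by norm_num)
    · have h3 : Nat.card (P5 : Subgroup G) = 125 := h1
      rw [h2, card_top, hc] at h3
      exact absurd h3 (by decide)
  have f5 : ∀ p ∈ [5], Full p (normalizer ((P5 : Subgroup G) : Set G)) := by
    intro p hp; rw [List.mem_singleton.1 hp]
    exact full_normalizer p5 P5
  have kU := coU R
  have kE := coE B R
  have kN := coN B R
  have cardU := card_U R
  have cardE := card_E R
  have cardN := card_N R
  have dF := dvd_F R
  have neF : pcol θ cF ≠ ⊤ := by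
    intro h
    obtain ⟨g, -, hg⟩ := trans R 10
    have h1 : g ∈ pcol θ cF := by rw [h]; exact mem_top g
    have h2 : cF (θ g 0) = cF 0 := h1 0
    rw [hg] at h2
    exact absurd h2 (by decide +kernel)
  exact sep_five ne5 kU.1 kE.1 kN.1 neF
    (apart_of_coatom_dvd kU hP5 (by rw [cardU]; decide)).symm
    (apart_of_coatom_dvd kE hP5 (by rw [cardE]; decide)).symm
    (apart_of_coatom_dvd kN hP5 (by rw [cardN]; decide)).symm
    (c.apart hP5 dF [(2, 3), (3, 2), (11, 1)] [5] [] 60 f5 (by simp) (by decide +kernel))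
    (apart_of_coatoms kU kE (by rw [cardU, cardE]; decide))
    (apart_of_coatoms kU kN (by rw [cardU, cardN]; decide))
    (apart_st kU (patF R) (by decide +kernel))
    (apart_of_coatoms kE kN (by rw [cardE, cardN]; decide))
    (apart_pst kE (patF R) large_F)
    (apart_of_coatom_dvd kN dF (by rw [cardN]; decide))

end Cfsg.Agent.H38.RowHS
end

-- part: H89/Fi22Pts
section
/-!
# Subgroups of `Fi22` and the 3510 points (helper89)

`S K` : the points whose transposition lies in `K`. If `K ≠ ⊤` contains a subgroup `A` then `S K` is a union of orbits of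
`A`; the orbit lengths of `A` on the points restrict `|S K|`. `apart_of_lists` : two subgroups with disjoint lists are apart.
-/

set_option autoImplicit false
set_option maxRecDepth 100000

namespace Cfsg.Agent.H89.Fi22Pts

open Cfsg.Spor Cfsg.Spor.Fi22 Cfsg.Agent.Lib.PermNet Cfsg.Agent.Lib.PermNetOrbit
open Cfsg.Agent.Fischer.Fi22PtsRep Cfsg.Agent.Fischer.Fi22Order Cfsg.Agent.H940.MaxCls
open Subgroup

/-- the points whose transposition lies in `K` -/
def S (K : Subgroup Spor.Fi22) : Set ℕ := {p | ∃ g : Spor.Fi22, φ g 0 = p ∧ g * gen .a * g⁻¹ ∈ K}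

variable {K A B : Subgroup Spor.Fi22}

theorem S_lt {p : ℕ} (hp : p ∈ S K) : p < 3510 := by
  obtain ⟨g, rfl, -⟩ := hp
  exact φ_lt g (by norm_num)

theorem S_iff (g : Spor.Fi22) : φ g 0 ∈ S K ↔ g * gen .a * g⁻¹ ∈ K := by
  constructor
  · rintro ⟨h, h1, h2⟩
    have h3 : φ (h⁻¹ * g) 0 = 0 := by
      rw [map_mul, Equiv.Perm.mul_apply, ← h1, map_inv]
      simp only [_root_.Equiv.Perm.coe_inv, _root_.Equiv.symm_apply_apply]
    have h4 := stab_comm h3
    have h5 : g * gen .a * g⁻¹ = h * gen .a * h⁻¹ := by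
      calc g * gen .a * g⁻¹ = h * (h⁻¹ * g * gen .a) * g⁻¹ := by group
        _ = h * (gen .a * (h⁻¹ * g)) * g⁻¹ := by rw [h4]
        _ = h * gen .a * h⁻¹ := by group
    rw [h5]
    exact h2
  · intro h
    exact ⟨g, rfl, h⟩

theorem S_inv {k : Spor.Fi22} (hk : k ∈ K) {p : ℕ} (hp : p ∈ S K) : φ k p ∈ S K := by
  obtain ⟨g, rfl, h⟩ := hp
  rw [← Equiv.Perm.mul_apply, ← map_mul, S_iff]
  have : k * g * gen .a * (k * g)⁻¹ = k * (g * gen .a * g⁻¹) * k⁻¹ := by group
  rw [this]
  exact K.mul_mem (K.mul_mem hk h) (K.inv_mem hk)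

theorem S_finite : (S K).Finite := (Set.finite_Iio 3510).subset fun _ hp => S_lt hp

/-- a proper subgroup does not contain all the transpositions -/
theorem S_ncard_lt (hK : K ≠ ⊤) : (S K).ncard < 3510 := by
  by_contra hlt
  push Not at hlt
  have h0 : (Set.Iio 3510 : Set ℕ).ncard = 3510 := by
    rw [Set.ncard_eq_toFinset_card' (Set.Iio 3510)]; simp
  have h1 : S K = Set.Iio 3510 :=
    Set.eq_of_subset_of_ncard_le (fun p hp => S_lt hp) (by rw [h0]; exact hlt) (Set.finite_Iio 3510)
  apply hK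
  rw [eq_top_iff, ← normalClosure_a]
  apply Subgroup.closure_le K |>.2
  intro x hx
  rw [Group.mem_conjugatesOfSet_iff] at hx
  obtain ⟨y, hy, hxy⟩ := hx
  rw [Set.mem_singleton_iff] at hy
  subst hy
  obtain ⟨g, rfl⟩ := isConj_iff.1 hxy
  rw [SetLike.mem_coe, ← S_iff, h1]
  exact φ_lt g (by norm_num)

/-- the conjugate subgroup -/
theorem S_conj (g : Spor.Fi22) : (S (K.map (MulAut.conj g).toMonoidHom)).ncard = (S K).ncard := by
  have h1 : S (K.map (MulAut.conj g).toMonoidHom) = (φ g) '' S K := by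
    ext p
    constructor
    · rintro ⟨h, rfl, h1⟩
      rw [mem_map_conj] at h1
      refine ⟨φ (g⁻¹ * h) 0, ⟨g⁻¹ * h, rfl, ?_⟩, ?_⟩
      · have : g⁻¹ * h * gen .a * (g⁻¹ * h)⁻¹ = g⁻¹ * (h * gen .a * h⁻¹) * g := by group
        rw [this]
        exact h1
      · rw [map_mul, Equiv.Perm.mul_apply, map_inv]
        simp only [_root_.Equiv.Perm.coe_inv, _root_.Equiv.apply_symm_apply]
    · rintro ⟨_, ⟨h, rfl, h1⟩, rfl⟩
      refine ⟨g * h, by rw [map_mul, Equiv.Perm.mul_apply], ?_⟩
      rw [mem_map_conj]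
      have : g⁻¹ * (g * h * gen .a * (g * h)⁻¹) * g = h * gen .a * h⁻¹ := by group
      rw [this]
      exact h1
  rw [h1, Set.ncard_image_of_injective _ (φ g).injective]

/-- all proper overgroups `K` of `A` have `|S K| ∈ L` -/
def Prof (A : Subgroup Spor.Fi22) (L : List ℕ) : Prop := ∀ K : Subgroup Spor.Fi22, A ≤ K → K ≠ ⊤ → (S K).ncard ∈ L

theorem conj_le {g : Spor.Fi22} (h : ∀ x ∈ B, g * x * g⁻¹ ∈ K) : B ≤ K.map (MulAut.conj g⁻¹).toMonoidHom := by
  intro x hx
  rw [mem_map_conj, inv_inv]
  exact h x hx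

theorem conj_ne_top {g : Spor.Fi22} (h : K ≠ ⊤) : K.map (MulAut.conj g).toMonoidHom ≠ ⊤ := by
  intro h1
  apply h
  rw [eq_top_iff]
  intro x _
  have h2 : g * x * g⁻¹ ∈ K.map (MulAut.conj g).toMonoidHom := by rw [h1]; exact mem_top _
  rw [mem_map_conj] at h2
  have h3 : g⁻¹ * (g * x * g⁻¹) * g = x := by group
  rwa [h3] at h2

/-- **disjoint lists** -/
theorem apart_of_lists {L M : List ℕ} (hA : Prof A L) (hB : Prof B M) (h : ∀ x ∈ L, x ∉ M) : Apart A B := by
  intro g K h1 h2
  by_contra hK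
  have h3 := hA K h1 hK
  have h4 := hB _ (conj_le h2) (conj_ne_top hK)
  rw [S_conj] at h4
  exact h _ h3 h4

/-! ### Invariant sets -/

open Classical in
/-- the number of points of an invariant set -/
theorem ncard_inv {L : List (List Gen)} (hA : ∀ w ∈ L, wd w ∈ A) (D : List (ℕ × ℕ × ℕ))
    (hpc : ∀ t ∈ D, (bits (2 ^ 12) (sat (nws L) t.2.1 (2 ^ t.1))).card = t.2.2)
    (hcov : ∀ p < 3510, ∃ t ∈ D, (sat (nws L) t.2.1 (2 ^ t.1)).testBit p = true)
    (hsum : (D.map fun t => t.2.2).sum = 3510) {Y : Set ℕ} (hY : ∀ p ∈ Y, p < 3510)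
    (hinv : ∀ g ∈ A, ∀ p ∈ Y, φ g p ∈ Y) :
    Y.ncard = (D.map fun t => if t.1 ∈ Y then t.2.2 else 0).sum := by
  -- the points of the saturation
  have key : ∀ t : ℕ × ℕ × ℕ, ∀ p, (sat (nws L) t.2.1 (2 ^ t.1)).testBit p = true → ∃ g ∈ A, φ g t.1 = p := by
    intro t p hp
    obtain ⟨_, ⟨g, hg, rfl⟩, hg'⟩ := sat_point_spec (K := A.map φ) (nws_ok L) (by
      intro w hw
      obtain ⟨v, hv, rfl⟩ := List.mem_map.1 hw
      exact ⟨wd v, hA v hv, φ_wd v⟩) t.2.1 hp
    exact ⟨g, hg, hg'⟩
  have hiff : ∀ t : ℕ × ℕ × ℕ, ∀ p, (sat (nws L) t.2.1 (2 ^ t.1)).testBit p = true → (p ∈ Y ↔ t.1 ∈ Y) := by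
    intro t p hp
    obtain ⟨g, hg, rfl⟩ := key t p hp
    constructor
    · intro h
      have h1 := hinv g⁻¹ (A.inv_mem hg) _ h
      rwa [← Equiv.Perm.mul_apply, ← map_mul, inv_mul_cancel, map_one, Equiv.Perm.one_apply] at h1
    · exact hinv g hg _
  -- union bounds
  have hbound : ∀ (Z : Set ℕ) (hZ : ∀ p ∈ Z, p < 3510)
      (hZi : ∀ t : ℕ × ℕ × ℕ, ∀ p, (sat (nws L) t.2.1 (2 ^ t.1)).testBit p = true → p ∈ Z → t.1 ∈ Z),
      Z.ncard ≤ (D.map fun t => if t.1 ∈ Z then t.2.2 else 0).sum := by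
    intro Z hZ hZi
    have h1 : ∀ (E : List (ℕ × ℕ × ℕ)), (∀ t ∈ E, t ∈ D) → ∀ W : Set ℕ, (∀ p ∈ W, p ∈ Z ∧ ∃ t ∈ E, (sat (nws L) t.2.1 (2 ^ t.1)).testBit p = true) →
        W.ncard ≤ (E.map fun t => if t.1 ∈ Z then t.2.2 else 0).sum := by
      intro E
      induction E with
      | nil =>
        intro _ W hW
        have : W = ∅ := by
          ext p
          constructor
          · intro hp
            obtain ⟨_, t, ht, _⟩ := hW p hp
            exact absurd ht List.not_mem_nil
          · intro hp; exact absurd hp (Set.notMem_empty p)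
        rw [this, Set.ncard_empty]
        exact Nat.zero_le _
      | cons t E ih =>
        intro hE W hW
        rw [List.map_cons, List.sum_cons]
        set W1 : Set ℕ := {p | p ∈ W ∧ (sat (nws L) t.2.1 (2 ^ t.1)).testBit p = true} with hW1
        set W2 : Set ℕ := {p | p ∈ W ∧ ¬ (sat (nws L) t.2.1 (2 ^ t.1)).testBit p = true} with hW2
        have hu : W = W1 ∪ W2 := by
          ext p
          constructor
          · intro hp
            by_cases h : (sat (nws L) t.2.1 (2 ^ t.1)).testBit p = true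
            · exact Or.inl ⟨hp, h⟩
            · exact Or.inr ⟨hp, h⟩
          · rintro (hp | hp) <;> exact hp.1
        have h2 : W1.ncard ≤ if t.1 ∈ Z then t.2.2 else 0 := by
          split_ifs with hz
          · rw [← hpc t (hE t List.mem_cons_self), ← Set.ncard_coe_finset]
            refine Set.ncard_le_ncard (fun p hp => ?_) (Finset.finite_toSet _)
            rw [Finset.mem_coe, mem_bits]
            exact ⟨(hZ p (hW p hp.1).1).trans (by norm_num), hp.2⟩
          · have : W1 = ∅ := by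
              ext p
              constructor
              · intro hp
                exact absurd (hZi t p hp.2 (hW p hp.1).1) hz
              · intro hp; exact absurd hp (Set.notMem_empty p)
            rw [this, Set.ncard_empty]
        have h3 := ih (fun s hs => hE s (List.mem_cons_of_mem _ hs)) W2 (by
          intro p hp
          obtain ⟨h4, s, hs, h5⟩ := hW p hp.1
          refine ⟨h4, ?_⟩
          rcases List.mem_cons.1 hs with rfl | hs
          · exact absurd h5 hp.2
          · exact ⟨s, hs, h5⟩)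
        calc W.ncard ≤ W1.ncard + W2.ncard := by rw [hu]; exact Set.ncard_union_le _ _
          _ ≤ _ := Nat.add_le_add h2 h3
    exact h1 D (fun t ht => ht) Z fun p hp => ⟨hp, hcov p (hZ p hp)⟩
  have hYb := hbound Y hY fun t p hp h => (hiff t p hp).1 h
  obtain ⟨Z, hZdef⟩ : ∃ Z : Set ℕ, Z = Set.Iio 3510 \ Y := ⟨_, rfl⟩
  have hZm : ∀ p, p ∈ Z ↔ p < 3510 ∧ p ∉ Y := fun p => by rw [hZdef]; exact Iff.rfl
  have hZb := hbound Z (fun p hp => ((hZm p).1 hp).1) fun t p hp h => by
    rw [hZm] at h ⊢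
    by_cases ht : t.1 < 3510
    · exact ⟨ht, fun h1 => h.2 ((hiff t p hp).2 h1)⟩
    · exfalso
      obtain ⟨g, hg, rfl⟩ := key t p hp
      have h1 := φ_lt g⁻¹ h.1
      rw [← Equiv.Perm.mul_apply, ← map_mul, inv_mul_cancel, map_one, Equiv.Perm.one_apply] at h1
      exact ht h1
  have hYs : Y ⊆ Set.Iio 3510 := fun p hp => hY p hp
  have h3510 : (Set.Iio 3510 : Set ℕ).ncard = 3510 := by
    rw [Set.ncard_eq_toFinset_card' (Set.Iio 3510)]; simp
  have htot : Y.ncard + Z.ncard = 3510 := by
    rw [← h3510, hZdef, add_comm]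
    exact Set.ncard_sdiff_add_ncard_of_subset hYs (Set.finite_Iio 3510)
  have hsum2 : (D.map fun t => if t.1 ∈ Y then t.2.2 else 0).sum + (D.map fun t => if t.1 ∈ Z then t.2.2 else 0).sum ≤ 3510 := by
    refine le_trans (le_of_eq List.sum_map_add.symm) (le_trans (List.sum_le_sum (g := fun t => t.2.2) ?_) hsum.le)
    intro t _
    by_cases h1 : t.1 ∈ Y
    · rw [if_pos h1, if_neg (fun h2 => ((hZm _).1 h2).2 h1), add_zero]
    · rw [if_neg h1, zero_add]
      split_ifs
      · exact le_rfl
      · exact Nat.zero_le _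
  omega

/-! ### The checks -/

/-- the orbit lengths -/
noncomputable def chkN (L : List (List Gen)) (D : List (ℕ × ℕ × ℕ)) : Bool :=
  D.all fun t => Nat.beq (pc 12 (sat (nws L) t.2.1 (Nat.pow 2 t.1))) t.2.2 &&
    Nat.beq (Nat.shiftRight (sat (nws L) t.2.1 (Nat.pow 2 t.1)) (Nat.pow 2 12)) 0

/-- the union of the orbits -/
noncomputable def lorN (L : List (List Gen)) (D : List (ℕ × ℕ × ℕ)) : ℕ :=
  D.foldr (fun t r => Nat.lor (sat (nws L) t.2.1 (Nat.pow 2 t.1)) r) 0

/-- the orbits cover -/
noncomputable def chkC (L : List (List Gen)) (D : List (ℕ × ℕ × ℕ)) : Bool :=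
  Nat.beq (lorN L D) (Nat.sub (Nat.pow 2 3510) 1)

theorem chkN_spec {L : List (List Gen)} {D : List (ℕ × ℕ × ℕ)} (h : chkN L D = true) :
    ∀ t ∈ D, (bits (2 ^ 12) (sat (nws L) t.2.1 (2 ^ t.1))).card = t.2.2 := by
  intro t ht
  unfold chkN at h
  rw [List.all_eq_true] at h
  have h1 := h t ht
  rw [Bool.and_eq_true] at h1
  have h2 := Nat.eq_of_beq_eq_true h1.1
  have h3 : sat (nws L) t.2.1 (2 ^ t.1) >>> 2 ^ 12 = 0 := Nat.eq_of_beq_eq_true h1.2
  have hlt : sat (nws L) t.2.1 (2 ^ t.1) < 2 ^ 2 ^ 12 := by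
    rw [Nat.shiftRight_eq_div_pow] at h3
    exact (Nat.div_eq_zero_iff_lt (by positivity)).1 h3
  rw [← pc_eq 12 _ hlt]
  exact h2

theorem lorN_spec {L : List (List Gen)} {p : ℕ} : ∀ {D : List (ℕ × ℕ × ℕ)}, (lorN L D).testBit p = true →
    ∃ t ∈ D, (sat (nws L) t.2.1 (2 ^ t.1)).testBit p = true := by
  intro D
  induction D with
  | nil =>
    intro h
    change (0 : ℕ).testBit p = true at h
    rw [Nat.zero_testBit] at h
    exact absurd h (by decide)
  | cons t D ih =>
    intro h
    change (sat (nws L) t.2.1 (2 ^ t.1) ||| lorN L D).testBit p = true at h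
    rw [Nat.testBit_or, Bool.or_eq_true] at h
    rcases h with h | h
    · exact ⟨t, List.mem_cons_self, h⟩
    · obtain ⟨s, hs, h1⟩ := ih h
      exact ⟨s, List.mem_cons_of_mem _ hs, h1⟩

theorem chkC_spec {L : List (List Gen)} {D : List (ℕ × ℕ × ℕ)} (h : chkC L D = true) :
    ∀ p < 3510, ∃ t ∈ D, (sat (nws L) t.2.1 (2 ^ t.1)).testBit p = true := by
  intro p hp
  apply lorN_spec
  have h1 : lorN L D = 2 ^ 3510 - 1 := Nat.eq_of_beq_eq_true h
  rw [h1, Nat.testBit_two_pow_sub_one]
  simpa using hp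

/-! ### Subgroups of order divisible by 25 -/

theorem five_dvd (hK : 25 ∣ Nat.card K) {Y : Set ℕ} (hY : ∀ p ∈ Y, p < 3510)
    (hinv : ∀ g ∈ K, ∀ p ∈ Y, φ g p ∈ Y) : 5 ∣ Y.ncard := by
  have : Fact (Nat.Prime 5) := ⟨Nat.prime_five⟩
  obtain ⟨Q, hQ⟩ := Sylow.exists_subgroup_card_pow_prime (G := K) 5 (n := 2) hK
  have hQp : IsPGroup 5 Q := IsPGroup.of_card hQ
  have hfin : Finite Y := ((Set.finite_Iio 3510).subset fun p hp => hY p hp).to_subtype
  let act : MulAction Q Y :=
    { smul := fun g y => ⟨φ (g : K) y.1, hinv _ (g : K).2 _ y.2⟩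
      one_smul := fun y => Subtype.ext (by
        change φ (((1 : Q) : K) : Spor.Fi22) y.1 = y.1
        rw [OneMemClass.coe_one, OneMemClass.coe_one, map_one]
        rfl)
      mul_smul := fun g h y => Subtype.ext (by
        change φ (((g * h : Q) : K) : Spor.Fi22) y.1 = φ ((g : K) : Spor.Fi22) (φ ((h : K) : Spor.Fi22) y.1)
        rw [Subgroup.coe_mul, Subgroup.coe_mul, map_mul, Equiv.Perm.mul_apply]) }
  have h1 := hQp.card_modEq_card_fixedPoints (α := Y)
  have h2 : Nat.card (MulAction.fixedPoints Q Y) = 0 := by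
    rw [Finite.card_eq_zero_iff, Set.isEmpty_coe_sort, Set.eq_empty_iff_forall_notMem]
    intro y hy
    obtain ⟨h, hh⟩ := exists_of_lt (hY _ y.2)
    have h3 : ∀ g : Q, φ (g : K) y.1 = y.1 := fun g => congrArg Subtype.val (hy g)
    let f : Q → stabL φ [0] := fun g => ⟨h⁻¹ * ((g : K) : Spor.Fi22) * h, by
      intro q hq
      rw [List.mem_singleton.1 hq, map_mul, map_mul, Equiv.Perm.mul_apply, Equiv.Perm.mul_apply, hh, h3, ← hh,
        ← Equiv.Perm.mul_apply, ← map_mul, inv_mul_cancel, map_one, Equiv.Perm.one_apply]⟩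
    let F : Q →* stabL φ [0] :=
      { toFun := f
        map_one' := Subtype.ext (by
          change h⁻¹ * (((1 : Q) : K) : Spor.Fi22) * h = 1
          rw [OneMemClass.coe_one, OneMemClass.coe_one]
          group)
        map_mul' := fun a b => Subtype.ext (by
          change h⁻¹ * (((a * b : Q) : K) : Spor.Fi22) * h = h⁻¹ * ((a : K) : Spor.Fi22) * h * (h⁻¹ * ((b : K) : Spor.Fi22) * h)
          rw [Subgroup.coe_mul, Subgroup.coe_mul]
          group) }
    have hF : Function.Injective F := by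
      intro a b hab
      have h4 : h⁻¹ * ((a : K) : Spor.Fi22) * h = h⁻¹ * ((b : K) : Spor.Fi22) * h := congrArg Subtype.val hab
      have h5 := mul_left_cancel (mul_right_cancel h4)
      exact Subtype.ext (Subtype.ext h5)
    have h6 := Subgroup.card_dvd_of_injective F hF
    rw [hQ, card_values.2.1] at h6
    exact absurd h6 (by norm_num)
  rw [h2] at h1
  exact (Nat.modEq_zero_iff_dvd.1 h1)

theorem apart_five {P : Subgroup Spor.Fi22} (hP : 25 ∣ Nat.card P) {L : List ℕ} (hA : Prof A L)
    (hL : ∀ x ∈ L, ¬ 5 ∣ x) : Apart A P := by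
  intro g K h1 h2
  by_contra hK
  have h3 : 25 ∣ Nat.card K := by
    refine hP.trans ?_
    rw [← card_map_conj g]
    exact card_dvd_of_le (map_conj_le h2)
  exact hL _ (hA K h1 hK) (five_dvd h3 (fun _ hp => S_lt hp) fun g hg p hp => S_inv hg hp)

/-- the length of the orbit of `0` -/
theorem orbit_dvd : ({p | ∃ k ∈ K, φ k 0 = p} : Set ℕ).ncard ∣ Nat.card K := by
  have h1 : ({p | ∃ k ∈ K, φ k 0 = p} : Set ℕ) = Subtype.val '' (MulAction.orbit K x0) := by
    ext p
    constructor
    · rintro ⟨k, hk, rfl⟩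
      exact ⟨k • x0, ⟨⟨k, hk⟩, rfl⟩, rfl⟩
    · rintro ⟨_, ⟨⟨k, hk⟩, rfl⟩, rfl⟩
      exact ⟨k, hk, rfl⟩
  rw [h1, Set.ncard_image_of_injective _ Subtype.val_injective, ← MulAction.index_stabilizer]
  exact Subgroup.index_dvd_card _

end Cfsg.Agent.H89.Fi22Pts
end

-- part: H89/SepFi22
section
/-!
# Row `Fi22` of S5906/S5907 (helper89)

Five pairwise apart subgroups: `C(a)` (orbits 1, 693, 2816 on the transpositions), `⟨b, …, i⟩` (351, 3159),
`N(⟨a, b⟩)` (3, 126, 1680, 1701), `N(⟨a, c⟩)` (2, 180, 1024, 2304), a Sylow 5-subgroup.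
-/

set_option autoImplicit false
set_option maxRecDepth 100000

namespace Cfsg.Agent.H89.SepFi22

open Cfsg.Spor Cfsg.Spor.Fi22 Cfsg.Agent.Lib.PermNet Cfsg.Agent.Lib.PermNetOrbit
open Cfsg.Agent.Fischer.Fi22PtsRep Cfsg.Agent.Fischer.Fi22Order Cfsg.Agent.H940.MaxCls
open Cfsg.Agent.H89.Fi22Pts
open Subgroup

/-- the subgroup generated by a list of words -/
def cl (L : List (List Gen)) : Subgroup Spor.Fi22 := _root_.Subgroup.closure {g | ∃ w ∈ L, wd w = g}

theorem mem_cl {L : List (List Gen)} {w : List Gen} (h : w ∈ L) : wd w ∈ cl L := subset_closure ⟨w, h, rfl⟩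

def LC : List (List Gen) := [[.a], [.c], [.d], [.e], [.f], [.g], [.h],
  [.b, .a, .c, .b, .d, .e, .f, .c, .d, .e, .h, .d, .i, .h, .e, .d, .c, .b, .f, .e, .d, .c, .a, .b]]
def LO : List (List Gen) := [[.b], [.c], [.d], [.e], [.f], [.g], [.h], [.i]]
def LW : List (List Gen) := [[.a], [.b], [.d], [.e], [.f],
  [.b, .a, .c, .b, .d, .c, .e, .g, .i, .h, .d, .e, .h, .c, .d, .b, .c, .a, .b, .c, .d, .h, .e, .d, .c, .a]]
def LV : List (List Gen) := [[.a], [.e], [.g], [.h], [.i], [.b, .a, .c, .b], [.d, .c, .e, .h, .d, .e, .h, .c, .d, .f]]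

def DC : List (ℕ × ℕ × ℕ) := [(0, 0, 1), (6, 4, 693), (1, 5, 2816)]
def DO : List (ℕ × ℕ × ℕ) := [(2, 5, 351), (0, 6, 3159)]
def DW : List (ℕ × ℕ × ℕ) := [(0, 2, 3), (16, 5, 126), (192, 5, 1680), (3, 8, 1701)]
def DV : List (ℕ × ℕ × ℕ) := [(0, 1, 2), (40, 6, 180), (5, 5, 1024), (1, 6, 2304)]

theorem nC : chkN LC DC = true := by decide +kernel
theorem cC : chkC LC DC = true := by decide +kernel
theorem nO : chkN LO DO = true := by decide +kernel
theorem cO : chkC LO DO = true := by decide +kernel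
theorem nW : chkN LW DW = true := by decide +kernel
theorem cW : chkC LW DW = true := by decide +kernel
theorem nV : chkN LV DV = true := by decide +kernel
theorem cV : chkC LV DV = true := by decide +kernel

theorem wd_one (x : Gen) : wd [x] = gen x := by simp [wd]

/-- a generator in `K` -/
theorem gen_mem_S {K : Subgroup Spor.Fi22} {x : Gen} (h : gen x ∈ K) {p : ℕ} (hp : φ (wd (cw x)) 0 = p) : p ∈ S K := by
  rw [← hp, S_iff, ← gen_cw]
  exact h

theorem pt_a : φ (wd (cw .a)) 0 = 0 := by
  rw [cw, wd_nil, map_one]; rfl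

theorem pt_e : φ (wd (cw .e)) 0 = 40 := by
  rw [φ_wd_apply]
  exact Nat.eq_of_beq_eq_true (by decide +kernel)

open Classical in
theorem inv_card {L : List (List Gen)} {D : List (ℕ × ℕ × ℕ)} (hn : chkN L D = true) (hc : chkC L D = true)
    (hs : (D.map fun t => t.2.2).sum = 3510) {K : Subgroup Spor.Fi22} (hK : cl L ≤ K) {Y : Set ℕ}
    (hY : ∀ p ∈ Y, p < 3510) (hinv : ∀ g ∈ K, ∀ p ∈ Y, φ g p ∈ Y) :
    Y.ncard = (D.map fun t => if t.1 ∈ Y then t.2.2 else 0).sum :=
  ncard_inv (A := cl L) (fun _ hw => mem_cl hw) D (chkN_spec hn) (chkC_spec hc) hs hY (fun g hg => hinv g (hK hg))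

theorem gen_mem {L : List (List Gen)} {x : Gen} (h : [x] ∈ L) {K : Subgroup Spor.Fi22} (hK : cl L ≤ K) : gen x ∈ K := by
  have h1 := hK (mem_cl h)
  rwa [wd_one] at h1

theorem profC : Prof (cl LC) [694] := by
  intro K hK hne
  have h1 := S_ncard_lt hne
  have h0 : 0 ∈ S K := gen_mem_S (gen_mem (x := .a) (by decide) hK) pt_a
  have h6 : 6 ∈ S K := gen_mem_S (gen_mem (x := .c) (by decide) hK) pt_c
  have h2 := inv_card nC cC (by decide) hK (fun _ hp => S_lt hp) (fun g hg p hp => S_inv hg hp)
  simp only [DC, List.map_cons, List.map_nil, List.sum_cons, List.sum_nil, if_pos h0, if_pos h6] at h2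
  rw [List.mem_singleton]
  split_ifs at h2 <;> omega

theorem profO : Prof (cl LO) [351] := by
  intro K hK hne
  have h1 := S_ncard_lt hne
  have h0 : 2 ∈ S K := gen_mem_S (gen_mem (x := .b) (by decide) hK) pt_b
  have h2 := inv_card nO cO (by decide) hK (fun _ hp => S_lt hp) (fun g hg p hp => S_inv hg hp)
  simp only [DO, List.map_cons, List.map_nil, List.sum_cons, List.sum_nil, if_pos h0] at h2
  rw [List.mem_singleton]
  split_ifs at h2 <;> omega

theorem profW : Prof (cl LW) [129, 1830, 1809] := by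
  intro K hK hne
  have h1 := S_ncard_lt hne
  have h0 : 0 ∈ S K := gen_mem_S (gen_mem (x := .a) (by decide) hK) pt_a
  have h6 : 16 ∈ S K := gen_mem_S (gen_mem (x := .d) (by decide) hK) pt_d
  have h2 := inv_card nW cW (by decide) hK (fun _ hp => S_lt hp) (fun g hg p hp => S_inv hg hp)
  simp only [DW, List.map_cons, List.map_nil, List.sum_cons, List.sum_nil, if_pos h0, if_pos h6] at h2
  simp only [List.mem_cons, List.not_mem_nil, or_false]
  split_ifs at h2 <;> omega

theorem profV : Prof (cl LV) [182, 1206, 2486] := by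
  intro K hK hne
  have h1 := S_ncard_lt hne
  have h0 : 0 ∈ S K := gen_mem_S (gen_mem (x := .a) (by decide) hK) pt_a
  have h6 : 40 ∈ S K := gen_mem_S (gen_mem (x := .e) (by decide) hK) pt_e
  have h2 := inv_card nV cV (by decide) hK (fun _ hp => S_lt hp) (fun g hg p hp => S_inv hg hp)
  simp only [DV, List.map_cons, List.map_nil, List.sum_cons, List.sum_nil, if_pos h0, if_pos h6] at h2
  simp only [List.mem_cons, List.not_mem_nil, or_false]
  split_ifs at h2 <;> omega

/-- a proper overgroup of `W` has an orbit of length three -/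
theorem orbW {K : Subgroup Spor.Fi22} (hK : cl LW ≤ K) (hne : K ≠ ⊤) : ({p | ∃ k ∈ K, φ k 0 = p} : Set ℕ).ncard = 3 := by
  have h0 : 0 ∈ ({p | ∃ k ∈ K, φ k 0 = p} : Set ℕ) := ⟨1, K.one_mem, by rw [map_one]; rfl⟩
  have hS : 0 ∈ S K := gen_mem_S (gen_mem (x := .a) (by decide) hK) pt_a
  have hsub : ({p | ∃ k ∈ K, φ k 0 = p} : Set ℕ) ⊆ S K := by
    rintro _ ⟨k, hk, rfl⟩
    exact S_inv hk hS
  have h1 := (Set.ncard_le_ncard hsub S_finite).trans_lt (S_ncard_lt hne)
  have h2 := inv_card nW cW (by decide) hK (Y := {p | ∃ k ∈ K, φ k 0 = p}) (fun p hp => S_lt (hsub hp)) (by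
    rintro g hg _ ⟨k, hk, rfl⟩
    exact ⟨g * k, K.mul_mem hg hk, by rw [map_mul, Equiv.Perm.mul_apply]⟩)
  have h3 := (orbit_dvd (K := K)).trans (card_subgroup_dvd_card K)
  rw [card_fi22] at h3
  simp only [DW, List.map_cons, List.map_nil, List.sum_cons, List.sum_nil, if_pos h0] at h2
  split_ifs at h2
  all_goals
    first
    | exact h2
    | (exfalso; omega)
    | (exfalso; rw [h2] at h3; revert h3; norm_num)

theorem ne_top {L : List (List Gen)} {U q : ℕ} (h : closedB (nws L) U = true) (h0 : tb U 0 = true)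
    (hq : tb U q = false) (hq' : q < 3510) : cl L ≠ ⊤ := by
  intro htop
  have h1 : ∀ g ∈ cl L, ∀ p, U.testBit (φ g p) = U.testBit p := by
    intro g hg
    unfold cl at hg
    induction hg using Subgroup.closure_induction with
    | mem x hx =>
      obtain ⟨w, hw, rfl⟩ := hx
      intro p
      rw [φ_wd]
      exact closedB_spec (nws_ok L) h _ (List.mem_map_of_mem hw) p
    | one => intro p; simp
    | mul x y _ _ hx hy => intro p; rw [map_mul, Equiv.Perm.mul_apply, hx, hy]
    | inv x _ hx => intro p; rw [← hx, map_inv]; simp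
  obtain ⟨g, hg⟩ := exists_of_lt hq'
  have h2 := h1 g (htop ▸ mem_top g) 0
  rw [hg, ← tb_eq, ← tb_eq, h0, hq] at h2
  exact absurd h2 (by decide)

theorem neC : cl LC ≠ ⊤ := ne_top (U := 1) (q := 1) (by decide +kernel) (by decide +kernel) (by decide +kernel) (by norm_num)
theorem neW : cl LW ≠ ⊤ := ne_top (U := 7) (q := 3) (by decide +kernel) (by decide +kernel) (by decide +kernel) (by norm_num)
theorem neV : cl LV ≠ ⊤ := ne_top (U := 65) (q := 1) (by decide +kernel) (by decide +kernel) (by decide +kernel) (by norm_num)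
theorem neO : cl LO ≠ ⊤ := ne_top (U := sat (nws LO) 6 (Nat.pow 2 0)) (q := 2) (by decide +kernel) (by decide +kernel)
  (by decide +kernel) (by norm_num)

/-- **the row `Fi22`** -/
theorem sep : Sep 5 Spor.Fi22 := by
  have h5 : Fact (Nat.Prime 5) := ⟨Nat.prime_five⟩
  obtain ⟨Q, hQ⟩ := Sylow.exists_subgroup_card_pow_prime (G := Spor.Fi22) 5 (n := 2) (by rw [card_fi22]; norm_num)
  have hQ' : 25 ∣ Nat.card Q := by rw [hQ]; norm_num
  have neQ : Q ≠ ⊤ := by
    intro h
    rw [h, card_top, card_fi22] at hQ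
    norm_num at hQ
  refine sep_five neC neO neW neV neQ (apart_of_lists profC profO (by decide)) (apart_of_lists profC profW (by decide))
    (apart_of_lists profC profV (by decide)) (apart_five hQ' profC (by decide))
    (apart_of_lists profO profW (by decide)) (apart_of_lists profO profV (by decide))
    (apart_five hQ' profO (by decide)) (apart_of_lists profW profV (by decide)) ?_
    (apart_five hQ' profV (by decide))
  intro g K h1 h2
  by_contra hK
  have h3 : 25 ∣ Nat.card K := by
    refine hQ'.trans ?_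
    rw [← card_map_conj g]
    exact card_dvd_of_le (map_conj_le h2)
  have h4 := five_dvd h3 (Y := {p | ∃ k ∈ K, φ k 0 = p}) (by
    rintro _ ⟨k, _, rfl⟩
    exact φ_lt k (by norm_num)) (by
    rintro g hg _ ⟨k, hk, rfl⟩
    exact ⟨g * k, K.mul_mem hg hk, by rw [map_mul, Equiv.Perm.mul_apply]⟩)
  rw [orbW h1 hK] at h4
  exact absurd h4 (by norm_num)

theorem five (_ : Cfsg.Agent.H940.Eng.Base) : Cfsg.Agent.H940.MaxCls.Sep 5 Cfsg.Spor.Fi22 := sep

end Cfsg.Agent.H89.SepFi22
end

-- part: H940/MCRows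
section
/-!
# The rows of S5906 (assembly, helper940), up to `B`
-/

set_option autoImplicit false

namespace Cfsg.Agent.H940.MaxCls

open Cfsg

theorem row_psp (F : Type) [Field F] [Fintype F] (m : ℕ) (hm : 2 ≤ m) (h : m = 2 → 3 ≤ Fintype.card F) :
    Sep 5 (PSp m F) := by
  rcases Nat.lt_or_ge 2 m with h3 | h2
  · exact H999.McPSp.psp_five (by omega)
  · obtain rfl : m = 2 := by omega
    have hF := h rfl
    obtain ⟨p, hpF⟩ := CharP.exists F
    haveI := hpF
    obtain ⟨n, hp, hc⟩ := FiniteField.card F p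
    by_cases hp2 : p = 2
    · subst hp2
      refine H889.SepSp.psp4_even (k := n) ?_ hc
      by_contra hlt
      have h1 : (n : ℕ) ≤ 1 := by omega
      have : 2 ^ (n : ℕ) ≤ 2 ^ 1 := Nat.pow_le_pow_right (by norm_num) h1
      omega
    · have hodd : Odd (Fintype.card F) := by rw [hc]; exact (hp.odd_of_ne_two hp2).pow
      rcases Nat.lt_or_ge (Fintype.card F) 5 with h5 | h5
      · refine H16.PSp4.psp4_3 F ?_
        obtain ⟨k, hk⟩ := hodd
        omega
      · exact H16.PSp4.psp4_odd F hodd h5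

theorem row_exc (G : Type) [Group G] (h : Lie.IsoChevG2 G ∨ Lie.IsoF4 G ∨ Lie.IsoChevE6 G ∨ Lie.IsoE7 G ∨ Lie.IsoE8 G
    ∨ Lie.Iso2E6 G ∨ Lie.Iso3D4 G ∨ Lie.IsoRee G ∨ Lie.Iso2F4 G ∨ Lie.IsoTits G) : Sep 5 G := by
  rcases h with h | h | h | h | h | h | h | h | h | h
  · exact H148.Oct.sep_isoChevG2 h
  · obtain ⟨F, i1, i2, ⟨e⟩⟩ := h
    exact (H744.SepExc.f4 F).of_mulEquiv e.symm
  · obtain ⟨F, i1, i2, ⟨e⟩⟩ := h
    exact (H744.SepExc.e6 F).of_mulEquiv e.symm
  · obtain ⟨F, i1, i2, ⟨e⟩⟩ := h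
    exact (H744.SepExc.e7 F).of_mulEquiv e.symm
  · obtain ⟨F, i1, i2, ⟨e⟩⟩ := h
    exact (H744.SepExc.e8 F).of_mulEquiv e.symm
  · obtain ⟨K, i1, i2, q, hq, hK, ⟨e⟩⟩ := h
    exact (H744.SepExc.te6 K q hq hK).of_mulEquiv e.symm
  · obtain ⟨K, i1, i2, q, hq, hK, ⟨e⟩⟩ := h
    exact (H812.D4.Row.d4 K q hq hK).of_mulEquiv e.symm
  · obtain ⟨K, i1, i2, m, hm, hK, ⟨e⟩⟩ := h
    exact (H963.ReeFive.five K m hm hK).of_mulEquiv e.symm
  · have hfin : Finite G := by
      obtain ⟨K, i1, i2, m, hm, hK, ⟨e⟩⟩ := h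
      exact Finite.of_equiv _ e.symm.toEquiv
    exact H136.TwF.sep_2F4 h
  · exact H933.TitsSep.tits h

theorem row_spor (B : Eng.Base) (hB : Sep 5 Spor.BabyMonster) (G : Type) [Group G]
    (h : IsSporadicGroup G) : Sep 5 G := by
  rcases h with h | h | h | h | h | h | h | h | h | h | h | h | h | h | h | h | h | h | h | h | h | h | h | h | h | h
  · obtain ⟨e⟩ := h; exact (H865.Sep.M11.five B).of_mulEquiv e.symm
  · obtain ⟨e⟩ := h; exact (H865.Sep.M12.five B).of_mulEquiv e.symm
  · obtain ⟨e⟩ := h; exact H867.Max.MTwentyTwo.sep.of_mulEquiv e.symm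
  · obtain ⟨e⟩ := h; exact H867.Max.MTwentyThree.sep.of_mulEquiv e.symm
  · obtain ⟨e⟩ := h; exact H867.Max.MTwentyFour.sep.of_mulEquiv e.symm
  · obtain ⟨e⟩ := h; exact (H305.SepJ1.five B).of_mulEquiv e.symm
  · obtain ⟨e⟩ := h; exact (H305.SepJ2.five B).of_mulEquiv e.symm
  · exact H305.SepJ3.five_of B h
  · obtain ⟨e⟩ := h; exact (RowJ4.five B).of_mulEquiv e.symm
  · obtain ⟨e⟩ := h; exact (H322.RowCo1.five B).of_mulEquiv e.symm
  · obtain ⟨e⟩ := h; exact (H89.SepCo2.five B).of_mulEquiv e.symm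
  · obtain ⟨e⟩ := h; exact (H970.Sep.RowCo3.five B).of_mulEquiv e.symm
  · obtain ⟨e⟩ := h; exact (H38.RowMcL.five B).of_mulEquiv e.symm
  · obtain ⟨e⟩ := h; exact (H38.RowHS.five B).of_mulEquiv e.symm
  · obtain ⟨e⟩ := h; exact (H212.SuzFive.five B).of_mulEquiv e.symm
  · obtain ⟨e⟩ := h; exact (H70.RowHe.five B).of_mulEquiv e.symm
  · obtain ⟨e⟩ := h; exact (H148.Ru.five B).of_mulEquiv e.symm
  · obtain ⟨e⟩ := h; exact (H493.Sep.RowON.five B).of_mulEquiv e.symm
  · obtain ⟨e⟩ := h; exact (H493.Sep.RowLy.five B).of_mulEquiv e.symm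
  · obtain ⟨e⟩ := h; exact (H89.SepFi22.five B).of_mulEquiv e.symm
  · obtain ⟨e⟩ := h; exact (H961.SepFi23.five B).of_mulEquiv e.symm
  · obtain ⟨e⟩ := h; exact (H256.Sep.RowFi24.five B).of_mulEquiv e.symm
  · obtain ⟨e⟩ := h; exact (H973.SepHN.five B).of_mulEquiv e.symm
  · obtain ⟨e⟩ := h; exact (H303.MaxTh.five B).of_mulEquiv e.symm
  · obtain ⟨e⟩ := h; exact hB.of_mulEquiv e.symm
  · obtain ⟨e⟩ := h; exact (H835.Mon.Row.five B).of_mulEquiv e.symm

/-- all rows, up to `B` -/
theorem rows_of (B : Eng.Base) (hB : Sep 5 Spor.BabyMonster) : Rows where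
  psl2_four := row_psl2_four
  psl2_three := row_psl2_three
  psl2_five := row_psl2_five
  psl3_two := fun F _ _ h => H807.MaxPSL.psl3_two F h
  psl3_three := fun F _ _ h => H896.L3.psl3_three Cfsg.Agent.S5774.result (fun H hH => Cfsg.Agent.S5775.result H hH)
    (fun H hH hS => Cfsg.Agent.S5776.result H hH hS) h
  psl3_five := fun F _ _ h => H896.L3.psl3_five Cfsg.Agent.S5774.result h
  psl_five := fun F _ _ n hn => H507.Mc.psl_five F n hn
  psu3_three := fun F _ _ h => H950.MC.psu3_three h
  psu3_two := fun F _ _ m hm h => H950.MC.psu3_two m hm h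
  psu3_five := fun F _ _ q h hq hn => H950.MC.psu3_five h hq hn
  psu_five := fun F _ _ n q h hn => by
    rcases Nat.lt_or_ge 4 n with h5 | h4
    · exact H234.SepPSU.psu_five_ge5 h h5
    · obtain rfl : n = 4 := by omega
      exact H950.Su.psu_five_four h
  psp_five := row_psp
  sz_four := fun F _ _ m hm h hp => H761.SzCls.four F m hm h hp
  sz_five := fun F _ _ m hm h hp => H761.SzCls.five F m hm h hp
  alt := fun n hn => H761.AltSep.alt hn
  alt5 := H807.MaxPSL.alt5
  oodd := fun G _ h => H79.OmNs.oodd h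
  oplus := fun G _ h => H79.OmNs.oplus h
  ominus := fun G _ h => H79.OmNs.ominus h
  exc := row_exc
  spor := row_spor B hB

end Cfsg.Agent.H940.MaxCls
end

private theorem dce_2e19a5077c90 : _root_.True := by
  try have : _root_.True := by simp only [_root_.Cfsg.Agent.H38.RowHS.loc.eq_1]
  try have : _root_.True := by simp only [_root_.Cfsg.Agent.H89.SepFi22.DC.eq_1]
  try have : _root_.True := by simp only [_root_.Cfsg.Agent.H322.RowCo1.loc.eq_1]
  try have : _root_.True := by simp only [_root_.Cfsg.Agent.H38.RowMcL.loc.eq_1]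
  try have : _root_.True := by simp only [_root_.Cfsg.Agent.H89.SepFi22.DO.eq_1]
  try have : _root_.True := by simp only [_root_.Cfsg.Agent.H89.SepFi22.DV.eq_1]
  try have : _root_.True := by simp only [_root_.Cfsg.Agent.H234.SepPSU.pre.eq_1]
  try have : _root_.True := by simp only [_root_.Cfsg.Agent.H234.SepPSU.frame.eq_1]
  try have : _root_.True := by simp only [_root_.Cfsg.Agent.H89.SepFi22.DW.eq_1]
  exact _root_.True.intro
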